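import Mathlib
import Cfsg.Agent.Lib.CGT2.Defs
import Cfsg.Agent.Lib.Push.Amalgam
import Cfsg.Prelude.Def_Classical
import Cfsg.Prelude.Def_Sz

/-!
Definitions for Baumann's theorem on 2-central involutions with 2-closed centralizer
(see `plans/BAUM.md`).
-/

set_option autoImplicit false

namespace CfsgLib.Baum

open Subgroup Cfsg CfsgLib.LAE CfsgLib.PLocal CfsgLib.Push CfsgLib.BHS CfsgLib.ZJ CfsgLib.SL2
  CfsgLib.Blocks CfsgLib.LocStr CfsgLib.CGT2
open scoped commutatorElement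

/-- The list of simple groups. -/
def Lst (X : Type*) [Group X] : Prop :=
  (∃ (F : Type) (_ : Field F) (_ : Fintype F) (n : ℕ), 2 ≤ n ∧ Fintype.card F = 2 ^ n ∧
      (Nonempty (X ≃* Matrix.ProjectiveSpecialLinearGroup (Fin 2) F) ∨
        Nonempty (X ≃* Matrix.ProjectiveSpecialLinearGroup (Fin 3) F) ∨
        Nonempty (X ≃* Cfsg.PSp 2 F))) ∨
    Cfsg.Lie.IsoSuzuki X ∨
    (∃ (F : Type) (_ : Field F) (_ : Fintype F) (n : ℕ), 2 ≤ n ∧ Fintype.card F = (2 ^ n) ^ 2 ∧
      Nonempty (X ≃* Cfsg.PSU 3 F (2 ^ n))) ∨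
    (∃ (F : Type) (_ : Field F) (_ : Fintype F) (n : ℕ), 3 < Fintype.card F ∧
      (Fintype.card F = 2 ^ n + 1 ∨ Fintype.card F + 1 = 2 ^ n) ∧
      Nonempty (X ≃* Matrix.ProjectiveSpecialLinearGroup (Fin 2) F))

variable {G : Type*} [Group G]

/-- `O₂(C(y))`. -/
def Tt (y : G) : Subgroup G := pCoreOf 2 (centralizer ({y} : Set G))

/-- `y` is an involution and `O₂(C(y))` is a Sylow 2-subgroup of `G`. -/
structure Cl (y : G) : Prop where
  ord : orderOf y = 2
  syl : IsSylowIn 2 (Tt y) ⊤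

/-- The standing hypothesis of the local analysis. -/
structure St (G : Type*) [Group G] : Prop where
  ex : ∃ x : G, Cl x
  cT : ∀ y : G, Cl y → centralizer (Tt y : Set G) ≤ Tt y

/-- A 2-subgroup containing an involution of type `Cl`. -/
def Loc2 (X : Subgroup G) : Prop := IsPGroup 2 X ∧ ∃ u ∈ X, Cl u

/-- The almost simple situation. -/
structure AS (L : Subgroup G) (x : G) : Prop where
  normal : L.Normal
  simple : IsSimpleGroup L
  ncomm : ¬ IsMulCommutative L
  cent : centralizer (L : Set G) = ⊥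
  gen : L ⊔ zpowers x = ⊤
  cl : Cl x

/-- The conclusion for a simple group. -/
def Out (G : Type*) [Group G] : Prop := Lst G ∧ ∀ y z : G, Cl y → Cl z → IsConj y z

/-- `P` controls the fusion of `x`. -/
def Ctl (x : G) (P : Subgroup G) : Prop :=
  centralizer ({x} : Set G) ≤ P ∧ ∀ g : G, g * x * g⁻¹ ∈ P → ∃ h ∈ P, h * x * h⁻¹ = g * x * g⁻¹

/-- A faithful module in which the centralizer of `C_V(T)` is 2-closed. -/
structure MF (V P T : Subgroup G) : Prop where
  elem : IsElementaryAbelian 2 V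
  norm : P ≤ normalizer (V : Set G)
  faith : P ⊓ centralizer (V : Set G) = ⊥
  syl : IsSylowIn 2 T P
  op : pCoreOf 2 P = ⊥
  cT : P ⊓ centralizer (cen V T : Set G) ≤ normalizer (T : Set G)

/-- A normal elementary abelian subgroup `Y` of `H` with `C_H(C_Y(S))` 2-closed. -/
structure MH0 (H S Y : Subgroup G) : Prop where
  elem : IsElementaryAbelian 2 Y
  le : Y ≤ H
  norm : H ≤ normalizer (Y : Set G)
  syl : IsSylowIn 2 S H
  cS : cen H (cen Y S) ≤ normalizer (S : Set G)

/-- The same, `Y` being generated by the conjugates of `C_Y(S)`. -/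
structure MH (H S Y : Subgroup G) : Prop extends MH0 H S Y where
  gen : Y ≤ nclIn (cen Y S) H

/-- `A` acts on `Y` as a root group. -/
structure RootOn (Y A : Subgroup G) : Prop where
  two : IsPGroup 2 A
  norm : A ≤ normalizer (Y : Set G)
  ne : ¬ A ≤ centralizer (Y : Set G)
  quad : ⁅Y, A⁆ ≤ centralizer (A : Set G)
  idx : (cen Y A).relIndex Y = (centralizer (Y : Set G)).relIndex A
  ti : ∀ a ∈ A, a ∉ centralizer (Y : Set G) → ∀ v ∈ Y, ⁅a, v⁆ = 1 → v ∈ cen Y A

/-- A group of characteristic two in which `C_H(Ω₁ Z(S))` is 2-closed. -/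
structure LH (S H : Subgroup G) : Prop where
  char : IsCharP 2 H
  syl : IsSylowIn 2 S H
  cz : cen H (omegaZ 2 S) ≤ normalizer (S : Set G)

/-- The subgroup generated by the groups `Ω₁ Z(T)`, `T` Sylow in `L`. -/
def VZ (L : Subgroup G) : Subgroup G := ⨆ (T : Subgroup G) (_ : IsSylowIn 2 T L), omegaZ 2 T

/-- The module `[V, L]`. -/
abbrev WZ (L : Subgroup G) : Subgroup G := ⁅VZ L, L⁆

/-- A pre-atom over `B`. -/
def PA (B L : Subgroup G) : Prop :=
  (∃ M, PU 2 B L M) ∧ ¬ pResOf 2 L ≤ centralizer (VZ L : Set G)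

/-- The subgroup generated by the `VZ L` over the flags `(T, L)`. -/
def UZ (Fl : Subgroup G → Subgroup G → Prop) (T : Subgroup G) : Subgroup G :=
  ⨆ (L : Subgroup G) (_ : Fl T L), VZ L

/-- A family of flags. -/
structure FamZ (Fl : Subgroup G → Subgroup G → Prop) : Prop where
  pa : ∀ {T L}, Fl T L → PA T L
  conj : ∀ {T L} (g : G), Fl T L → Fl (conjS g T) (conjS g L)

/-- A critical pair at distance `n + 1`. -/
def CritZ (Fl : Subgroup G → Subgroup G → Prop) (n : ℕ) : Prop :=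
  ∃ T T' L L', Rch Fl n T T' ∧ Fl T L ∧ Fl T' L' ∧ ¬ VZ L ≤ pCoreOf 2 L'

/-- All pre-atoms over the Baumann subgroups of the Sylow 2-subgroups. -/
def Top (T L : Subgroup G) : Prop := (∃ S, IsSylowIn 2 S ⊤ ∧ bau 2 S = T) ∧ PA T L

/-- Two pre-atoms over `B` with noncommuting modules, at a maximal level. -/
structure Src (x : G) (B L L' : Subgroup G) : Prop where
  cl : Cl x
  mem : x ∈ B
  le : B ≤ Tt x
  pa : PA B L
  pa' : PA B L'
  crit : ¬ VZ L ≤ pCoreOf 2 L'
  lev : ∀ X ≤ B, Loc2 X → L ≤ normalizer (X : Set G) ∨ L' ≤ normalizer (X : Set G) →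
    ∀ S, IsSylowIn 2 S (normalizer (X : Set G)) → B ≤ S → bau 2 S = B

/-- The product of the two modules. -/
abbrev Ug (L L' : Subgroup G) : Subgroup G := wA L ⊔ wA L'

/-- The intersection of the two modules. -/
abbrev Rg (L L' : Subgroup G) : Subgroup G := wA L ⊓ wA L'

/-- The group generated by the two blocks. -/
abbrev Kg (L L' : Subgroup G) : Subgroup G := eA L ⊔ eA L'

/-- The part of `R` that is central in `K`. -/
abbrev Zg (L L' : Subgroup G) : Subgroup G := cen (Rg L L') (Kg L L')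

/-- The Borel subgroup. -/
abbrev Bg (L L' : Subgroup G) : Subgroup G :=
  Ug L L' ⊔ (eA L ⊓ normalizer (Ug L L' : Set G) ⊔ eA L' ⊓ normalizer (Ug L L' : Set G))

/-- A pair of atoms over the product of their modules. -/
structure Pair (F F' : Type) [Field F] [Fintype F] [Field F'] [Fintype F'] (L L' : Subgroup G) where
  h : Half F (Ug L L') L (wA L) (wA L) (wA L')
  h' : Half F' (Ug L L') L' (wA L') (wA L') (wA L)
  nE : eA L ⊓ normalizer (Ug L L' : Set G) ≤ normalizer (eA L' : Set G)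
  nE' : eA L' ⊓ normalizer (Ug L L' : Set G) ≤ normalizer (eA L : Set G)

/-- `L, L'` form a pair over fields of order `q`. -/
def IsPair (q : ℕ) (L L' : Subgroup G) : Prop :=
  ∃ (F F' : Type) (_ : Field F) (_ : Fintype F) (_ : Field F') (_ : Fintype F'),
    Fintype.card F = q ∧ Fintype.card F' = q ∧ Nonempty (Pair F F' L L')

/-- The pair `L, L'` is adapted to `u`. -/
structure Ad (q : ℕ) (u : G) (L L' : Subgroup G) : Prop where
  pair : IsPair q L L'
  cl : Cl u
  cU : Ug L L' ≤ centralizer ({u} : Set G)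
  uq : ⁅cen (Tt u) (wA L), eA L⁆ ≤ wA L
  uq' : ⁅cen (Tt u) (wA L'), eA L'⁆ ≤ wA L'

/-- The group generated by the modules of the pairs adapted to `u` with `Rg = R`. -/
def Dr (q : ℕ) (u : G) (R : Subgroup G) : Subgroup G :=
  ⨆ (L : Subgroup G) (L' : Subgroup G) (_ : Ad q u L L' ∧ Rg L L' = R), Ug L L'

/-- The group generated by the blocks of the pairs adapted to `u` with `Rg = R`. -/
def Kr (q : ℕ) (u : G) (R : Subgroup G) : Subgroup G :=
  ⨆ (L : Subgroup G) (L' : Subgroup G) (_ : Ad q u L L' ∧ Rg L L' = R), Kg L L'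

/-- The group generated by the blocks of all pairs adapted to `u`. -/
def Kst (q : ℕ) (u : G) : Subgroup G :=
  ⨆ (L : Subgroup G) (L' : Subgroup G) (_ : Ad q u L L'), Kg L L'

/-- Blocks with different centres commute. -/
def Mut (G : Type*) [Group G] (q : ℕ) : Prop :=
  ∀ (u : G) (L₁ L₁' L₂ L₂' : Subgroup G), Ad q u L₁ L₁' → Ad q u L₂ L₂' → Rg L₁ L₁' ≠ Rg L₂ L₂' →
    ⁅Kg L₁ L₁', Kg L₂ L₂'⁆ = ⊥

/-- Involutions of type `Cl` commuting with `u` act as conjugates of elements of `R`. -/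
def Inn (G : Type*) [Group G] (q : ℕ) : Prop :=
  ∀ (u y : G) (L L' : Subgroup G), Ad q u L L' → Cl y → Commute u y →
    ∃ k ∈ Kr q u (Rg L L'), Commute u (k * y * k⁻¹) ∧
      ∃ r ∈ Rg L L', k * y * k⁻¹ * r ∈ centralizer (Kr q u (Rg L L') : Set G)

/-- `D` is dihedral of order `2 ^ (n + 1) ≥ 8` with rotation `ρ` and reflection `w`. -/
structure Dih (D : Subgroup G) (ρ w : G) (n : ℕ) : Prop where
  two : 2 ≤ n
  ord : orderOf ρ = 2 ^ n
  sq : w * w = 1
  inv : w * ρ * w⁻¹ = ρ⁻¹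
  nmem : w ∉ zpowers ρ
  eq : zpowers ρ ⊔ zpowers w = D

/-- A good element of `R`. -/
structure Gd (L L' : Subgroup G) (r : G) : Prop where
  mem : r ∈ Rg L L'
  nL : r ∉ centralizer (L : Set G)
  nL' : r ∉ centralizer (L' : Set G)

/-- `y` interchanges the two modules. -/
def Swp (y : G) (L L' : Subgroup G) : Prop := conjS y (wA L) = wA L' ∧ conjS y (wA L') = wA L

/-- `W` is a block for `u` with centre `r` (`q = 2`). -/
def Bk (u r : G) (W : Subgroup G) : Prop :=
  ∃ L L' : Subgroup G, Ad 2 u L L' ∧ wA L = W ∧ Rg L L' = zpowers r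

/-- The final configuration. -/
structure Fn (q : ℕ) (r : G) (L L' : Subgroup G) : Prop where
  st : St G
  simple : IsSimpleGroup G
  ncomm : ¬ IsMulCommutative G
  ad : Ad q r L L'
  mem : r ∈ Rg L L'
  top : Kr q r (Rg L L') = ⊤
  one : ∀ L₂ L₂', Ad q r L₂ L₂' → Rg L₂ L₂' = Rg L L'

end CfsgLib.Baum
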