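import Mathlib
import Cfsg.Agent.Lib.Baum.Defs
import Cfsg.Agent.Lib.Push.PUComm

/-! The module `VZ L` of a pre-atom. -/

set_option autoImplicit false

namespace CfsgLib.Baum

open Subgroup Cfsg CfsgLib.LAE CfsgLib.PLocal CfsgLib.Push CfsgLib.BHS CfsgLib.ZJ CfsgLib.SL2
  CfsgLib.Blocks CfsgLib.LocStr CfsgLib.CGT2
open scoped commutatorElement

variable {G : Type*} [Group G] {L T A Y : Subgroup G}

theorem omegaZ_le_VZ (hT : IsSylowIn 2 T L) : omegaZ 2 T ≤ VZ L :=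
  le_iSup₂_of_le (f := fun (T : Subgroup G) (_ : IsSylowIn 2 T L) => omegaZ 2 T) T hT le_rfl

theorem VZ_le_iff {K : Subgroup G} : VZ L ≤ K ↔ ∀ T, IsSylowIn 2 T L → omegaZ 2 T ≤ K :=
  iSup₂_le_iff

theorem VZ_le : VZ L ≤ L := VZ_le_iff.2 fun T hT => (omegaZ_le T).trans hT.le

theorem conjS_VZ_le (g : G) (L : Subgroup G) : conjS g (VZ L) ≤ VZ (conjS g L) := by
  rw [conjS_le_iff, VZ_le_iff]
  intro T hT
  rw [← conjS_le_iff, conjS_omegaZ]
  exact omegaZ_le_VZ (hT.conj g)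

theorem conjS_VZ (g : G) (L : Subgroup G) : conjS g (VZ L) = VZ (conjS g L) := by
  refine le_antisymm (conjS_VZ_le g L) ?_
  have := conjS_VZ_le g⁻¹ (conjS g L)
  rwa [conjS_inv_conjS, ← le_conjS_iff] at this

theorem conjS_WZ (g : G) (L : Subgroup G) : conjS g (WZ L) = WZ (conjS g L) := by
  rw [conjS_commutator, conjS_VZ]

theorem normalizer_le_normalizer_VZ : normalizer (L : Set G) ≤ normalizer (VZ L : Set G) :=
  fun g hg => by rw [mem_normalizer_iff_conjS, conjS_VZ, mem_normalizer_iff_conjS.1 hg]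

theorem le_normalizer_VZ : L ≤ normalizer (VZ L : Set G) :=
  le_normalizer.trans normalizer_le_normalizer_VZ

theorem WZ_le : WZ L ≤ VZ L := commutator_le_left_of_le_normalizer le_normalizer_VZ

theorem le_normalizer_WZ : L ≤ normalizer (WZ L : Set G) :=
  le_normalizer_commutator le_normalizer_VZ le_normalizer

theorem VZ_eq_nclIn [Finite G] (hS : IsSylowIn 2 T L) : VZ L = nclIn (omegaZ 2 T) L := by
  refine le_antisymm (VZ_le_iff.2 fun T hT => ?_) (nclIn_le (omegaZ_le_VZ hS) le_normalizer_VZ)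
  obtain ⟨g, hg, rfl⟩ := hS.exists_conj hT
  rw [← conjS_omegaZ]
  exact conjS_le_nclIn hg

theorem Q_le_centralizer_VZ : pCoreOf 2 L ≤ centralizer (VZ L : Set G) := by
  rw [le_centralizer_iff, VZ_le_iff]
  exact fun T hT => (omegaZ_le_centralizer T).trans (centralizer_anti hT.pCoreOf_le)

theorem VZ_le_omegaZ (h : IsCharP 2 L) : VZ L ≤ omegaZ 2 (pCoreOf 2 L) :=
  VZ_le_iff.2 fun _ hT => h.omegaZ_le hT.le hT.pCoreOf_le

theorem VZ_le_Q (h : IsCharP 2 L) : VZ L ≤ pCoreOf 2 L := (VZ_le_omegaZ h).trans (omegaZ_le _)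

theorem elemAb_VZ (h : IsCharP 2 L) : IsElementaryAbelian 2 (VZ L) :=
  elemAb_mono (elemAb_omegaZ _) (VZ_le_omegaZ h)

theorem VZ_le_centralizer (h : IsCharP 2 L) : VZ L ≤ centralizer (VZ L : Set G) :=
  (VZ_le_Q h).trans Q_le_centralizer_VZ

theorem cen_VZ (h : IsCharP 2 L) (hT : IsSylowIn 2 T L) : cen (VZ L) T = omegaZ 2 T :=
  le_antisymm (le_omegaZ (elemAb_mono (elemAb_VZ h) inf_le_left)
    (inf_le_left.trans ((VZ_le_Q h).trans hT.pCoreOf_le)) inf_le_right)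
    (le_inf (omegaZ_le_VZ hT) (omegaZ_le_centralizer T))

namespace PA

variable (h : PA T L)
include h

theorem pu : PU 2 T L h.1.choose := h.1.choose_spec
theorem le : T ≤ L := h.pu.SP
theorem QS : pCoreOf 2 L ≤ T := h.pu.QS
theorem syl : IsSylowIn 2 T L := h.pu.syl
theorem two : IsPGroup 2 T := h.pu.pS
theorem charP : IsCharP 2 L := h.pu.charP
theorem nn : ¬ T ≤ pCoreOf 2 L := h.pu.nn
theorem ab : ⁅T, T⁆ ≤ pCoreOf 2 L := h.pu.ab
theorem VQ : VZ L ≤ pCoreOf 2 L := VZ_le_Q h.charP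
theorem VS : VZ L ≤ T := h.VQ.trans h.QS
theorem elem : IsElementaryAbelian 2 (VZ L) := elemAb_VZ h.charP
theorem Z_le : omegaZ 2 T ≤ VZ L := omegaZ_le_VZ h.syl
theorem cen_V : cen (VZ L) T = omegaZ 2 T := cen_VZ h.charP h.syl

variable [Finite G]

theorem conj (g : G) : PA (conjS g T) (conjS g L) :=
  ⟨⟨_, h.pu.conj g⟩, fun h1 => h.2 (by
    rwa [← conjS_pResOf, ← conjS_VZ, ← conjS_centralizer, conjS_le_conjS_iff] at h1)⟩

theorem conj_of_mem {g : G} (hg : g ∈ L) : PA (conjS g T) L := by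
  have := h.conj g
  rwa [conjS_eq_of_mem hg] at this

theorem of_sylow {S : Subgroup G} (hS : IsSylowIn 2 S L) : PA S L := ⟨h.pu.of_sylow hS, h.2⟩

theorem not_le_normalizer : ¬ L ≤ normalizer (T : Set G) := h.pu.not_le_normalizer

theorem nclIn_eq : nclIn T L = L := h.pu.nclIn_eq

theorem E_sup : pResOf 2 L ⊔ T = L := h.syl.pResOf_sup

theorem cen_S_V : cen T (VZ L) = pCoreOf 2 L :=
  (h.pu.cen_cases le_normalizer_VZ Q_le_centralizer_VZ h.2).2

theorem le_Q_of_centralizer (hY : Y ≤ T) (hc : Y ≤ centralizer (VZ L : Set G)) : Y ≤ pCoreOf 2 L :=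
  (le_inf hY hc).trans h.cen_S_V.le

theorem commutator_V_le : ⁅VZ L, T⁆ ≤ VZ L :=
  commutator_le_left_of_le_normalizer (h.le.trans le_normalizer_VZ)

theorem not_commutator_V_le : ¬ ⁅VZ L, T⁆ ≤ centralizer (L : Set G) := fun h' =>
  h.2 (h.pu.pResOf_le_of_commutator_le (h.two.to_le h.VS) le_normalizer_VZ h')

theorem WZ_eq : WZ L = nclIn ⁅VZ L, T⁆ L := by
  have hn := le_normalizer_nclIn ⁅VZ L, T⁆ L
  refine le_antisymm ?_ (nclIn_le (commutator_mono le_rfl h.le) le_normalizer_WZ)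
  have := commutator_nclIn_le (A := T) (h.le.trans hn) le_normalizer_VZ hn
    ((commutator_comm _ _).le.trans (le_nclIn _ _))
  rwa [h.nclIn_eq, commutator_comm] at this

theorem exists_natData_V (hA : A ≤ T) (hAQ : ¬ A ≤ pCoreOf 2 L)
    (hoff : (cen (VZ L) A).relIndex (VZ L) ≤ (pCoreOf 2 L).relIndex A) :
    ∃ (F : Type) (_ : Field F) (_ : Fintype F) (D : NatData F ⊤ L (VZ L) (cen (VZ L) L)),
      D.img A = upU F ∧ D.img T = upU F ∧ D.ker = cen L (VZ L) ∧ D.fix = omegaZ 2 T ∧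
        A ⊔ pCoreOf 2 L = T ∧ (pCoreOf 2 L).relIndex T = Fintype.card F := by
  have := h.pu.exists_natData_cen h.VQ le_normalizer_VZ Q_le_centralizer_VZ h.2 hA hAQ hoff
  rwa [h.cen_V] at this

/-- A largest elementary abelian subgroup outside `O₂(L)`. -/
theorem exists_natData_of_maxElemIn (hA : A ∈ maxElemIn 2 T) (hAQ : ¬ A ≤ pCoreOf 2 L) :
    ∃ (F : Type) (_ : Field F) (_ : Fintype F) (D : NatData F ⊤ L (VZ L) (cen (VZ L) L)),
      D.img A = upU F ∧ D.img T = upU F ∧ D.ker = cen L (VZ L) ∧ D.fix = omegaZ 2 T ∧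
        A ⊔ pCoreOf 2 L = T ∧ (pCoreOf 2 L).relIndex T = Fintype.card F ∧
          (A ⊓ pCoreOf 2 L) ⊔ VZ L ∈ maxElemIn 2 T := by
  obtain ⟨F, _, _, D, d1, d2, d3, d4, d5, d6⟩ := h.exists_natData_V (mem_maxElemIn.1 hA).1 hAQ
    (relIndex_le_of_maxElemIn hA h.elem h.VS h.VQ Q_le_centralizer_VZ)
  refine ⟨F, inferInstance, inferInstance, D, d1, d2, d3, d4, d5, d6,
    inf_sup_mem_maxElemIn hA h.elem h.VS h.VQ Q_le_centralizer_VZ ?_⟩
  have h1 : cen (VZ L) A = D.fix := by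
    rw [d4, ← h.cen_V, ← d5, cen_sup,
      inf_of_le_left (le_inf inf_le_left (inf_le_left.trans (le_centralizer_iff.1 Q_le_centralizer_VZ)))]
  rw [h1, D.fix_relIndex, Nat.card_eq_fintype_card, ← d6]
  exact relIndex_le_of_le_right (mem_maxElemIn.1 hA).1 relIndex_ne_zero'

end PA

variable [Finite G] {T' L' : Subgroup G}

/-- The two indices of a critical pair agree. -/
theorem crit_relIndex (h : PA T L) (h' : PA T' L') (h1 : VZ L ≤ T') (h2 : VZ L' ≤ T)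
    (h3 : ¬ VZ L ≤ pCoreOf 2 L') :
    (pCoreOf 2 L').relIndex (VZ L) = (pCoreOf 2 L).relIndex (VZ L') := by
  have key : ∀ {T L T' L' : Subgroup G}, PA T L → PA T' L' → VZ L ≤ T' →
      VZ L' ≤ T → ¬ VZ L ≤ pCoreOf 2 L' →
      (pCoreOf 2 L').relIndex (VZ L) ≤ (pCoreOf 2 L).relIndex (VZ L') →
      (pCoreOf 2 L').relIndex (VZ L) = (pCoreOf 2 L).relIndex (VZ L') := by
    intro T L T' L' h h' h1 h2 h3 hle
    have e1 : cen (VZ L) (VZ L') = pCoreOf 2 L' ⊓ VZ L := by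
      rw [← h'.cen_S_V, inf_right_comm, inf_of_le_right h1]
    have h4 : ¬ VZ L' ≤ pCoreOf 2 L := fun h4 =>
      h3 (h'.le_Q_of_centralizer h1 (le_centralizer_iff.1 (h4.trans Q_le_centralizer_VZ)))
    obtain ⟨F, _, _, D, -, -, -, d4, d5, d6⟩ := h.exists_natData_V h2 h4
      (by rwa [e1, inf_relIndex_right])
    have e3 : cen (VZ L) (VZ L') = D.fix := by
      rw [d4, ← h.cen_V, ← d5, cen_sup, inf_of_le_left
        (le_inf inf_le_left (inf_le_left.trans (le_centralizer_iff.1 Q_le_centralizer_VZ)))]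
    refine le_antisymm hle ?_
    rw [← inf_relIndex_right (pCoreOf 2 L'), ← e1, e3, D.fix_relIndex, Nat.card_eq_fintype_card, ← d6]
    exact relIndex_le_of_le_right h2 relIndex_ne_zero'
  rcases le_total ((pCoreOf 2 L').relIndex (VZ L)) ((pCoreOf 2 L).relIndex (VZ L')) with h4 | h4
  · exact key h h' h1 h2 h3 h4
  · exact (key h' h h2 h1 (fun h5 => h3 (h'.le_Q_of_centralizer h1
      (le_centralizer_iff.1 (h5.trans Q_le_centralizer_VZ)))) h4).symm

/-- The natural module of a critical pair. -/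
theorem crit_nat (h : PA T L) (h' : PA T' L') (h1 : VZ L ≤ T') (h2 : VZ L' ≤ T)
    (h3 : ¬ VZ L ≤ pCoreOf 2 L') :
    ∃ (F : Type) (_ : Field F) (_ : Fintype F) (D : NatData F ⊤ L (VZ L) (cen (VZ L) L)),
      D.img (VZ L') = upU F ∧ D.img T = upU F ∧ D.ker = cen L (VZ L) ∧ D.fix = omegaZ 2 T ∧
        VZ L' ⊔ pCoreOf 2 L = T ∧ (pCoreOf 2 L).relIndex T = Fintype.card F := by
  refine h.exists_natData_V h2 (fun h4 =>
    h3 (h'.le_Q_of_centralizer h1 (le_centralizer_iff.1 (h4.trans Q_le_centralizer_VZ)))) ?_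
  have e1 : cen (VZ L) (VZ L') = pCoreOf 2 L' ⊓ VZ L := by
    rw [← h'.cen_S_V, inf_right_comm, inf_of_le_right h1]
  rw [e1, inf_relIndex_right, crit_relIndex h h' h1 h2 h3]

/-- The basic property of a critical pair. -/
theorem crit_sup (h : PA T L) (h' : PA T' L') (h1 : VZ L ≤ T') (h2 : VZ L' ≤ T)
    (h3 : ¬ VZ L ≤ pCoreOf 2 L') :
    VZ L' ⊔ pCoreOf 2 L = T ∧ VZ L ⊔ pCoreOf 2 L' = T' := by
  obtain ⟨F, _, _, D, -, -, -, -, d5, -⟩ := crit_nat h h' h1 h2 h3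
  obtain ⟨F', _, _, D', -, -, -, -, d5', -⟩ := crit_nat h' h h2 h1
    (fun h5 => h.nn (d5.ge.trans (sup_le h5 le_rfl)))
  exact ⟨d5, d5'⟩

omit [Finite G] in
theorem commutator_VZ_eq (hT : T ≤ L) (h : A ⊔ pCoreOf 2 L = T) : ⁅VZ L, T⁆ = ⁅VZ L, A⁆ := by
  rw [← h, sup_comm]
  exact commutator_sup_of_le_centralizer Q_le_centralizer_VZ
    ((le_sup_left.trans (h.le.trans hT)).trans (le_normalizer_pCoreOf L))

end CfsgLib.Baum
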