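import Mathlib
import Cfsg.Agent.Lib.Baum.Vz
import Cfsg.Agent.Lib.Push.Case2

/-! The amalgam method for families of pre-atoms. -/

set_option autoImplicit false
set_option linter.unusedSectionVars false

namespace CfsgLib.Baum

open Subgroup Cfsg CfsgLib.LAE CfsgLib.PLocal CfsgLib.Push CfsgLib.BHS CfsgLib.ZJ CfsgLib.SL2
  CfsgLib.Blocks CfsgLib.LocStr CfsgLib.CGT2
open scoped commutatorElement


variable {G : Type*} [Group G] [Finite G]

variable {Fl : Subgroup G → Subgroup G → Prop} {T L : Subgroup G}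

omit [Finite G] in
theorem VZ_le_UZ (h : Fl T L) : VZ L ≤ UZ Fl T :=
  le_iSup₂_of_le (f := fun (L : Subgroup G) (_ : Fl T L) => VZ L) L h le_rfl

/-- The flags of critical pairs at distance `c + 1` do not normalize `UZ`. -/
def NS (Fl : Subgroup G → Subgroup G → Prop) (c : ℕ) : Prop :=
  ∀ T T' L L', Rch Fl c T T' → Fl T L → Fl T' L' → ¬ VZ L ≤ pCoreOf 2 L' →
    ¬ L ≤ normalizer (UZ Fl T : Set G)

namespace FamZ

variable (h : FamZ Fl)
include h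

omit [Finite G] in
theorem UZ_le (T : Subgroup G) : UZ Fl T ≤ T := iSup₂_le fun _ hL => (h.pa hL).VS

theorem le (h1 : Fl T L) : T ≤ L := (h.pa h1).le
theorem QS (h1 : Fl T L) : pCoreOf 2 L ≤ T := (h.pa h1).QS
theorem VQ (h1 : Fl T L) : VZ L ≤ pCoreOf 2 L := (h.pa h1).VQ
theorem syl (h1 : Fl T L) : IsSylowIn 2 T L := (h.pa h1).syl

theorem conj_of_mem (h1 : Fl T L) {g : G} (hg : g ∈ L) : Fl (conjS g T) L := by
  have := h.conj g h1
  rwa [conjS_eq_of_mem hg] at this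

theorem conjS_UZ_le (g : G) (T : Subgroup G) : conjS g (UZ Fl T) ≤ UZ Fl (conjS g T) :=
  conjS_le_iff.2 (iSup₂_le fun L hL => by
    rw [← conjS_le_iff, conjS_VZ]
    exact VZ_le_UZ (h.conj g hL))

theorem conjS_UZ (g : G) (T : Subgroup G) : conjS g (UZ Fl T) = UZ Fl (conjS g T) := by
  refine le_antisymm (h.conjS_UZ_le g T) ?_
  have := h.conjS_UZ_le g⁻¹ (conjS g T)
  rwa [conjS_inv_conjS, ← le_conjS_iff] at this

theorem normalizer_le_UZ (T : Subgroup G) : normalizer (T : Set G) ≤ normalizer (UZ Fl T : Set G) :=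
  fun g hg => by rw [mem_normalizer_iff_conjS, h.conjS_UZ, mem_normalizer_iff_conjS.1 hg]

omit h [Finite G] in
theorem V_le_Q {c : ℕ} (hc : ∀ n < c, ¬ CritZ Fl n) {n : ℕ} (hn : n < c) {T' L' : Subgroup G}
    (h1 : Rch Fl n T T') (h2 : Fl T L) (h3 : Fl T' L') : VZ L ≤ pCoreOf 2 L' := by
  by_contra h4
  exact hc n hn ⟨T, T', L, L', h1, h2, h3, h4⟩

theorem V_le {c : ℕ} (hc : ∀ n < c, ¬ CritZ Fl n) {n : ℕ} (hn : n ≤ c) {T' : Subgroup G}
    (h1 : Rch Fl n T T') (h2 : Fl T L) : VZ L ≤ T' := by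
  cases h1 with
  | refl => exact (h.VQ h2).trans (h.QS h2)
  | step h3 h4 h5 => exact (V_le_Q hc (by omega) h3 h2 h4).trans (h.QS h5)

theorem crit {c : ℕ} (hc : ∀ n < c, ¬ CritZ Fl n) {T' L' : Subgroup G} (h1 : Rch Fl c T T')
    (h2 : Fl T L) (h3 : Fl T' L') (h4 : ¬ VZ L ≤ pCoreOf 2 L') :
    VZ L' ⊔ pCoreOf 2 L = T ∧ VZ L ⊔ pCoreOf 2 L' = T' :=
  crit_sup (h.pa h2) (h.pa h3) (h.V_le hc le_rfl h1 h2) (h.V_le hc le_rfl h1.symm h3) h4

section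

variable {c : ℕ} (hc : ∀ n < c, ¬ CritZ Fl n)
include hc

theorem crit_comm {T T' L L' : Subgroup G} (h1 : Rch Fl c T T') (h2 : Fl T L) (h3 : Fl T' L')
    (h4 : ¬ VZ L ≤ pCoreOf 2 L') : ⁅VZ L, T⁆ = ⁅VZ L', T'⁆ := by
  obtain ⟨e1, e2⟩ := h.crit hc h1 h2 h3 h4
  rw [commutator_VZ_eq (h.le h2) e1, commutator_VZ_eq (h.le h3) e2, commutator_comm]

omit hc in
theorem commutator_V_le {T L : Subgroup G} (h2 : Fl T L) : ⁅VZ L, T⁆ ≤ VZ L :=
  commutator_le_left_of_le_normalizer ((h.le h2).trans le_normalizer_VZ)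

theorem crit_symm {T T' L L' : Subgroup G} (h1 : Rch Fl c T T') (h2 : Fl T L) (h3 : Fl T' L')
    (h4 : ¬ VZ L ≤ pCoreOf 2 L') : ¬ VZ L' ≤ pCoreOf 2 L := fun h5 =>
  (h.pa h2).nn ((h.crit hc h1 h2 h3 h4).1.ge.trans (sup_le h5 le_rfl))

theorem crit_cen {T T' L L' : Subgroup G} (h1 : Rch Fl c T T') (h2 : Fl T L) (h3 : Fl T' L')
    (h4 : ¬ VZ L ≤ pCoreOf 2 L') : ⁅VZ L, T⁆ ≤ centralizer (T : Set G) := by
  conv_rhs => rw [← (h.crit hc h1 h2 h3 h4).1, LAE.centralizer_sup]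
  refine le_inf ?_ ((h.commutator_V_le h2).trans (le_centralizer_iff.1 Q_le_centralizer_VZ))
  rw [h.crit_comm hc h1 h2 h3 h4]
  exact (h.commutator_V_le h3).trans (VZ_le_centralizer (h.pa h3).charP)

/-- Shifting a critical pair. -/
theorem shift (ns : NS Fl c) {T T' L L' X : Subgroup G} (h1 : Rch Fl c T T') (h2 : Fl T L) (h3 : Fl T' L')
    (h4 : ¬ VZ L ≤ pCoreOf 2 L') (hX : X ≤ T') :
    ∃ T₀ L₀, Fl T₀ L ∧ Fl T₀ L₀ ∧ OppIn 2 L T T₀ ∧ ¬ VZ L₀ ≤ X := by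
  obtain ⟨M, hM⟩ := (h.pa h2).1
  obtain ⟨g, hg, hgM⟩ := hM.exists_not_mem
  have h5 := h.conj_of_mem h2 hg
  by_contra h6
  push Not at h6
  have h7 : UZ Fl (conjS g T) ≤ T' :=
    iSup₂_le fun L₀ h8 => (h6 _ L₀ h5 h8 (hM.oppIn hg hgM)).trans hX
  refine ns _ _ _ _ (h1.conj h.conj g) h5 (h.conj g h3) (fun h8 => h4 (by
    rwa [← conjS_pCoreOf, ← mem_normalizer_iff_conjS.1 (le_normalizer_VZ hg), conjS_le_conjS_iff] at h8)) ((hM.oppIn hg hgM).symm.le (le_normalizer.trans (h.normalizer_le_UZ _))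
    (h.V_le hc le_rfl h1.symm h3) (h.crit_symm hc h1 h2 h3 h4) ?_)
  rw [le_normalizer_iff_commutator_le_right]
  refine (commutator_mono le_rfl h7).trans ?_
  rw [← h.crit_comm hc h1 h2 h3 h4]
  exact (h.commutator_V_le h2).trans (VZ_le_UZ h5)

theorem exists_long_path (ns : NS Fl c) (hcrit : CritZ Fl c) (k : ℕ) :
    ∃ a s, IsPath Fl (c + k) a s ∧ (∀ j ≤ k, ¬ VZ (a (j + c + 1)) ≤ pCoreOf 2 (a j)) ∧
      ∀ j, c ≤ j → j < c + k → OppIn 2 (a (j + 1)) (s j) (s (j + 1)) := by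
  induction k with
  | zero =>
    obtain ⟨T, T', L, L', h1, h2, h3, h4⟩ := hcrit
    obtain ⟨a, s, e1, e2, e3, -⟩ := h1.symm.exists_path h3 h2
    refine ⟨a, s, e1, fun j hj => ?_, fun j _ _ => by omega⟩
    obtain rfl : j = 0 := by omega
    rwa [zero_add, e2, e3]
  | succ k ih =>
    obtain ⟨a, s, e1, e2, e3⟩ := ih
    have r := (e1.rch k c (by omega)).symm
    obtain ⟨T₀, L₀, f1, f2, f3, f4⟩ := h.shift hc ns r (e1 (k + c) (by omega)).2 (e1 k (by omega)).1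
      (e2 k le_rfl) (h.QS (e1 k (by omega)).2)
    rw [add_comm k c] at f1 f3
    refine ⟨_, _, e1.extend f1 f2, fun j hj => ?_, fun j h1 h2 => ?_⟩
    · rcases Nat.lt_or_eq_of_le hj with hj | rfl
      · rw [Function.update_of_ne (by omega), Function.update_of_ne (by omega)]
        exact e2 j (by omega)
      · rw [show k + 1 + c + 1 = c + k + 2 by omega, Function.update_self,
          Function.update_of_ne (by omega)]
        exact f4
    · rcases Nat.lt_or_eq_of_le (show j ≤ c + k by omega) with hj | rfl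
      · rw [Function.update_of_ne (by omega), Function.update_of_ne (by omega),
          Function.update_of_ne (by omega)]
        exact e3 j h1 hj
      · rw [Function.update_of_ne (by omega), Function.update_of_ne (by omega), Function.update_self]
        exact f3

theorem central {T T₁ T' L L₀ L' Y : Subgroup G} (h1 : Rch Fl c T T') (h2 : Fl T L) (h3 : Fl T' L')
    (h4 : ¬ VZ L ≤ pCoreOf 2 L') (ho : OppIn 2 L₀ T T₁) (hY : Y ≤ T₁) (hY₀ : ¬ Y ≤ pCoreOf 2 L₀)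
    (hY' : Y ≤ pCoreOf 2 L') : L₀ ≤ centralizer ((⁅VZ L, T⁆ : Subgroup G) : Set G) := by
  refine ho.le (le_centralizer_iff.1 (h.crit_cen hc h1 h2 h3 h4)) hY hY₀ ?_
  rw [h.crit_comm hc h1 h2 h3 h4]
  exact hY'.trans (Q_le_centralizer_VZ.trans (centralizer_anti (h.commutator_V_le h3)))

theorem not_le_of_conj {S₀ T' L₀ Lm L' X X' : Subgroup G} (h1 : Rch Fl c S₀ T') (h2 : Fl S₀ L₀)
    (h3 : Fl T' L') (h4 : ¬ VZ L₀ ≤ pCoreOf 2 L') (hm : Fl S₀ Lm) {g : G} (hg : g ∈ L₀)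
    (ho : OppIn 2 L₀ (conjS g S₀) S₀) (hX : X ≤ T') (hX' : ¬ VZ Lm ≤ X') (h5 : VZ L₀ ≤ X')
    (h6 : VZ (conjS g Lm) ≤ X') : ¬ VZ (conjS g Lm) ≤ X := fun h7 => by
  have f1 := h.conj g hm
  have f2 := h.conj_of_mem h2 hg
  have hY := h.V_le hc le_rfl h1.symm h3
  have hn : L₀ ≤ normalizer ((VZ (conjS g Lm) ⊔ VZ L₀ : Subgroup G) : Set G) := by
    refine ho.le (le_normalizer_sup ((h.le f1).trans le_normalizer_VZ)
      ((h.le f2).trans le_normalizer_VZ)) hY (h.crit_symm hc h1 h2 h3 h4) ?_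
    rw [le_normalizer_iff_commutator_le_right, commutator_comm]
    refine commutator_sup_le (le_sup_left.trans le_normalizer) (le_sup_right.trans le_normalizer) ?_
      (le_sup_of_le_right (commutator_le_left_of_le_normalizer
        (hY.trans ((h.le h2).trans le_normalizer_VZ))))
    refine le_sup_of_le_right ((commutator_mono (h7.trans hX) le_rfl).trans ?_)
    rw [commutator_comm, ← h.crit_comm hc h1 h2 h3 h4]
    exact h.commutator_V_le h2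
  refine hX' (le_trans ?_ (sup_le h6 h5))
  rw [← mem_normalizer_iff_conjS.1 (hn (inv_mem hg)), le_conjS_iff, inv_inv, conjS_VZ]
  exact le_sup_left

/-- The critical distance is at most two. -/
theorem le_one (ns : NS Fl c) (hcrit : CritZ Fl c) : c ≤ 1 := by
  by_contra hlt
  push Not at hlt
  obtain ⟨a, s, e1, e2, e3⟩ := h.exists_long_path hc ns hcrit (c + 2)
  have fl := fun j hj => (e1 j hj).1
  have fr := fun j hj => (e1 j hj).2
  have r := fun j hj => e1.rch j c hj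
  have o1 := e3 c le_rfl (by omega)
  have o0 := e3 (c + 1) (by omega) (by omega)
  have w0 := e2 0 (by omega)
  have w1 := e2 1 (by omega)
  have w2 := e2 2 (by omega)
  have w3 := e2 (c + 1) (by omega)
  have w4 := e2 (c + 2) (by omega)
  have r0 := (r 0 (by omega)).symm
  have r1 := (r 1 (by omega)).symm
  have r2 := (r 2 (by omega)).symm
  rw [zero_add] at w0 r0
  rw [add_comm 1 c] at w1 r1
  rw [add_comm 2 c] at w2 r2
  have z0 := h.central hc r2 (fr _ (by omega)) (fl _ (by omega)) w2 o0.symm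
    (h.V_le hc le_rfl r1.symm (fl _ (by omega)))
    (h.crit_symm hc r1 (fr _ (by omega)) (fl _ (by omega)) w1)
    (V_le_Q hc (by omega) (Rch.refl _) (fl 1 (by omega)) (fr 1 (by omega)))
  obtain ⟨g, hg, hg'⟩ := (h.syl (fl (c + 2) (by omega))).exists_conj (h.syl (fr (c + 1) (by omega)))
  have fg := h.conj g (fr (c + 2) (by omega))
  rw [hg'] at fg
  have r5 : Rch Fl (c - 1) (s 2) (s (c + 1)) := by
    have := e1.rch 2 (c - 1) (by omega)
    rwa [show 2 + (c - 1) = c + 1 by omega] at this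
  have w5 := h.not_le_of_conj hc (r (c + 2) (by omega)) (fl _ (by omega)) (fr _ (by omega))
    (h.crit_symm hc (r (c + 2) (by omega)).symm (fr _ (by omega)) (fl _ (by omega)) w4)
    (fr (c + 2) (by omega)) hg (hg'.symm ▸ o0) (h.QS (fl _ (by omega))) w2
    (V_le_Q hc (by omega) r5.symm (fr _ (by omega)) (fl _ (by omega)))
    (V_le_Q hc (by omega) r5.symm fg (fl _ (by omega)))
  rw [show c + 2 + c = c + 1 + c + 1 by omega] at w5
  have c1 := h.crit_comm hc (r (c + 1) (by omega)) fg (fr _ (by omega)) w5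
  have w3' := h.crit_symm hc (r (c + 1) (by omega)).symm (fr _ (by omega)) (fl _ (by omega)) w3
  have c2 := h.crit_comm hc (r (c + 1) (by omega)) (fl _ (by omega)) (fr _ (by omega)) w3'
  have c3 : ⁅VZ (a (c + 1)), s (c + 1)⁆ = ⁅VZ (a 2), s 2⁆ := by
    rw [c2, ← c1, ← h.crit_comm hc r2 (fr _ (by omega)) (fl _ (by omega)) w2, ← conjS_VZ]
    conv_lhs => rw [← hg']
    rw [← conjS_commutator]
    exact mem_normalizer_iff_conjS.1 (centralizer_le_normalizer _ (z0 hg))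
  refine (h.pa (fl (c + 1) (by omega))).not_commutator_V_le
    (le_centralizer_iff.1 (o1.symm.le (le_centralizer_iff.1 (h.crit_cen hc (r (c + 1) (by omega))
      (fl _ (by omega)) (fr _ (by omega)) w3')) (h.V_le hc le_rfl r0.symm (fl _ (by omega)))
      (h.crit_symm hc r0 (fr _ (by omega)) (fl _ (by omega)) w0) ?_))
  rw [c3]
  exact (V_le_Q hc hlt (e1.rch 0 1 (by omega)) (fl _ (by omega)) (fr _ (by omega))).trans
    (Q_le_centralizer_VZ.trans (centralizer_anti (h.commutator_V_le (fl _ (by omega)))))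

end

end FamZ

/-- A path of length four around `L` all of whose subpaths of length two are critical. -/
structure LocZ (Fl : Subgroup G → Subgroup G → Prop)
    (L Lr Lr2 Ll Ll2 Sr Sr2 Sl Sl2 : Subgroup G) : Prop where
  fam : FamZ Fl
  min : ∀ n < 1, ¬ CritZ Fl n
  fr : Fl Sr L
  fr' : Fl Sr Lr
  fr2 : Fl Sr2 Lr
  fr2' : Fl Sr2 Lr2
  fl : Fl Sl L
  fl' : Fl Sl Ll
  fl2 : Fl Sl2 Ll
  fl2' : Fl Sl2 Ll2
  opp : OppIn 2 L Sr Sl
  cr : ¬ VZ L ≤ pCoreOf 2 Lr2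
  cl : ¬ VZ L ≤ pCoreOf 2 Ll2
  cm : ¬ VZ Lr ≤ pCoreOf 2 Ll
  cm' : ¬ VZ Ll ≤ pCoreOf 2 Lr

namespace LocZ

section

variable {L Lr Lr2 Ll Ll2 Sr Sr2 Sl Sl2 : Subgroup G} (h : LocZ Fl L Lr Lr2 Ll Ll2 Sr Sr2 Sl Sl2)
include h

theorem symm : LocZ Fl L Ll Ll2 Lr Lr2 Sl Sl2 Sr Sr2 :=
  ⟨h.fam, h.min, h.fl, h.fl', h.fl2, h.fl2', h.fr, h.fr', h.fr2, h.fr2', h.opp.symm,
    h.cl, h.cr, h.cm', h.cm⟩

theorem adj {T A B : Subgroup G} (h1 : Fl T A) (h2 : Fl T B) : VZ A ≤ pCoreOf 2 B :=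
  FamZ.V_le_Q h.min zero_lt_one (Rch.refl T) h1 h2

theorem rr : Rch Fl 1 Sr Sr2 := (Rch.refl Sr).step h.fr' h.fr2
theorem rm : Rch Fl 1 Sr Sl := (Rch.refl Sr).step h.fr h.fl

theorem ab {T A : Subgroup G} (h1 : Fl T A) : ⁅T, T⁆ ≤ pCoreOf 2 A := (h.fam.pa h1).ab
theorem nQ {T A : Subgroup G} (h1 : Fl T A) : T ≤ normalizer (pCoreOf 2 A : Set G) :=
  (h.fam.le h1).trans (le_normalizer_pCoreOf A)
theorem nV {T A : Subgroup G} (h1 : Fl T A) : T ≤ normalizer (VZ A : Set G) :=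
  (h.fam.le h1).trans le_normalizer_VZ

theorem supr : VZ Lr2 ⊔ pCoreOf 2 L = Sr := (h.fam.crit h.min h.rr h.fr h.fr2' h.cr).1
theorem supr' : VZ L ⊔ pCoreOf 2 Lr2 = Sr2 := (h.fam.crit h.min h.rr h.fr h.fr2' h.cr).2
theorem supm : VZ Ll ⊔ pCoreOf 2 Lr = Sr := (h.fam.crit h.min h.rm h.fr' h.fl' h.cm).1
theorem cr' : ¬ VZ Lr2 ≤ pCoreOf 2 L := h.fam.crit_symm h.min h.rr h.fr h.fr2' h.cr
theorem V2_le : VZ Lr2 ≤ Sr := le_sup_left.trans h.supr.le
theorem V2_le_L : VZ Lr2 ≤ L := h.V2_le.trans (h.fam.le h.fr)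

theorem commr : ⁅VZ Lr2, Sr2⁆ ≤ cen (VZ L) Sr := by
  rw [← h.fam.crit_comm h.min h.rr h.fr h.fr2' h.cr]
  exact le_inf (h.fam.commutator_V_le h.fr) (h.fam.crit_cen h.min h.rr h.fr h.fr2' h.cr)

theorem commr' : ⁅VZ Lr2, pCoreOf 2 Lr⁆ ≤ cen (VZ L) Sr :=
  (commutator_mono le_rfl (h.fam.QS h.fr2)).trans h.commr

theorem commm : ⁅VZ Lr, Sr⁆ ≤ cen (VZ L) L := by
  have h1 := le_centralizer_iff.1 (h.fam.central h.min h.rm h.fr' h.fl' h.cm h.opp h.symm.V2_le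
    h.symm.cr' (h.adj h.fl2' h.fl2))
  exact le_inf (le_trans (le_inf (h.fam.commutator_V_le h.fr')
    (h1.trans (centralizer_anti (h.fam.le h.fr)))) ((h.fam.pa h.fr').cen_V.le.trans (h.fam.pa h.fr).Z_le)) h1

theorem V_le_D : VZ L ≤ DD 2 L Lr Ll :=
  le_inf (h.fam.VQ h.fr) (le_inf (h.adj h.fr h.fr') (h.adj h.fl h.fl'))

theorem comm_D : ⁅VZ Lr2, DD 2 L Lr Ll⁆ ≤ VZ L :=
  (commutator_mono le_rfl (inf_le_right.trans inf_le_left)).trans (h.commr'.trans inf_le_left)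

theorem V2_norm_D : VZ Lr2 ≤ normalizer (DD 2 L Lr Ll : Set G) :=
  le_normalizer_iff_commutator_le_right.2 (h.comm_D.trans h.V_le_D)

theorem norm_D : L ≤ normalizer (DD 2 L Lr Ll : Set G) := by
  refine h.opp.le ?_ h.symm.V2_le h.symm.cr' (DD_comm 2 L Lr Ll ▸ h.symm.V2_norm_D)
  rw [← h.supr]
  exact sup_le h.V2_norm_D (le_normalizer_inf le_normalizer (le_normalizer_inf
    ((h.fam.QS h.fr).trans (h.nQ h.fr')) ((h.fam.QS h.fl).trans (h.nQ h.fl'))))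

theorem sup_D : VZ Lr ⊔ DD 2 L Lr Ll = pCoreOf 2 L ⊓ pCoreOf 2 Lr := by
  rw [DD, ← inf_assoc]
  exact sup_inf_eq_of_sup_eq h.symm.supm ((le_sup_left.trans h.symm.supm.le).trans (h.nQ h.fl'))
    (le_inf (h.adj h.fr' h.fr) (h.fam.VQ h.fr')) (inf_le_left.trans (h.fam.QS h.fl))

theorem exists_conj : ∃ g ∈ L, conjS g Sl = Sr := (h.fam.syl h.fl).exists_conj (h.fam.syl h.fr)

theorem conj_mem {g u : G} (hg : conjS g Sl = Sr) (hu : u ∈ VZ Ll) : g * u * g⁻¹ ∈ pCoreOf 2 Lr := by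
  have f := h.fam.conj g h.fl'
  rw [hg] at f
  exact h.adj f h.fr' (by rw [← conjS_VZ]; exact conj_mem_conjS.2 hu)

theorem not_mem_D {u a : G} (hu : u ∈ VZ Ll) (hu' : u ∉ pCoreOf 2 Lr) (ha : a ∈ Sr)
    (ha' : a ∉ pCoreOf 2 L) : ⁅u, a⁆ ∉ DD 2 L Lr Ll := fun h1 => by
  have hL : L ≤ cme (DD 2 L Lr Ll) u :=
    h.opp.symm.le (fun s hs => ⟨h.norm_D (h.fam.le h.fl hs),
      h.V_le_D (h.symm.commm (commutator_mem_commutator hu hs)).1⟩) (zpowers_le.2 ha)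
      (fun h2 => ha' (h2 (mem_zpowers a))) (zpowers_le.2 ⟨h.norm_D (h.fam.le h.fr ha), h1⟩)
  obtain ⟨g, hg, hg'⟩ := h.exists_conj
  have h3 := mul_mem (hL hg).2.2.1 (h.conj_mem hg' hu)
  exact hu' (by simpa [commutatorElement_def, mul_assoc] using h3)

end

variable {L0 L1 L2 L3 Lm Lk S0 S1 S2 S3 Sm : Subgroup G}
  (h0 : LocZ Fl L0 L1 L2 Lm Lk S1 S2 S0 Sm) (h1 : LocZ Fl L1 L2 L3 L0 Lm S2 S3 S1 S0)
include h0 h1

theorem cubic {u a : G} (hu : u ∈ VZ Lm) (hu' : u ∉ pCoreOf 2 L1) (ha : a ∈ VZ L2)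
    (ha' : a ∉ pCoreOf 2 L0) : ⁅a, ⁅a, u⁆⁆ ∈ VZ L0 ∧ ⁅a, ⁅a, u⁆⁆ ∉ cen (VZ L0) L0 := by
  have huS : u ∈ S1 := h0.supm.le (mem_sup_left hu)
  have haS := h0.V2_le ha
  have hc := h1.symm.not_mem_D ha ha' huS hu'
  have hc1 : ⁅a, u⁆ ∈ pCoreOf 2 L1 ⊓ pCoreOf 2 L0 :=
    ⟨h0.ab h0.fr' (commutator_mem_commutator haS huS), h0.ab h0.fr (commutator_mem_commutator haS huS)⟩
  refine ⟨(h0.commr' (commutator_mem_commutator ha hc1.1)).1, fun h2 => ?_⟩
  obtain ⟨v, hv, d, hd, e⟩ := (mem_sup_iff_of_left_le_normalizer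
    ((h0.adj h0.fr h0.fr').trans ((pCoreOf_le L1).trans h1.symm.norm_D))).1 (h1.symm.sup_D.ge hc1)
  have e1 : ⁅a, v * d⁆ = ⁅a, v⁆ := by
    have : ⁅a, v * d⁆ = ⁅a, v⁆ * (v * ⁅a, d⁆ * v⁻¹) := by simp only [commutatorElement_def]; group
    rw [this, commutatorElement_eq_one_iff_mul_comm.2 (Q_le_centralizer_VZ hd.2.2 a ha)]
    simp
  obtain ⟨F, _, _, D, d1, -, d3, d4, -⟩ := crit_nat (h0.fam.pa h0.fr) (h0.fam.pa h0.fr2')
    (le_sup_left.trans h0.supr'.le) h0.V2_le h0.cr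
  have haL := h0.V2_le_L ha
  rw [e, e1, D.commutator_mem_iff haL (d1.le (D.φ_mem_img haL ha)) (fun h3 => ha'
    ((h0.fam.pa h0.fr).cen_S_V ▸
      ⟨haS, (d3.le (D.mem_ker.2 ⟨haL, h3⟩)).2⟩)) hv, d4] at h2
  have h3 : v ∈ pCoreOf 2 L2 := (h0.fam.pa h0.fr2').cen_S_V ▸
    ⟨h0.supr'.le (mem_sup_left hv), centralizer_anti h0.V2_le (omegaZ_le_centralizer _ h2)⟩
  exact hc (e ▸ mul_mem ⟨h0.adj h0.fr h0.fr' hv, h0.fam.VQ h0.fr hv, h3⟩ hd)

theorem false : False := by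
  obtain ⟨u, hu, hu'⟩ := SetLike.not_le_iff_exists.1 h0.cm'
  obtain ⟨a, ha, ha'⟩ := SetLike.not_le_iff_exists.1 h0.cr'
  have i1 : u⁻¹ = u := inv_eq_of_mul_eq_one_right (by
    rw [← pow_two]; exact (h0.fam.pa h0.fl').elem.2 u hu)
  have i2 : a * a = 1 := by rw [← pow_two]; exact (h0.fam.pa h0.fr2').elem.2 a ha
  have e : ⁅a, ⁅a, u⁆⁆ = ⁅u, a * u * a⁻¹⁆ := by
    calc _ = a * a * (u * (a * (a * a)⁻¹) * u⁻¹ * a⁻¹ * u * a * u⁻¹ * a⁻¹) := by
          simp only [commutatorElement_def]; group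
      _ = u * (a * u * a⁻¹) * u⁻¹ * (a * u⁻¹ * a⁻¹) := by
          rw [i2, i1]; simp only [mul_assoc, one_mul, inv_one, mul_one]
      _ = _ := by simp only [commutatorElement_def]; group
  refine (h0.cubic h1 hu hu' ha ha').2 ?_
  rw [e]
  exact h0.symm.commm (commutator_mem_commutator hu (h0.fam.QS h0.fl (LAE.conj_mem_of_mem_normalizer
    (le_normalizer_pCoreOf L0 (h0.V2_le_L ha)) (h0.adj h0.fl' h0.fl hu))))

end LocZ

namespace FamZ

variable (h : FamZ Fl)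
include h

/-- The critical distance is one. -/
theorem crit_zero {c : ℕ} (hc : ∀ n < c, ¬ CritZ Fl n) (hcrit : CritZ Fl c)
    (ns : ∀ T T' L L', Rch Fl c T T' → Fl T L → Fl T' L' → ¬ VZ L ≤ pCoreOf 2 L' →
      ¬ L ≤ normalizer (UZ Fl T : Set G)) : c = 0 := by
  by_contra h0
  obtain rfl : c = 1 := by have := h.le_one hc ns hcrit; omega
  obtain ⟨a, s, e1, e2, e3⟩ := h.exists_long_path hc ns hcrit 3
  have fl := fun j hj => (e1 j hj).1
  have fr := fun j hj => (e1 j hj).2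
  have w : ∀ j ≤ 3, ¬ VZ (a j) ≤ pCoreOf 2 (a (j + 1 + 1)) := fun j hj =>
    h.crit_symm hc (e1.rch j 1 (by omega)).symm (fr _ (by omega)) (fl _ (by omega)) (e2 j hj)
  have h0 : LocZ Fl (a 3) (a 2) (a 1) (a 4) (a 5) (s 2) (s 1) (s 3) (s 4) :=
    ⟨h, hc, fr 2 (by omega), fl 2 (by omega), fr 1 (by omega), fl 1 (by omega),
      fl 3 (by omega), fr 3 (by omega), fl 4 (by omega), fr 4 (by omega), e3 2 (by omega) (by omega),
      e2 1 (by omega), w 3 (by omega), w 2 (by omega), e2 2 (by omega)⟩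
  have h1 : LocZ Fl (a 2) (a 1) (a 0) (a 3) (a 4) (s 1) (s 0) (s 2) (s 3) :=
    ⟨h, hc, fr 1 (by omega), fl 1 (by omega), fr 0 (by omega), fl 0 (by omega),
      fl 2 (by omega), fr 2 (by omega), fl 3 (by omega), fr 3 (by omega), e3 1 (by omega) (by omega),
      e2 0 (by omega), w 2 (by omega), w 1 (by omega), e2 1 (by omega)⟩
  exact h0.false h1

/-- Without critical pairs there is a common normal subgroup. -/
theorem exists_normal (hn : ∀ n, ¬ CritZ Fl n) (h1 : Fl T L) :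
    ∃ N ≤ T, UZ Fl T ≤ N ∧ normalizer (T : Set G) ≤ normalizer (N : Set G) ∧
      ∀ L', Fl T L' → L' ≤ normalizer (N : Set G) := by
  let N : Subgroup G := ⨆ (x : ℕ × Subgroup G × Subgroup G) (_ : Rch Fl x.1 T x.2.1 ∧ Fl x.2.1 x.2.2),
    VZ x.2.2
  have hle : ∀ {n T' L'}, Rch Fl n T T' → Fl T' L' → VZ L' ≤ N := fun {n T' L'} h2 h3 =>
    le_iSup₂_of_le (f := fun (x : ℕ × Subgroup G × Subgroup G)
      (_ : Rch Fl x.1 T x.2.1 ∧ Fl x.2.1 x.2.2) => VZ x.2.2) (n, T', L') ⟨h2, h3⟩ le_rfl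
  have key : ∀ g, (∀ {n T'}, Rch Fl n (conjS g T) T' → ∃ m, Rch Fl m T T') →
      g ∈ normalizer (N : Set G) := fun g hg => by
    refine mem_normalizer_of_conjS_le (conjS_le_iff.2 (iSup₂_le fun x hx => ?_))
    rw [← conjS_le_iff, conjS_VZ]
    obtain ⟨m, hm⟩ := hg (hx.1.conj h.conj g)
    exact hle hm (h.conj g hx.2)
  exact ⟨N, iSup₂_le fun x hx => (V_le_Q (c := x.1 + 1) (fun n _ => hn n) (Nat.lt_succ_self _)
      hx.1.symm hx.2 h1).trans (h.QS h1), iSup₂_le fun L' hL => hle (Rch.refl T) hL,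
    fun g hg => key g fun h2 => ⟨_, by rwa [mem_normalizer_iff_conjS.1 hg] at h2⟩,
    fun L' hL g hg => key g fun h2 => ⟨_, Rch.cons hL (h.conj_of_mem hL hg) h2⟩⟩

end FamZ

/-- The family of the conjugates of a flag: a common normal subgroup or a critical pair. -/
theorem PA.orbit (h : PA T L) :
    (∃ N ≤ T, omegaZ 2 T ≤ N ∧ normalizer (T : Set G) ≤ normalizer (N : Set G) ∧
      L ≤ normalizer (N : Set G)) ∨
    ∃ n ∈ normalizer (T : Set G), ¬ VZ L ≤ pCoreOf 2 (conjS n L) := by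
  classical
  let Fl : Subgroup G → Subgroup G → Prop := fun T' L' => ∃ g, T' = conjS g T ∧ L' = conjS g L
  have hF : FamZ Fl := ⟨by rintro _ _ ⟨g, rfl, rfl⟩; exact h.conj g, by
    rintro _ _ g ⟨k, rfl, rfl⟩
    exact ⟨g * k, (conjS_mul ..).symm, (conjS_mul ..).symm⟩⟩
  have h1 : Fl T L := ⟨1, (conjS_one T).symm, (conjS_one L).symm⟩
  have h2 := h.Z_le.trans (VZ_le_UZ h1)
  by_cases h3 : L ≤ normalizer (UZ Fl T : Set G)
  · exact Or.inl ⟨_, hF.UZ_le T, h2, hF.normalizer_le_UZ T, h3⟩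
  by_cases H : ∃ c, CritZ Fl c
  · have h4 := Nat.find_spec H
    rw [hF.crit_zero (fun n hn => Nat.find_min H hn) h4 (by
      rintro _ _ _ _ - ⟨g, rfl, rfl⟩ - -
      rwa [← hF.conjS_UZ, ← conjS_normalizer, conjS_le_conjS_iff])] at h4
    obtain ⟨T₁, T₂, _, _, r, ⟨g, e1, rfl⟩, ⟨k, e2, rfl⟩, h5⟩ := h4
    cases r
    refine Or.inr ⟨g⁻¹ * k, ?_, fun h6 => h5 ?_⟩
    · rw [mem_normalizer_iff_conjS, conjS_mul, ← e2, e1, conjS_inv_conjS]
    · rwa [conjS_mul, ← conjS_pCoreOf, le_conjS_iff, inv_inv, conjS_VZ] at h6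
  · obtain ⟨N, n1, n2, n3, n4⟩ := hF.exists_normal (not_exists.1 H) h1
    exact Or.inl ⟨N, n1, h2.trans n2, n3, n4 L h1⟩

theorem famZ_top : FamZ (Top : Subgroup G → Subgroup G → Prop) :=
  ⟨fun h => h.2, fun g ⟨⟨S, h1, h2⟩, h3⟩ =>
    ⟨⟨conjS g S, h1.conj_of_mem (mem_top g), by rw [← conjS_bau, h2]⟩, h3.conj g⟩⟩

end CfsgLib.Baum
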