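import Mathlib
import Cfsg.Agent.Lib.Baum.Vz
import Cfsg.Agent.Lib.CGT2.Set
import Cfsg.Agent.Lib.CGT2.CaseI
import Cfsg.Agent.Lib.CGT2.Cfg

/-! Basic facts on involutions of type `Cl`. -/

set_option autoImplicit false
set_option linter.unusedSectionVars false
set_option linter.unusedVariables false

namespace CfsgLib.Baum

open Subgroup Cfsg CfsgLib.LAE CfsgLib.PLocal CfsgLib.Push CfsgLib.BHS CfsgLib.ZJ CfsgLib.SL2
  CfsgLib.Blocks CfsgLib.LocStr CfsgLib.CGT2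
open scoped commutatorElement


variable {G : Type*} [Group G] [Finite G]

variable {x y u v g : G} {X Y S H B L P W : Subgroup G}

omit [Finite G] in
theorem mem_cen1 : x ∈ centralizer ({y} : Set G) ↔ Commute y x :=
  mem_centralizer_singleton_iff.trans eq_comm

omit [Finite G] in
theorem conjS_cen1 (g y : G) :
    conjS g (centralizer ({y} : Set G)) = centralizer ({g * y * g⁻¹} : Set G) := by
  ext x
  rw [mem_conjS, mem_centralizer_singleton_iff, mem_centralizer_singleton_iff]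
  constructor
  · intro h
    calc x * (g * y * g⁻¹) = g * (g⁻¹ * x * g * y) * g⁻¹ := by group
      _ = g * y * g⁻¹ * x := by rw [h]; group
  · intro h
    calc g⁻¹ * x * g * y = g⁻¹ * (x * (g * y * g⁻¹)) * g := by group
      _ = y * (g⁻¹ * x * g) := by rw [h]; group

omit [Finite G] in
theorem cen_le_cen1 (hy : y ∈ X) : centralizer (X : Set G) ≤ centralizer ({y} : Set G) :=
  centralizer_le (Set.singleton_subset_iff.2 hy)

omit [Finite G] in
theorem eq_one_of_odd (hd : Odd (orderOf x)) (hX : IsPGroup 2 X) (hx : x ∈ X) : x = 1 := by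
  obtain ⟨k, hk⟩ := isPGroup_iff_forall_mem.1 hX x hx
  exact mem_bot.1 (mem_of_pow_mem_of_coprime (N := ⊥)
    ((Nat.coprime_two_right.2 hd).pow_right k) (mem_bot.2 hk))

omit [Finite G] in
theorem Tt_le (y : G) : Tt y ≤ centralizer ({y} : Set G) := pCoreOf_le _

theorem conjS_Tt (g y : G) : conjS g (Tt y) = Tt (g * y * g⁻¹) := by
  rw [Tt, Tt, conjS_pCoreOf, conjS_cen1]

omit [Finite G] in
theorem cen_le_norm_Tt (y : G) : centralizer ({y} : Set G) ≤ normalizer (Tt y : Set G) :=   le_normalizer_pCoreOf _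

omit [Finite G] in
theorem pg_Tt (y : G) : IsPGroup 2 (Tt y) := isPGroup_pCoreOf _

omit [Finite G] in
theorem comm_of_mem_Tt (h : x ∈ Tt y) : Commute y x := mem_cen1.1 (Tt_le y h)

namespace Cl

theorem conj (h : Cl y) (g : G) : Cl (g * y * g⁻¹) :=   ⟨by rw [← h.ord]; exact orderOf_injective (MulAut.conj g).toMonoidHom (MulAut.conj g).injective y,
    by rw [← conjS_Tt]; exact h.syl.conj_of_mem (mem_top g)⟩
omit [Finite G] in
theorem sq (h : Cl y) : y * y = 1 := by rw [← pow_two, ← h.ord, pow_orderOf_eq_one]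
omit [Finite G] in
theorem ne_one (h : Cl y) : y ≠ 1 := fun e => by simpa [e] using h.ord
omit [Finite G] in
theorem inv_eq (h : Cl y) : y⁻¹ = y := inv_eq_of_mul_eq_one_right h.sq
omit [Finite G] in
theorem pg (h : Cl y) : IsPGroup 2 (zpowers y) := (elemAb_isPGroup (elemAb_zpowers (by rw [pow_two, h.sq])))

/-- The 2-subgroups of `C(y)` lie in `Tt y`. -/
theorem le_Tt (h : Cl y) (hX : IsPGroup 2 X) (hc : X ≤ centralizer ({y} : Set G)) : X ≤ Tt y :=   le_sup_left.trans (h.syl.eq_of_le _ (isPGroup_sup hX (pg_Tt y) (hc.trans (cen_le_norm_Tt y)))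
    le_sup_right le_top).le

theorem mem_Tt (h : Cl y) (hx : IsPGroup 2 (zpowers x)) (hc : Commute y x) : x ∈ Tt y :=   h.le_Tt hx (zpowers_le.2 (mem_cen1.2 hc)) (mem_zpowers x)

theorem mem_Tt_of_sq (h : Cl y) (hx : x * x = 1) (hc : Commute y x) : x ∈ Tt y :=   h.mem_Tt (Cf.pg_of_sq hx) hc

theorem mem (h : Cl y) : y ∈ Tt y := h.mem_Tt_of_sq h.sq rfl

/-- Every 2-subgroup lies in a conjugate of `Tt y`. -/
theorem exists_le (h : Cl y) (hX : IsPGroup 2 X) : ∃ g : G, X ≤ Tt (g * y * g⁻¹) := by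
  obtain ⟨g, -, hg⟩ := h.syl.exists_le_conj hX le_top
  exact ⟨g, by rwa [← conjS_Tt]⟩

theorem core_cen (h : Cl y) (hy : y ∈ X) : pCoreOf 2 (centralizer (X : Set G)) = cen (Tt y) X :=   le_antisymm (le_inf (h.le_Tt (isPGroup_pCoreOf _) ((pCoreOf_le _).trans (cen_le_cen1 hy))) (pCoreOf_le _))
    (le_pCoreOf ((pg_Tt y).to_le inf_le_left) inf_le_right
      (le_normalizer_inf ((cen_le_cen1 hy).trans (cen_le_norm_Tt y)) le_normalizer))

theorem norm_cen (h : Cl y) (hy : y ∈ X) :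
    normalizer (X : Set G) ≤ normalizer (cen (Tt y) X : Set G) := by
  rw [← h.core_cen hy]
  exact le_normalizer_pCoreOf_of_le (normalizer_le_normalizer_centralizer X)

/-- A subgroup of `C(y)` normalizes its Sylow 2-subgroup. -/
theorem le_norm (h : Cl y) (hS : IsSylowIn 2 S H) (hH : H ≤ centralizer ({y} : Set G)) :
    H ≤ normalizer (S : Set G) := by
  rw [← hS.eq_of_le (Tt y ⊓ H) ((pg_Tt y).to_le inf_le_left)
    (le_inf (h.le_Tt hS.isPGroup (hS.le.trans hH)) hS.le) inf_le_right]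
  exact le_normalizer_inf (hH.trans (cen_le_norm_Tt y)) le_normalizer

theorem not_le_pa (h : Cl y) (hL : PA B L) : ¬ L ≤ centralizer ({y} : Set G) :=   fun hc => hL.not_le_normalizer (h.le_norm hL.syl hc)

theorem not_le_atom (h : Cl y) (hL : IsAtom B L) : ¬ L ≤ centralizer ({y} : Set G) := by
  obtain ⟨F, _, _, ⟨a⟩⟩ := hL
  exact fun hc => a.not_norm (h.le_norm a.sylow hc)

/-- The diagonal lemma. -/
theorem diag (h : Cl y) (hL : IsAtom B L) : ⁅L, conjS y L⁆ ≠ ⊥ := by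
  obtain ⟨F, _, _, ⟨a⟩⟩ := hL
  intro hc
  rw [commutator_eq_bot_iff_le_centralizer] at hc
  have c1 : ∀ {l m : G}, l ∈ L → m ∈ L → Commute (y * m * y⁻¹) l := fun hl hm =>
    hc hl _ (conj_mem_conjS.2 hm)
  have pw : ∀ {l : G}, l ∈ L → ∀ n : ℕ, (l * (y * l * y⁻¹)) ^ n = l ^ n * (y * l ^ n * y⁻¹) :=
    fun hl n => by rw [(c1 hl hl).symm.mul_pow, conj_pow]
  let M : Subgroup G :=
    { carrier := {l | l ∈ L ∧ l * (y * l * y⁻¹) ∈ Tt y}
      one_mem' := ⟨one_mem _, by simp⟩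
      mul_mem' := fun {l m} hl hm => ⟨mul_mem hl.1 hm.1, by
        have e : l * m * (y * (l * m) * y⁻¹) = l * (y * l * y⁻¹) * (m * (y * m * y⁻¹)) := by
          calc _ = l * (m * (y * l * y⁻¹)) * (y * m * y⁻¹) := by group
            _ = _ := by rw [← (c1 hm.1 hl.1).eq]; group
        rw [e]; exact mul_mem hl.2 hm.2⟩
      inv_mem' := fun {l} hl => ⟨inv_mem hl.1, by
        have e : l⁻¹ * (y * l⁻¹ * y⁻¹) = (l * (y * l * y⁻¹))⁻¹ := by
          rw [← (c1 hl.1 hl.1).eq]; group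
        rw [e]; exact inv_mem hl.2⟩ }
  have h2 : ∀ {X : Subgroup G}, IsPGroup 2 X → X ≤ L → X ≤ M := fun hX hL l hl => by
    obtain ⟨k, hk⟩ := isPGroup_iff_forall_mem.1 hX l hl
    refine ⟨hL hl, h.mem_Tt (Cf.pg_of_pow (k := k) (by rw [pw (hL hl), hk]; group)) ?_⟩
    have e : y * (l * (y * l * y⁻¹)) * y⁻¹ = l * (y * l * y⁻¹) := by
      calc _ = (y * l * y⁻¹) * ((y * y) * l * (y * y)⁻¹) := by group
        _ = _ := by rw [h.sq, one_mul, inv_one, mul_one, (c1 (hL hl) (hL hl)).eq]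
    exact mul_inv_eq_iff_eq_mul.1 e
  obtain ⟨l, hl, hl'⟩ := a.exists_not_norm
  have h3 : L ≤ M := (a.sup_conj hl hl').ge.trans
    (sup_le (h2 a.two a.le) (h2 (isPGroup_conjS a.two l) (conjS_le_of_le_of_mem a.le hl)))
  refine a.not_E_le_cen (pResOf_le_iff.2 fun e he ho => ?_)
  have h4 : e * (y * e * y⁻¹) = 1 := by
    refine eq_one_of_odd ?_ (pg_Tt y) (h3 he).2
    refine Nat.coprime_two_right.1 (ho.coprime_dvd_left (orderOf_dvd_of_pow_eq_one ?_))
    rw [pw he, pow_orderOf_eq_one]; group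
  intro w hw
  rw [eq_inv_of_mul_eq_one_left h4]
  exact (c1 (a.le (a.W_le hw)) he).symm.inv_right

/-- `u` and `a` generate a 2-group if they commute with `y` up to a central involution. -/
theorem pg_pair (h : Cl y) {a z : G} (hu : u * u = 1) (ha : a * a = 1) (hy : Commute y u)
    (e : y * a * y⁻¹ = a * z) (hz : z * z = 1) (h1 : Commute z u) (h2 : Commute z a) :
    IsPGroup 2 (zpowers u ⊔ zpowers a : Subgroup G) := by
  have i1 : u⁻¹ = u := inv_eq_of_mul_eq_one_right hu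
  have i2 : a⁻¹ = a := inv_eq_of_mul_eq_one_right ha
  have e1 : y * (u * a) * y⁻¹ = u * a * z := by
    calc _ = (y * u * y⁻¹) * (y * a * y⁻¹) := by group
      _ = _ := by rw [e, hy.eq]; group
  have e2 : (u * a) ^ 2 ∈ centralizer ({y} : Set G) := by
    refine mem_cen1.2 (mul_inv_eq_iff_eq_mul.1 ?_)
    rw [← conj_pow, e1, (h1.mul_right h2).symm.mul_pow, pow_two z, hz, mul_one]
  have e3 : u * (u * a) * u⁻¹ = (u * a)⁻¹ := by
    rw [← mul_assoc, hu, one_mul, mul_inv_rev, i2]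
  have hT := h.mem_Tt_of_sq hu hy
  have e4 : (u * a) ^ 2 ^ 2 ∈ Tt y := by
    have : (u * a) ^ 2 ^ 2 = (u * a) ^ 2 * u * ((u * a) ^ 2)⁻¹ * u⁻¹ := by
      calc _ = (u * a) ^ 2 * ((u * a)⁻¹ ^ 2)⁻¹ := by rw [inv_pow, inv_inv, ← pow_add]; rfl
        _ = _ := by rw [← e3, conj_pow]; simp [mul_assoc]
    rw [this]
    exact mul_mem (Cf.cjm (cen_le_norm_Tt y e2) hT) (inv_mem hT)
  obtain ⟨k, hk⟩ := isPGroup_iff_forall_mem.1 (pg_Tt y) _ e4
  have h3 : IsPGroup 2 (zpowers (u * a)) := Cf.pg_of_pow (k := 2 + k) (by rw [pow_add, pow_mul, hk])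
  refine (isPGroup_sup (Cf.pg_of_sq hu) h3 (zpowers_le.2 (mem_normalizer_of_conjS_le ?_))).to_le
    (sup_le le_sup_left (zpowers_le.2 ?_))
  · rw [Blocks.conjS_zpowers, e3, zpowers_inv]
  · simpa using mul_mem (inv_mem (mem_sup_left (mem_zpowers u))) (mem_sup_right (mem_zpowers (u * a)))

end Cl

omit [Finite G] in
theorem Loc2.mono (h : Loc2 X) (hY : IsPGroup 2 Y) (hle : X ≤ Y) : Loc2 Y :=   let ⟨u, h1, h2⟩ := h.2; ⟨hY, u, hle h1, h2⟩

theorem Loc2.conj (h : Loc2 X) (g : G) : Loc2 (conjS g X) :=   let ⟨u, h1, h2⟩ := h.2; ⟨isPGroup_conjS h.1 g, g * u * g⁻¹, conj_mem_conjS.2 h1, h2.conj g⟩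

/-- The `A × B`-lemma modulo a normal subgroup. -/
theorem ab_mod {Q A E : Subgroup G} (hQ : IsPGroup 2 Q) (hA : IsPGroup 2 A) (hW : W ≤ Q)
    (h1 : A ≤ normalizer (Q : Set G)) (h2 : E ≤ normalizer (Q : Set G))
    (h3 : Q ⊔ A ⊔ E ≤ normalizer (W : Set G)) (hE : pResOf 2 E = E) (hc : ⁅A, E⁆ ≤ W)
    (h : ∀ o ∈ Q, (∀ a ∈ A, ⁅o, a⁆ ∈ W) → ∀ e ∈ E, ⁅o, e⁆ ∈ W) : ⁅Q, E⁆ ≤ W := by
  set N := normalizer (W : Set G)
  have hQN : Q ≤ N := (le_sup_left.trans le_sup_left).trans h3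
  have hAN : A ≤ N := (le_sup_right.trans le_sup_left).trans h3
  have hEN : E ≤ N := le_sup_right.trans h3
  have : (W.subgroupOf N).Normal := normal_subgroupOf_of_le le_rfl
  let π := QuotientGroup.mk' (W.subgroupOf N)
  have key : ∀ a b : N, π a * π b = π b * π a ↔ ⁅(a : G), (b : G)⁆ ∈ W := fun a b => by
    rw [← commutatorElement_eq_one_iff_mul_comm, ← map_commutatorElement, QuotientGroup.mk'_apply,
      QuotientGroup.eq_one_iff, mem_subgroupOf]
    rfl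
  have nm : ∀ {X : Subgroup G}, X ≤ N → X ≤ normalizer (Q : Set G) →
      (X.subgroupOf N).map π ≤ normalizer (((Q.subgroupOf N).map π : Subgroup _) : Set _) :=
    fun hX hn => map_le_normalizer_map π (by
      rw [← map_le_normalizer_map_iff N.subtype_injective, map_subgroupOf_eq_of_le hX,
        map_subgroupOf_eq_of_le hQN]
      exact hn)
  have eR : pResOf 2 ((E.subgroupOf N).map π) = (E.subgroupOf N).map π := by
    rw [← map_pResOf, pResOf_subgroupOf_of_le hEN, hE]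
  have := pq_lemma (p := 2) (V := (Q.subgroupOf N).map π) (B := (A.subgroupOf N).map π)
    (R := (E.subgroupOf N).map π) (((isPGroup_subgroupOf_iff hQN).2 hQ).map π) (nm hAN h1) (nm hEN h2)
    (by rw [pResOf_eq_bot_of_isPGroup (((isPGroup_subgroupOf_iff hAN).2 hA).map π)]; exact bot_le)
    (by
      rw [eR, commutator_eq_bot_iff_le_centralizer.2]
      · exact bot_le
      · rintro _ ⟨a, ha, rfl⟩ _ ⟨e, he, rfl⟩
        exact ((key a e).2 (hc (commutator_mem_commutator ha he))).symm)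
    (by
      rw [eR]
      rintro _ ⟨e, he, rfl⟩ _ ⟨⟨o, ho, rfl⟩, h4⟩
      exact (key o e).2 (h o ho (fun a ha =>
        (key o ⟨a, hAN ha⟩).1 (h4 _ ⟨⟨a, hAN ha⟩, ha, rfl⟩).symm) e he))
  rw [eR] at this
  exact commutator_le.2 fun o ho e he =>
    (key ⟨o, hQN ho⟩ ⟨e, hEN he⟩).1 (this ⟨⟨e, hEN he⟩, he, rfl⟩ _ ⟨⟨o, hQN ho⟩, ho, rfl⟩)

/-- A conjugation invariant set of subgroups of a 2-group whose members normalize each other. -/
theorem delta {T : Subgroup G} (hT : IsPGroup 2 T) {𝒰 : Set (Subgroup G)} (hle : ∀ U ∈ 𝒰, U ≤ T)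
    (hc : ∀ U ∈ 𝒰, ∀ t ∈ T, conjS t U ∈ 𝒰)
    (h : ∀ Δ ⊆ 𝒰, (∀ U ∈ Δ, ∀ V ∈ Δ, U ≤ normalizer (V : Set G)) →
      (∀ U ∈ Δ, ∀ t ∈ T, t ∈ normalizer ((sSup Δ : Subgroup G) : Set G) → conjS t U ∈ Δ) →
      ∀ U ∈ 𝒰, U ≤ normalizer ((sSup Δ : Subgroup G) : Set G) → ∀ V ∈ Δ, U ≤ normalizer (V : Set G))
    {U V : Subgroup G} (hU : U ∈ 𝒰) (hV : V ∈ 𝒰) : U ≤ normalizer (V : Set G) := by
  obtain ⟨Δ, h1, ⟨h2, h3⟩, h4⟩ := Finite.exists_le_maximal
    (p := fun Δ : Set (Subgroup G) => Δ ⊆ 𝒰 ∧ ∀ U ∈ Δ, ∀ V ∈ Δ, U ≤ normalizer (V : Set G)) (a := {V})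
    ⟨Set.singleton_subset_iff.2 hV, by rintro _ rfl _ rfl; exact le_normalizer⟩
  have add : ∀ X ∈ 𝒰, (∀ V ∈ Δ, X ≤ normalizer (V : Set G)) → (∀ V ∈ Δ, V ≤ normalizer (X : Set G)) →
      X ∈ Δ := fun X hX a b => h4 (y := insert X Δ) ⟨Set.insert_subset hX h2, by
        rintro A (rfl | hA) C (rfl | hC)
        exacts [le_normalizer, a C hC, b A hA, h3 A hA C hC]⟩
      (Set.subset_insert X Δ) (Set.mem_insert X Δ)
  have hD : ∀ V ∈ Δ, sSup Δ ≤ normalizer (V : Set G) := fun V hV => sSup_le fun U hU => h3 U hU V hV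
  have inv : ∀ U ∈ Δ, ∀ t ∈ T, t ∈ normalizer ((sSup Δ : Subgroup G) : Set G) → conjS t U ∈ Δ := by
    intro U hU t ht hn
    have e := mem_normalizer_iff_conjS.1 hn
    refine add _ (hc U (h2 hU) t ht) (fun V hV => ((conjS_mono (le_sSup hU)).trans e.le).trans (hD V hV))
      fun V hV => ?_
    rw [← conjS_normalizer]
    exact ((le_sSup hV).trans e.ge).trans (conjS_mono (hD U hU))
  have star := h Δ h2 h3 inv
  refine star U hU ((hle U hU).trans ?_) V (h1 rfl)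
  by_contra hn
  obtain ⟨t, t1, t2, t3⟩ := SetA.exists_norm hT (X := T ⊓ normalizer ((sSup Δ : Subgroup G) : Set G))
    (lt_of_le_of_ne inf_le_left fun e => hn (e.ge.trans inf_le_right))
  have st : ∀ t ∈ T, t ∈ normalizer ((T ⊓ normalizer ((sSup Δ : Subgroup G) : Set G) : Subgroup G) : Set G) →
      ∀ A ∈ Δ, ∀ C ∈ Δ, conjS t A ≤ normalizer (C : Set G) := fun t t1 t2 A hA =>
    star _ (hc A (h2 hA) t t1) (((conjS_mono (le_inf (hle A (h2 hA))
      ((le_sSup hA).trans le_normalizer))).trans (mem_normalizer_iff_conjS.1 t2).le).trans inf_le_right)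
  refine t3 ⟨t1, mem_normalizer_of_conjS_le (conjS_le_iff.2 (sSup_le fun A hA => conjS_le_iff.1
    (le_sSup (add _ (hc A (h2 hA) t t1) (st t t1 t2 A hA) fun C hC => ?_))))⟩
  rw [← conjS_normalizer, le_conjS_iff]
  exact st t⁻¹ (inv_mem t1) (inv_mem t2) C hC A hA

/-- Two involutions generating a dihedral group that moves a point fixed by one of them. -/
theorem dihedral_fix {n : G} (hn : n * n = 1) (hy : y * y = 1) (h1 : y ∈ P) (h2 : n ∉ P) :
    ∃ d ∈ zpowers n ⊔ zpowers y, (d ∉ P ∧ d⁻¹ * y * d ∈ P) ∨ d⁻¹ * y * d * n ∈ P := by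
  classical
  have i1 : n⁻¹ = n := inv_eq_of_mul_eq_one_right hn
  have i2 : y⁻¹ = y := inv_eq_of_mul_eq_one_right hy
  have e1 : y * (n * y) * y⁻¹ = (n * y)⁻¹ := by rw [mul_inv_rev, i1, i2, mul_assoc, mul_assoc, hy, mul_one]
  have e2 : ∀ i : ℕ, ((n * y) ^ i)⁻¹ * y = y * (n * y) ^ i := fun i => by
    rw [← inv_pow, ← e1, conj_pow, inv_mul_cancel_right]
  have ex : ∃ j, 0 < j ∧ (n * y) ^ j ∈ P := ⟨_, orderOf_pos _, by rw [pow_orderOf_eq_one]; exact one_mem _⟩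
  obtain ⟨j1, j2⟩ := Nat.find_spec ex
  have hd : ∀ i : ℕ, (n * y) ^ i ∈ zpowers n ⊔ zpowers y := fun i =>
    pow_mem (mul_mem (mem_sup_left (mem_zpowers n)) (mem_sup_right (mem_zpowers y))) i
  obtain ⟨i, hi | hi⟩ := Nat.even_or_odd' (Nat.find ex)
  · refine ⟨_, hd i, Or.inl ⟨fun h3 => Nat.find_min ex (m := i) (by omega) ⟨by omega, h3⟩, ?_⟩⟩
    rw [e2, mul_assoc, ← pow_add, ← two_mul, ← hi]
    exact mul_mem h1 j2
  · refine ⟨_, hd i, Or.inr ?_⟩
    rw [e2, mul_assoc y, ← pow_add, ← two_mul, ← e2, mul_assoc,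
      show y * n = (n * y)⁻¹ by rw [mul_inv_rev, i1, i2], ← mul_inv_rev, ← pow_succ', ← hi]
    exact inv_mem j2

/-- Two involutions generating a 2-group. -/
theorem two_step {a : G} (hu : u * u = 1) (ha : a * a = 1)
    (h : IsPGroup 2 (zpowers u ⊔ zpowers a : Subgroup G)) (h1 : u ∈ P) (h2 : a ∉ P) :
    ∃ d ∈ zpowers (u * a), d ∉ P ∧ d * u * d⁻¹ ∈ P := by
  classical
  have i1 : u⁻¹ = u := inv_eq_of_mul_eq_one_right hu
  have i2 : a⁻¹ = a := inv_eq_of_mul_eq_one_right ha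
  have e1 : u * (u * a)⁻¹ * u⁻¹ = u * a := by rw [mul_inv_rev, i2, i1, mul_assoc, mul_assoc, hu, mul_one]
  have ex : ∃ j : ℕ, (u * a) ^ 2 ^ j ∈ P := by
    obtain ⟨k, hk⟩ := isPGroup_iff_forall_mem.1 h _
      (mul_mem (mem_sup_left (mem_zpowers u)) (mem_sup_right (mem_zpowers a)))
    exact ⟨k, by rw [hk]; exact one_mem _⟩
  have j2 := Nat.find_spec ex
  obtain hi | ⟨i, hi⟩ : Nat.find ex = 0 ∨ ∃ i, Nat.find ex = i + 1 := by
    cases Nat.find ex <;> simp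
  · rw [hi, pow_zero, pow_one] at j2
    exact absurd ((mul_mem_cancel_left h1).1 j2) h2
  · refine ⟨(u * a) ^ 2 ^ i, pow_mem (mem_zpowers _) _, Nat.find_min ex (by omega), ?_⟩
    have : (u * a) ^ 2 ^ i * u * ((u * a) ^ 2 ^ i)⁻¹ = (u * a) ^ 2 ^ (i + 1) * u := by
      calc _ = (u * a) ^ 2 ^ i * (u * (u * a)⁻¹ ^ 2 ^ i * u⁻¹) * u := by
            rw [inv_pow]; simp only [mul_assoc, inv_mul_cancel, mul_one]
        _ = _ := by rw [← conj_pow, e1, ← pow_add, ← mul_two, ← pow_succ]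
    rw [this, ← hi]
    exact mul_mem j2 h1

namespace St

variable (hG : St G)
include hG

theorem exists_le (hX : IsPGroup 2 X) : ∃ v, Cl v ∧ X ≤ Tt v := by
  obtain ⟨x, hx⟩ := hG.ex
  obtain ⟨g, hg⟩ := hx.exists_le hX
  exact ⟨_, hx.conj g, hg⟩

theorem exists_cl (hS : IsSylowIn 2 S ⊤) : ∃ v, Cl v ∧ Tt v = S := by
  obtain ⟨v, h1, h2⟩ := hG.exists_le hS.isPGroup
  exact ⟨v, h1, hS.eq_of_le _ (pg_Tt v) h2 le_top⟩

/-- An element of odd order centralizing a self-centralizing subgroup of `Tt v`. -/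
theorem odd_eq_one (hv : Cl v) (hX : X ≤ Tt v) (hc : cen (Tt v) X ≤ X) {d : G}
    (hd : Odd (orderOf d)) (h1 : Commute v d) (h2 : d ∈ centralizer (X : Set G)) : d = 1 := by
  have h3 : pResOf 2 (zpowers d) ≤ centralizer (X : Set G) := (pResOf_le _).trans (zpowers_le.2 h2)
  refine eq_one_of_odd hd (pg_Tt v) (hG.cT v hv (pq_lemma (pg_Tt v) (hX.trans le_normalizer)
    (zpowers_le.2 (cen_le_norm_Tt v (mem_cen1.2 h1))) ?_ ?_ (h3.trans (centralizer_anti hc))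
    (mem_pResOf (mem_zpowers d) (Nat.coprime_two_right.2 hd))))
  · rw [pResOf_eq_bot_of_isPGroup ((pg_Tt v).to_le hX)]; exact bot_le
  · rw [commutator_eq_bot_iff_le_centralizer.2 (le_centralizer_iff.1 h3)]; exact bot_le

/-- A Sylow 2-subgroup of `H ≥ C(X)`, `X ≤ S`, has a central involution of type `Cl`. -/
theorem exists_omegaZ (hS : IsSylowIn 2 S H) (hX : X ≤ S) (hc : centralizer (X : Set G) ≤ H) :
    ∃ v ∈ omegaZ 2 S, Cl v ∧ Tt v ⊓ H = S := by
  obtain ⟨v, h1, h2⟩ := hG.exists_le hS.isPGroup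
  have e := hS.eq_of_le (Tt v ⊓ H) ((pg_Tt v).to_le inf_le_left) (le_inf h2 hS.le) inf_le_right
  have h3 : v ∈ centralizer (S : Set G) := fun s hs => (comm_of_mem_Tt (h2 hs)).symm
  exact ⟨v, mem_omegaZ.2 ⟨e.le ⟨h1.mem, hc (centralizer_anti hX h3)⟩, h3, by rw [pow_two, h1.sq]⟩, h1, e⟩

theorem char (hX : Loc2 X) : IsCharP 2 (normalizer (X : Set G)) := by
  obtain ⟨h2, u, hu, hc⟩ := hX
  set H := normalizer (X : Set G)
  obtain ⟨S, hS, hXS⟩ := exists_isSylowIn_ge h2 (le_normalizer : X ≤ H)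
  obtain ⟨v, v1, v2, v3⟩ := hG.exists_omegaZ hS hXS (centralizer_le_normalizer _)
  refine isCharP_of_isPGroup_centralizer (pResOf_eq_bot_iff.1 (le_bot_iff.1 ?_))
  set C := H ⊓ centralizer (pCoreOf 2 H : Set G)
  have nC : H ≤ normalizer (C : Set G) :=
    le_normalizer_inf le_normalizer (le_normalizer_centralizer (le_normalizer_pCoreOf H))
  have c1 : C ≤ centralizer ({u} : Set G) := inf_le_right.trans
    ((centralizer_anti (le_pCoreOf h2 le_normalizer le_rfl)).trans (cen_le_cen1 hu))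
  have c2 : S ⊓ C ≤ pCoreOf 2 H := ((le_inf (hc.le_Tt (hS.isPGroup.to_le inf_le_left)
    (inf_le_right.trans c1)) inf_le_right).trans (le_pCoreOf ((pg_Tt u).to_le inf_le_left) inf_le_right
      (le_normalizer_inf (c1.trans (cen_le_norm_Tt u)) le_normalizer))).trans
        (pCoreOf_mono_of_normal inf_le_left nC)
  have c3 : C ≤ centralizer ({v} : Set G) := inf_le_right.trans (cen_le_cen1 (c2 ⟨omegaZ_le S v1,
    hS.le (omegaZ_le S v1), centralizer_anti hS.pCoreOf_le (omegaZ_le_centralizer S v1)⟩))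
  have c4 : C ≤ normalizer (S : Set G) := by
    rw [← v3]
    exact le_normalizer_inf (c3.trans (cen_le_norm_Tt v)) (inf_le_left.trans le_normalizer)
  have c5 : pResOf 2 C ≤ centralizer (S : Set G) := pResOf_le_centralizer_of_le hS.isPGroup c4
    (((commutator_mono le_rfl (pResOf_le C)).trans (le_inf (commutator_le_left_of_le_normalizer c4)
      (commutator_le_right_of_le_normalizer (hS.le.trans nC)))).trans c2)
    ((pResOf_le C).trans inf_le_right)
  exact pResOf_le_iff.2 fun d hd ho => mem_bot.2 (hG.odd_eq_one v2 (v3.ge.trans inf_le_left)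
    ((inf_le_inf_left _ ((centralizer_anti hXS).trans (centralizer_le_normalizer _))).trans v3.le)
    (Nat.coprime_two_right.1 ho) (mem_cen1.1 (c3 hd)) (c5 (mem_pResOf hd ho)))

theorem lh (hX : Loc2 X) (hS : IsSylowIn 2 S (normalizer (X : Set G))) :
    LH S (normalizer (X : Set G)) := by
  obtain ⟨v, v1, v2, v3⟩ := hG.exists_omegaZ hS (hS.le_of_normal hX.1 le_normalizer le_rfl)
    (centralizer_le_normalizer _)
  refine ⟨hG.char hX, hS, ?_⟩
  conv_rhs => rw [← v3]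
  exact le_normalizer_inf ((inf_le_right.trans (cen_le_cen1 v1)).trans (cen_le_norm_Tt v))
    (inf_le_left.trans le_normalizer)

/-- A criterion for strong closure. -/
theorem sc_of {r : G} (hr : Cl r) (hB : B ≤ Tt r)
    (h1 : centralizer ({r} : Set G) ≤ normalizer (B : Set G))
    (h2 : ∀ w, Cl w → Commute r w → ∀ y ∈ B, Commute w y → ∃ e, e * r * e⁻¹ = w ∧ y ∈ conjS e B) :
    ∀ b ∈ B, ∀ g : G, g * b * g⁻¹ ∈ Tt r → g * b * g⁻¹ ∈ B := by
  intro b hb g hy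
  set y := g * b * g⁻¹
  have step : ∀ f w : G, y ∈ conjS f B → Cl w → Commute (f * r * f⁻¹) w → Commute w y →
      ∃ e, e * r * e⁻¹ = w ∧ y ∈ conjS e B := fun f w a1 a2 a3 a4 => by
    obtain ⟨e, e1, e2⟩ := h2 (f⁻¹ * w * f⁻¹⁻¹) (a2.conj _)
      (by simpa [mul_assoc] using a3.map (MulAut.conj f⁻¹)) _ (mem_conjS.1 a1)
      (by simpa using a4.map (MulAut.conj f⁻¹))
    refine ⟨f * e, ?_, by rw [conjS_mul]; exact mem_conjS.2 e2⟩
    calc _ = f * (e * r * e⁻¹) * f⁻¹ := by group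
      _ = w := by rw [e1]; group
  have c1 : Commute r y := comm_of_mem_Tt hy
  obtain ⟨S, hS, hr1⟩ := exists_isSylowIn_ge hr.pg (zpowers_le.2 (mem_cen1.2 c1.symm))
  obtain ⟨w, w1, w2⟩ := hG.exists_le hS.isPGroup
  have c2 : Commute w y := comm_of_mem_Tt (w2 (hS.le_of_normal (Cf.pg_zpowers (pg_Tt r) hy)
    (zpowers_le.2 (mem_cen1.2 rfl)) (by rw [← Cf.cent_zpowers]; exact centralizer_le_normalizer _)
    (mem_zpowers y)))
  obtain ⟨c, c3, c4⟩ := hS.exists_conj_le (hr.conj g).pg (zpowers_le.2 (mem_cen1.2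
    (comm_of_mem_Tt (by rw [← conjS_Tt]; exact conj_mem_conjS.2 (hB hb))).symm))
  obtain ⟨e, e1, e2⟩ := step (c * g) w (by
      rw [conjS_mul, mem_conjS, mul_assoc, (mem_cen1.1 c3).eq, inv_mul_cancel_left]
      exact conj_mem_conjS.2 hb) w1
    (comm_of_mem_Tt (w2 (c4 (by
      rw [show c * g * r * (c * g)⁻¹ = c * (g * r * g⁻¹) * c⁻¹ by group]
      exact conj_mem_conjS.2 (mem_zpowers _))))).symm c2
  obtain ⟨f, f1, f2⟩ := step e r e2 hr (by rw [e1]; exact comm_of_mem_Tt (w2 (hr1 (mem_zpowers r)))) c1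
  rwa [mem_normalizer_iff_conjS.1 (h1 (mem_centralizer_singleton_iff.2 (mul_inv_eq_iff_eq_mul.1 f1)))] at f2

end St

/-- If the central involution of type `Cl` lies in `Y`, then `C_H(C_Y(S))` is 2-closed. -/
theorem mh0_of (hY : IsElementaryAbelian 2 Y) (h1 : Y ≤ H) (h2 : H ≤ normalizer (Y : Set G))
    (hS : IsSylowIn 2 S H) (hv : Cl v) (h3 : v ∈ Y) (h4 : S ≤ Tt v) : MH0 H S Y := by
  refine ⟨hY, h1, h2, hS, ?_⟩
  conv_rhs => rw [← hS.eq_of_le (Tt v ⊓ H) ((pg_Tt v).to_le inf_le_left) (le_inf h4 hS.le) inf_le_right]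
  exact le_normalizer_inf ((inf_le_right.trans (cen_le_cen1 (X := cen Y S)
    ⟨h3, fun s hs => (comm_of_mem_Tt (h4 hs)).symm⟩)).trans (cen_le_norm_Tt v))
    (inf_le_left.trans le_normalizer)

end CfsgLib.Baum
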