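import Mathlib
import Cfsg.Agent.Lib.Baum.Bas
import Cfsg.Agent.Lib.CGT2.Half
import Cfsg.Agent.Lib.CGT2.Good

/-! Pairs of atoms. -/

set_option autoImplicit false
set_option linter.unusedSectionVars false

namespace CfsgLib.Baum

open Subgroup Cfsg CfsgLib.LAE CfsgLib.PLocal CfsgLib.Push CfsgLib.BHS CfsgLib.ZJ CfsgLib.SL2
  CfsgLib.Blocks CfsgLib.LocStr CfsgLib.CGT2
open scoped commutatorElement

variable {G : Type*} [Group G] [Finite G]

variable {q : ℕ} {u t o : G} {L L' X Y A M R : Subgroup G}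

/-- A subgroup covering `B / C_B(W)` acts as a root group on `Y = W C_Y(A)`. -/
theorem rootOn_of_atom {F : Type} [Field F] [Fintype F] {B W : Subgroup G} (a : Atom F B L W)
    (hA : A ⊔ cen B W = B) (hY : IsElementaryAbelian 2 Y) (hW : W ≤ Y)
    (hs : ∀ y ∈ Y, ∃ w ∈ W, w * y ∈ centralizer (A : Set G))
    (hc : cen A W ≤ centralizer (Y : Set G)) : RootOn Y A ∧ ⁅Y, A⁆ = cen W B := by
  have hAB : A ≤ B := le_sup_left.trans hA.le
  have hAW : ¬ A ≤ centralizer (W : Set G) := fun e => a.not_B_le (hA.ge.trans (sup_le e inf_le_right))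
  have key : ∀ y ∈ Y, ∃ w ∈ W, ∃ c ∈ cen Y A, y = w * c := fun y hy => by
    obtain ⟨w, hw, hc⟩ := hs y hy
    exact ⟨w⁻¹, inv_mem hw, w * y, ⟨mul_mem (hW hw) hy, hc⟩, by group⟩
  have cm : ∀ w c x : G, c ∈ centralizer (A : Set G) → x ∈ A → ⁅w * c, x⁆ = ⁅w, x⁆ := fun w c x hc hx => by
    simp only [commutatorElement_def, mul_inv_rev]
    rw [mul_assoc w, ← hc x hx]; group
  have e : ⁅Y, A⁆ = cen W B := by
    refine le_antisymm (commutator_le.2 fun y hy x hx => ?_) ((a.comm_WX hA).ge.trans (commutator_mono hW le_rfl))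
    obtain ⟨w, hw, c, hc, rfl⟩ := key y hy
    rw [cm w c x hc.2 hx]
    exact (a.comm_WX hA).le (commutator_mem_commutator hw hx)
  have hcA : centralizer (Y : Set G) ⊓ A = centralizer (W : Set G) ⊓ A :=
    le_antisymm (inf_le_inf_right _ (centralizer_anti hW)) (le_inf ((inf_comm _ _).le.trans hc) inf_le_right)
  refine ⟨⟨a.two.to_le hAB, fun x hx => ?_, fun h => hAW (h.trans (centralizer_anti hW)),
    e.le.trans (inf_le_right.trans (centralizer_anti hAB)), ?_, fun x hx hx' v hv h => ?_⟩, e⟩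
  · refine mem_normalizer_of_conjS_le (conjS_le_iff_forall.2 fun y hy => ?_)
    have : x * y * x⁻¹ = y * ⁅y⁻¹, x⁆ := by simp [commutatorElement_def, mul_assoc]
    rw [this]
    exact mul_mem hy (hW (e.le (commutator_mem_commutator (inv_mem hy) hx)).1)
  · have h1 : W ⊔ cen Y A = Y := le_antisymm (sup_le hW inf_le_left) fun y hy => by
      obtain ⟨w, hw, c, hc, rfl⟩ := key y hy
      exact mul_mem (mem_sup_left hw) (mem_sup_right hc)
    have h2 := PLocal.relIndex_sup_of_le_normalizer (A := W) (B := cen Y A)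
      (le_normalizer_of_le_centralizer (hW.trans ((elemAb_le_centralizer hY).trans
        (centralizer_anti inf_le_left))))
    rw [h1] at h2
    rw [h2, ← inf_relIndex_right (centralizer (Y : Set G)), hcA, inf_relIndex_right, a.relIndex_eq hA,
      ← a.idxC, ← a.cen_eq_of hAB hAW, ← inf_relIndex_right, inf_right_comm, inf_of_le_right hW]
  · obtain ⟨w, hw, c, hc', rfl⟩ := key v hv
    have h1 : ⁅x, w⁆ = 1 := by
      rw [← commutatorElement_inv, ← cm w c x hc'.2 hx, commutatorElement_inv, h]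
    have h2 := a.mem_cen (hAB hx) (fun h => hx' (hc ⟨hx, h⟩)) hw h1
    exact ⟨hv, mul_mem (centralizer_anti hAB h2) hc'.2⟩

theorem atom_sup_conj {F : Type} [Field F] [Fintype F] {B W : Subgroup G} (a : Atom F B L W) {l : G}
    (hl : l ∈ L) (hl' : l ∉ normalizer (B : Set G)) : cen W B ⊔ conjS l (cen W B) = W := by
  rw [← a.fix]; exact a.D.fix_sup_conjS hl fun e => hl' ((a.mem_borel hl).1 e)

theorem atom_not_pg {F : Type} [Field F] [Fintype F] {B W : Subgroup G} (a : Atom F B L W)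
    (hA : A ≤ B) (hA' : ¬ A ≤ centralizer (W : Set G)) {l : G} (hl : l ∈ L)
    (hl' : l ∉ normalizer (B : Set G)) {A' : Subgroup G} (h1 : A' ≤ conjS l B)
    (h2 : ¬ A' ≤ centralizer (W : Set G)) : ¬ IsPGroup 2 (A ⊔ A' : Subgroup G) := fun hp => by
  obtain ⟨m, hm, hle⟩ := a.sylow.exists_le_conj hp (sup_le (hA.trans a.le)
    (h1.trans (conjS_le_of_le_of_mem a.le hl)))
  have key : ∀ g ∈ L, ∀ X ≤ conjS g B, ¬ X ≤ centralizer (W : Set G) →
      cen W X = conjS g (cen W B) := fun g hg X hX hX' => by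
    have hW : conjS g⁻¹ W = W := mem_normalizer_iff_conjS.1 (a.normW (inv_mem hg))
    rw [← a.cen_eq_of (le_conjS_iff.1 hX) fun h => hX' ?_, conjS_cen (a.normW hg), conjS_conjS_inv]
    rwa [← hW, ← conjS_centralizer, conjS_le_conjS_iff] at h
  have e1 := key m hm A (le_sup_left.trans hle) hA'
  have e2 := key m hm A' (le_sup_right.trans hle) h2
  rw [a.cen_eq_of hA hA'] at e1
  rw [key l hl A' h1 h2, ← e1] at e2
  have e3 := a.cen_inf hl hl'
  rw [e2, inf_idem] at e3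
  exact a.not_C_le (e3.le.trans inf_le_right)

theorem atom_eq_of_normal {F : Type} [Field F] [Fintype F] {B W : Subgroup G} (a : Atom F B L W)
    (hX : X ≤ W) (hn : eA L ≤ normalizer (X : Set G)) (hc : ¬ X ≤ centralizer (L : Set G)) :
    X = W := by
  obtain ⟨D, -⟩ := a.exists_res
  have hZ : eA L ≤ centralizer (cen W L : Set G) := a.EL.trans (le_centralizer_iff.1 inf_le_right)
  rcases natData_irr D (Y := cen W L ⊔ X) le_sup_left (sup_le inf_le_left hX)
    (LAE.le_normalizer_sup (le_normalizer_of_le_centralizer hZ) hn) with e | e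
  · exact absurd ((le_sup_right.trans e.le).trans inf_le_right) hc
  · refine le_antisymm hX (a.comm_WE.ge.trans (commutator_le.2 fun w hw x hx => ?_))
    obtain ⟨z, hz, y, hy, rfl⟩ := (mem_sup_iff_of_left_le_normalizer (le_normalizer_of_le_centralizer
      (inf_le_left.trans ((elemAb_le_centralizer a.elem).trans (centralizer_anti hX))))).1 (e.ge hw)
    have h1 : ⁅y, x⁆ ∈ X := commutator_le_left_of_le_normalizer hn (commutator_mem_commutator hy hx)
    have h2 : z * y = y * z := elemAb_comm a.elem hz.1 (hX hy)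
    have : ⁅z * y, x⁆ = ⁅y, x⁆ := by
      simp only [commutatorElement_def]
      rw [h2, mul_inv_rev, mul_assoc y, hZ hx z hz]; group
    rwa [this]

theorem isPair_of {F F' : Type} [Field F] [Fintype F] [Field F'] [Fintype F'] {U W W' : Subgroup G}
    (a : Atom F U L W) (a' : Atom F' U L' W') (hU : W ⊔ W' = U) (hQ : cen U W = W)
    (hQ' : cen U W' = W') (h1 : eA L ⊓ normalizer (U : Set G) ≤ normalizer (eA L' : Set G))
    (h2 : eA L' ⊓ normalizer (U : Set G) ≤ normalizer (eA L : Set G)) :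
    IsPair (Fintype.card F) L L' := by
  obtain rfl := a.wA_eq
  obtain rfl := a'.wA_eq
  subst hU
  have nc : ¬ wA L ≤ centralizer (wA L' : Set G) := fun h =>
    a'.not_B_le (sup_le h (elemAb_le_centralizer a'.elem))
  have nc' : ¬ wA L' ≤ centralizer (wA L : Set G) := fun h => nc (le_centralizer_iff.1 h)
  have e1 := half_inf_eq a le_sup_right nc
  have e2 := half_inf_eq a' le_sup_left nc'
  have e3 := half_idx a a' nc
  rw [hQ'] at e1 e3
  rw [hQ] at e2
  rw [relIndex_self, mul_one] at e3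
  exact ⟨F, F', inferInstance, inferInstance, inferInstance, inferInstance, rfl, e3.symm,
    ⟨⟨⟨a, hQ, a.elem, a'.elem, rfl, by rw [inf_comm, e1, a.idxC]⟩,
      ⟨a', hQ', a'.elem, a.elem, sup_comm _ _, by rw [inf_comm, e2, a'.idxC]⟩, h1, h2⟩⟩⟩

theorem two_aux {V V' : Subgroup G} {d d' : G} (hU : IsPGroup 2 (V ⊔ V' : Subgroup G))
    (he : IsElementaryAbelian 2 V) (h4 : Nat.card V = 4)
    (h4' : Nat.card V' = 4) (hd : orderOf d = 3)
    (h1 : d ∈ normalizer (V : Set G)) (h2 : d ∉ centralizer (V : Set G))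
    (hn : V' ≤ normalizer ((V ⊔ zpowers d : Subgroup G) : Set G))
    (hn' : V ≤ normalizer ((V' ⊔ zpowers d' : Subgroup G) : Set G))
    (hV : V ≤ normalizer (V' : Set G)) (nc : ¬ V ≤ centralizer (V' : Set G)) :
    ∃ L, eA L = V ⊔ zpowers d ∧ ∃ (F : Type) (_ : Field F) (_ : Fintype F), Fintype.card F = 2 ∧
      Nonempty (Atom F (V ⊔ V') L V) ∧ cen (V ⊔ V') V = V ∧
      eA L ⊓ normalizer ((V ⊔ V' : Subgroup G) : Set G) ≤
        normalizer ((V' ⊔ zpowers d' : Subgroup G) : Set G) := by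
  obtain ⟨⟨F, i1, i2, ⟨a⟩⟩, e1, e2⟩ := isAtom_of_four hU le_sup_left he h4 hd h1 h2
    (sup_le (le_sup_left.trans le_normalizer) hn) fun h => nc (le_centralizer_iff.1 (le_sup_right.trans h))
  rw [e2] at a
  have hq : Fintype.card F = 2 := by
    have h5 := relIndex_dvd_card (cen V (V ⊔ zpowers d ⊔ (V ⊔ V'))) V
    rw [a.idxZ, h4] at h5
    have h6 := Nat.le_of_dvd (by norm_num) h5
    have h7 := a.two_le
    nlinarith
  have hV' : V' ≤ normalizer (V : Set G) := le_sup_right.trans a.BW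
  refine ⟨_, e1, F, i1, i2, hq, ⟨a⟩, le_antisymm ?_ a.W_le_Q, ?_⟩
  · have h5 : 1 < Nat.card (V ⊓ V' : Subgroup G) := (one_lt_card_iff_ne_bot _).2 fun e =>
      nc (comm_bot_iff.1 (eq_bot_iff.2 ((le_inf (commutator_le_left_of_le_normalizer hV')
        (commutator_le_right_of_le_normalizer hV)).trans e.le)))
    have h6 := PLocal.card_eq_relIndex_mul V V'
    have h7 := relIndex_mul_relIndex V _ _ a.W_le_Q (inf_le_left : cen (V ⊔ V') V ≤ V ⊔ V')
    rw [a.idxQ, hq] at h7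
    have h8 := PLocal.relIndex_sup_of_le_normalizer hV'
    rw [sup_comm, ← h7] at h8
    rw [← h8, h4'] at h6
    have h9 : V.relIndex (cen (V ⊔ V') V) ≠ 0 := relIndex_ne_zero'
    exact relIndex_eq_one.1 (by nlinarith [Nat.pos_of_ne_zero h9])
  · rintro x ⟨hx, hx'⟩
    have : Fact (Nat.card (zpowers d)).Prime := ⟨by rw [Nat.card_zpowers, hd]; exact Nat.prime_three⟩
    have hVN : V ≤ normalizer ((V ⊔ V' : Subgroup G) : Set G) := le_sup_left.trans le_normalizer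
    obtain ⟨w, hw, c, hc, rfl⟩ := (mem_sup_iff_of_right_le_normalizer (zpowers_le.2 h1)).1 (e1.le hx)
    have hc' := (mul_mem_cancel_left (hVN hw)).1 hx'
    rcases ((normalizer ((V ⊔ V' : Subgroup G) : Set G)).subgroupOf
      (zpowers d)).eq_bot_or_eq_top_of_prime_card with e | e
    · have : c = 1 := congrArg Subtype.val (mem_bot.1 (e.le (show (⟨c, hc⟩ : zpowers d) ∈ _ from hc')))
      rw [this, mul_one]
      exact hn' hw
    · exact (a.not_E_le_norm (e1.le.trans (sup_le hVN (subgroupOf_eq_top.1 e)))).elim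

theorem isPair_two {V V' : Subgroup G} {d d' : G} (hU : IsPGroup 2 (V ⊔ V' : Subgroup G))
    (he : IsElementaryAbelian 2 V) (he' : IsElementaryAbelian 2 V') (h4 : Nat.card V = 4)
    (h4' : Nat.card V' = 4) (hd : orderOf d = 3) (hd' : orderOf d' = 3)
    (h1 : d ∈ normalizer (V : Set G)) (h1' : d' ∈ normalizer (V' : Set G))
    (h2 : d ∉ centralizer (V : Set G)) (h2' : d' ∉ centralizer (V' : Set G))
    (hn : V' ≤ normalizer ((V ⊔ zpowers d : Subgroup G) : Set G))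
    (hn' : V ≤ normalizer ((V' ⊔ zpowers d' : Subgroup G) : Set G))
    (nc : ¬ V ≤ centralizer (V' : Set G)) :
    ∃ L L', IsPair 2 L L' ∧ eA L = V ⊔ zpowers d ∧ eA L' = V' ⊔ zpowers d' ∧ wA L = V ∧
      wA L' = V' := by
  have k : ∀ {V V' : Subgroup G} {d : G}, IsPGroup 2 (V ⊔ V' : Subgroup G) →
      IsElementaryAbelian 2 V → Nat.card V = 4 → orderOf d = 3 → d ∈ normalizer (V : Set G) →
      d ∉ centralizer (V : Set G) → V' ≤ normalizer ((V ⊔ zpowers d : Subgroup G) : Set G) →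
      ¬ V' ≤ centralizer (V : Set G) → V' ≤ normalizer (V : Set G) :=
    fun hU he h4 hd h1 h2 hn nc => by
      obtain ⟨⟨F, i1, i2, ⟨a⟩⟩, -, e2⟩ := isAtom_of_four hU le_sup_left he h4 hd h1 h2
        (sup_le (le_sup_left.trans le_normalizer) hn) fun h => nc (le_sup_right.trans h)
      rw [e2] at a
      exact le_sup_right.trans a.BW
  have hU' : IsPGroup 2 (V' ⊔ V : Subgroup G) := sup_comm V V' ▸ hU
  have nc' : ¬ V' ≤ centralizer (V : Set G) := fun h => nc (le_centralizer_iff.1 h)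
  obtain ⟨L, e, F, _, _, hq, ⟨a⟩, c, n⟩ := two_aux hU he h4 h4' hd h1 h2 hn hn'
    (k hU' he' h4' hd' h1' h2' hn' nc) nc
  obtain ⟨L', e', F', _, _, hq', ⟨a'⟩, c', n'⟩ := two_aux hU' he' h4' h4 hd' h1' h2' hn' hn
    (k hU he h4 hd h1 h2 hn nc') nc'
  rw [sup_comm V' V] at a' c' n'
  exact ⟨L, L', hq ▸ isPair_of a a' rfl c c' (e' ▸ n) (e ▸ n'), e, e', a.wA_eq, a'.wA_eq⟩

omit [Finite G] in
theorem Ug_comm (L L' : Subgroup G) : Ug L L' = Ug L' L := sup_comm _ _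
omit [Finite G] in
theorem Rg_comm (L L' : Subgroup G) : Rg L L' = Rg L' L := inf_comm _ _
omit [Finite G] in
theorem Kg_comm (L L' : Subgroup G) : Kg L L' = Kg L' L := sup_comm _ _
omit [Finite G] in
theorem Zg_comm (L L' : Subgroup G) : Zg L L' = Zg L' L := by rw [Zg, Zg, Rg_comm, Kg_comm]

theorem conjS_Ug (g : G) (L L' : Subgroup G) : conjS g (Ug L L') = Ug (conjS g L) (conjS g L') := by
  rw [conjS_sup, conjS_wA, conjS_wA]

theorem conjS_Rg (g : G) (L L' : Subgroup G) : conjS g (Rg L L') = Rg (conjS g L) (conjS g L') := by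
  rw [conjS_inf, conjS_wA, conjS_wA]

theorem conjS_Kg (g : G) (L L' : Subgroup G) : conjS g (Kg L L') = Kg (conjS g L) (conjS g L') := by
  rw [conjS_sup, conjS_eA, conjS_eA]

theorem conjS_Zg (g : G) (L L' : Subgroup G) : conjS g (Zg L L') = Zg (conjS g L) (conjS g L') := by
  rw [conjS_inf, conjS_centralizer, conjS_Rg, conjS_Kg]

omit [Finite G] in
theorem Gd.symm {r : G} (h : Gd L L' r) : Gd L' L r := ⟨Rg_comm L L' ▸ h.mem, h.nL', h.nL⟩

omit [Finite G] in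
theorem Swp.symm {y : G} (h : Swp y L L') : Swp y L' L := ⟨h.2, h.1⟩

namespace IsPair

variable (h : IsPair q L L')
include h

omit [Finite G] in
theorem symm : IsPair q L' L := by
  obtain ⟨F, F', i1, i2, i3, i4, e, e', ⟨p⟩⟩ := h
  exact ⟨F', F, i3, i4, i1, i2, e', e, ⟨⟨Ug_comm L L' ▸ p.h', Ug_comm L L' ▸ p.h,
    Ug_comm L L' ▸ p.nE', Ug_comm L L' ▸ p.nE⟩⟩⟩

theorem conj (g : G) : IsPair q (conjS g L) (conjS g L') := by
  obtain ⟨F, F', i1, i2, i3, i4, e, e', ⟨p⟩⟩ := h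
  obtain ⟨a⟩ := p.h.nonempty_conj g
  obtain ⟨a'⟩ := p.h'.nonempty_conj g
  rw [conjS_Ug, conjS_wA, conjS_wA] at a a'
  have n := conjS_mono (g := g) p.nE
  have n' := conjS_mono (g := g) p.nE'
  rw [conjS_inf, conjS_normalizer, conjS_normalizer, conjS_Ug, conjS_eA, conjS_eA] at n n'
  exact ⟨F, F', i1, i2, i3, i4, e, e', ⟨⟨a, a', n, n'⟩⟩⟩

theorem exists_pow : ∃ n, 1 ≤ n ∧ q = 2 ^ n := by
  obtain ⟨F, F', i1, i2, i3, i4, e, e', ⟨p⟩⟩ := h
  exact e ▸ p.h.a.exists_card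

theorem two_or : q = 2 ∨ 2 < q := by
  obtain ⟨n, h1, rfl⟩ := h.exists_pow
  have := Nat.pow_le_pow_right (n := 2) (by norm_num) h1
  omega

theorem four_le (h2 : 2 < q) : 4 ≤ q := by
  obtain ⟨n, h1, rfl⟩ := h.exists_pow
  obtain rfl | h3 := h1.eq_or_lt
  · simp at h2
  · exact Nat.pow_le_pow_right (n := 2) (by norm_num) h3

theorem exists_half : ∃ (F : Type) (_ : Field F) (_ : Fintype F), Fintype.card F = q ∧
    Nonempty (Half F (Ug L L') L (wA L) (wA L) (wA L')) := by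
  obtain ⟨F, F', i1, i2, i3, i4, e, e', ⟨p⟩⟩ := h
  exact ⟨F, i1, i2, e, ⟨p.h⟩⟩

theorem atom : IsAtom (Ug L L') L := by
  obtain ⟨F, _, _, e, ⟨H⟩⟩ := h.exists_half
  exact H.a.isAtom

theorem nE : eA L ⊓ normalizer (Ug L L' : Set G) ≤ normalizer (L' : Set G) := by
  obtain ⟨F, F', i1, i2, i3, i4, e, e', ⟨p⟩⟩ := h
  have := LAE.le_normalizer_sup p.nE inf_le_right
  rwa [p.h'.a.E_sup_B] at this

theorem elem : IsElementaryAbelian 2 (wA L) := by
  obtain ⟨F, _, _, e, ⟨H⟩⟩ := h.exists_half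
  exact H.elemA

theorem pg : IsPGroup 2 (Ug L L') := by
  obtain ⟨F, _, _, e, ⟨H⟩⟩ := h.exists_half
  exact H.a.two

theorem U_le : Ug L L' ≤ L := by
  obtain ⟨F, _, _, e, ⟨H⟩⟩ := h.exists_half
  exact H.a.le

theorem W_le_E : wA L ≤ eA L := by
  obtain ⟨F, _, _, e, ⟨H⟩⟩ := h.exists_half
  exact H.a.W_le_E

theorem U_le_K : Ug L L' ≤ Kg L L' := sup_le_sup h.W_le_E h.symm.W_le_E

theorem L_le_K : L ≤ Kg L L' := by
  obtain ⟨F, _, _, e, ⟨H⟩⟩ := h.exists_half
  exact H.a.E_sup_B.ge.trans (sup_le le_sup_left h.U_le_K)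

theorem E_sup : eA L ⊔ Ug L L' = L := by
  obtain ⟨F, _, _, e, ⟨H⟩⟩ := h.exists_half
  exact H.a.E_sup_B

theorem big (h2 : 2 < q) : eA L = L := by
  obtain ⟨F, _, _, e, ⟨H⟩⟩ := h.exists_half
  have := H.a.E_sup_Q (e ▸ h2)
  rwa [H.A_eq, sup_of_le_left H.a.W_le_E] at this

theorem normW : L ≤ normalizer (wA L : Set G) := by
  obtain ⟨F, _, _, e, ⟨H⟩⟩ := h.exists_half
  exact H.a.normW

theorem norm_L (h1 : t ∈ normalizer (eA L : Set G)) (h2 : t ∈ normalizer (Ug L L' : Set G)) :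
    t ∈ normalizer (L : Set G) := by
  have := LAE.le_normalizer_sup (zpowers_le.2 h1) (zpowers_le.2 h2) (mem_zpowers t)
  rwa [h.E_sup] at this

theorem norm_U (h1 : t ∈ normalizer (wA L : Set G)) (h2 : t ∈ normalizer (wA L' : Set G)) :
    t ∈ normalizer (Ug L L' : Set G) := LAE.le_normalizer_sup (zpowers_le.2 h1) (zpowers_le.2 h2) (mem_zpowers t)

theorem cenW : cen (Ug L L') (wA L) = wA L := by
  obtain ⟨F, _, _, e, ⟨H⟩⟩ := h.exists_half
  exact H.A_eq

theorem R_eq : cen (wA L) (Ug L L') = Rg L L' := by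
  obtain ⟨F, _, _, e, ⟨H⟩⟩ := h.exists_half
  exact H.cenAB

theorem R_eq' : cen (Ug L L') (Ug L L') = Rg L L' := by
  obtain ⟨F, _, _, e, ⟨H⟩⟩ := h.exists_half
  exact H.D_eq

theorem R_le_cen : Rg L L' ≤ centralizer (Ug L L' : Set G) := h.R_eq.ge.trans inf_le_right

theorem comm_eq : ⁅wA L, wA L'⁆ = Rg L L' := by
  obtain ⟨F, _, _, e, ⟨H⟩⟩ := h.exists_half
  exact H.comm_AA'.trans h.R_eq

theorem commU : ⁅Ug L L', Ug L L'⁆ = Rg L L' := by
  obtain ⟨F, _, _, e, ⟨H⟩⟩ := h.exists_half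
  exact H.comm_eq.trans h.R_eq

theorem not_R_le : ¬ Rg L L' ≤ centralizer (L : Set G) := by
  obtain ⟨F, _, _, e, ⟨H⟩⟩ := h.exists_half
  exact h.R_eq ▸ H.a.not_C_le

theorem Z_le : cen (wA L) L ≤ Rg L L' := by
  obtain ⟨F, _, _, e, ⟨H⟩⟩ := h.exists_half
  exact H.Z_le

theorem Zg_eq : Zg L L' = cen (wA L) L ⊓ cen (wA L') L' := by
  refine le_antisymm (le_inf (le_inf (inf_le_left.trans inf_le_left) (inf_le_right.trans
    (centralizer_anti h.L_le_K))) (le_inf (inf_le_left.trans inf_le_right) (inf_le_right.trans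
    (centralizer_anti (h.symm.L_le_K.trans (Kg_comm _ _).le))))) (le_inf (inf_le_inf inf_le_left inf_le_left) ?_)
  rw [LAE.centralizer_sup]
  exact inf_le_inf (inf_le_right.trans (centralizer_anti (pResOf_le L)))
    (inf_le_right.trans (centralizer_anti (pResOf_le L')))

theorem idx : (Rg L L').relIndex (wA L) = q := by
  obtain ⟨F, _, _, e, ⟨H⟩⟩ := h.exists_half
  exact e ▸ H.idx

theorem idxZ : (cen (wA L) L).relIndex (Rg L L') = q := by
  obtain ⟨F, _, _, e, ⟨H⟩⟩ := h.exists_half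
  exact e ▸ H.idxZ

theorem card_W : Nat.card (wA L) = q * Nat.card (Rg L L') := by
  obtain ⟨F, _, _, e, ⟨H⟩⟩ := h.exists_half
  exact e ▸ H.card_A_eq

theorem card_R : Nat.card (Rg L L') = q * Nat.card (cen (wA L) L) := by
  obtain ⟨F, _, _, e, ⟨H⟩⟩ := h.exists_half
  exact e ▸ H.card_D

theorem not_le : ¬ wA L ≤ centralizer (wA L' : Set G) := fun h1 => by
  obtain ⟨F, _, _, e, ⟨H⟩⟩ := h.exists_half
  exact H.not_le ((le_inf le_sup_right h1).trans h.symm.cenW.le)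

theorem ne : wA L ≠ wA L' := by
  obtain ⟨F, _, _, e, ⟨H⟩⟩ := h.exists_half
  exact H.ne

theorem exists_mul {b : G} (hb : b ∈ Ug L L') : ∃ w ∈ wA L, ∃ w' ∈ wA L', b = w * w' := by
  obtain ⟨F, _, _, e, ⟨H⟩⟩ := h.exists_half
  exact H.exists_mul hb

theorem mem_of_comm {w w' : G} (hw : w ∈ wA L) (hw' : w' ∈ wA L')
    (hc : ⁅w, w'⁆ ∈ centralizer (L : Set G)) : w ∈ Rg L L' ∨ w' ∈ Rg L L' := by
  obtain ⟨F, _, _, e, ⟨H⟩⟩ := h.exists_half
  by_cases h1 : w' ∈ centralizer (wA L : Set G)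
  · exact Or.inr ⟨h.cenW.le ⟨mem_sup_right hw', h1⟩, hw'⟩
  · refine Or.inl (h.R_eq.le ⟨hw, H.a.mem_cen_of_Z (mem_sup_right hw') h1 hw ?_⟩)
    rw [← commutatorElement_inv]
    exact inv_mem hc

theorem mem_of_sq {b : G} (hb : b ∈ Ug L L') (hc : b * b ∈ centralizer (L : Set G)) :
    b ∈ wA L ∨ b ∈ wA L' := by
  obtain ⟨F, _, _, e, ⟨H⟩⟩ := h.exists_half
  obtain ⟨w, hw, w', hw', rfl⟩ := h.exists_mul hb
  rw [H.sq_eq hw hw'] at hc
  rcases h.mem_of_comm hw hw' hc with h1 | h1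
  · exact Or.inr (mul_mem h1.2 hw')
  · exact Or.inl (mul_mem hw h1.1)

theorem mem_of_commute {w b : G} (hw : w ∈ wA L) (hw' : w ∉ Rg L L') (hb : b ∈ Ug L L')
    (hc : Commute w b) : b ∈ wA L := by
  obtain ⟨F, _, _, e, ⟨H⟩⟩ := h.exists_half
  exact (H.mem_of_comm hw hb hc).resolve_left fun h1 => hw' ⟨hw, h1⟩

theorem le_of_elem (hX : X ≤ Ug L L') (he : ∀ x ∈ X, x * x = 1) : X ≤ wA L ∨ X ≤ wA L' := by
  obtain ⟨F, _, _, e, ⟨H⟩⟩ := h.exists_half
  exact H.le_of_elem hX he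

theorem conj_cases (ht : t ∈ normalizer (Ug L L' : Set G)) :
    (t ∈ normalizer (wA L : Set G) ∧ t ∈ normalizer (wA L' : Set G)) ∨ Swp t L L' := by
  obtain ⟨F, _, _, e, ⟨H⟩⟩ := h.exists_half
  exact (H.conj_cases ht).imp (fun h1 => ⟨mem_normalizer_iff_conjS.2 h1.1,
    mem_normalizer_iff_conjS.2 h1.2⟩) id

theorem W_cases {L₂ L₂' : Subgroup G} (h2 : IsPair q L₂ L₂') (e : Ug L₂ L₂' = Ug L L') :
    (wA L₂ = wA L ∧ wA L₂' = wA L') ∨ (wA L₂ = wA L' ∧ wA L₂' = wA L) := by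
  obtain ⟨F, _, _, -, ⟨H⟩⟩ := h.exists_half
  obtain ⟨F₂, _, _, -, ⟨H₂⟩⟩ := h2.exists_half
  have a1 := H.mem_max.1 (e ▸ H₂.mem_max.2 (Or.inl rfl))
  have a2 := H.mem_max.1 (e ▸ H₂.mem_max.2 (Or.inr rfl))
  rcases a1 with a1 | a1 <;> rcases a2 with a2 | a2
  · exact absurd (a1.trans a2.symm) h2.ne
  · exact Or.inl ⟨a1, a2⟩
  · exact Or.inr ⟨a1, a2⟩
  · exact absurd (a1.trans a2.symm) h2.ne

theorem not_norm_of_swp (ht : Swp t L L') : t ∉ normalizer (wA L : Set G) := fun h1 =>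
  h.ne ((mem_normalizer_iff_conjS.1 h1).symm.trans ht.1)

theorem norm_of_swp (ht : Swp t L L') : t ∈ normalizer (Ug L L' : Set G) := by
  rw [mem_normalizer_iff_conjS, conjS_sup, ht.1, ht.2, sup_comm]

theorem exists_invol : ∃ n ∈ L, n * n = 1 ∧ n ∉ normalizer (Ug L L' : Set G) := by
  obtain ⟨F, _, _, e, ⟨H⟩⟩ := h.exists_half
  obtain ⟨l, hl, hl'⟩ := H.a.exists_not_norm
  obtain ⟨w, hw, hw'⟩ := SetLike.not_le_iff_exists.1 h.symm.not_le
  have hwL : l * w * l⁻¹ ∈ L := mul_mem (mul_mem hl (h.U_le (mem_sup_right hw))) (inv_mem hl)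
  have h2 : l * w * l⁻¹ * (l * w * l⁻¹) = 1 := by
    rw [show l * w * l⁻¹ * (l * w * l⁻¹) = l * (w * w) * l⁻¹ by group, comm_of_elem H.elemA' hw]; group
  have hp : IsPGroup 2 (zpowers (l * w * l⁻¹)) := elemAb_isPGroup (elemAb_zpowers (by rw [pow_two, h2]))
  have h3 : ¬ zpowers (l * w * l⁻¹) ≤ centralizer (wA L : Set G) := fun h3 => hw' (by
    simpa [mul_assoc] using conj_inv_mem_of_mem_normalizer (le_normalizer_centralizer h.normW hl)
      (zpowers_le.1 h3))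
  refine ⟨_, hwL, h2, fun hn => atom_not_pg H.a (H.a.sylow.le_of_normalizes hp (zpowers_le.2 hwL)
    (zpowers_le.2 hn)) h3 hl hl' (zpowers_le.2 (conj_mem_conjS.2 (mem_sup_right hw))) h3 ?_⟩
  rwa [sup_idem]

theorem exists_conj {w : G} (hw : w ∈ wA L) : ∃ e ∈ eA L, e * w * e⁻¹ ∈ Rg L L' := by
  obtain ⟨F, _, _, e, ⟨H⟩⟩ := h.exists_half
  exact H.exists_conj hw

/-- An involution normalizing `L` normalizes a Sylow 2-subgroup of `L`. -/
theorem exists_fix (ht : t * t = 1) (hn : t ∈ normalizer (L : Set G)) :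
    ∃ e ∈ eA L, t ∈ normalizer (conjS e (Ug L L') : Set G) := by
  obtain ⟨F, _, _, e, ⟨H⟩⟩ := h.exists_half
  have hp : IsPGroup 2 (zpowers t) := elemAb_isPGroup (elemAb_zpowers (by rw [pow_two, ht]))
  obtain ⟨S, hS, hle⟩ := exists_isSylowIn_ge hp (zpowers_le.2 hn)
  obtain ⟨l, hl, e1⟩ := H.a.sylow.exists_conj (hS.inf_of_normal le_normalizer le_rfl)
  obtain ⟨r, hr, s, hs, rfl⟩ := H.a.sylow.exists_mul hl
  rw [conjS_mul, conjS_eq_of_mem hs] at e1
  exact ⟨r, hr, e1 ▸ le_normalizer_inf (hle.trans le_normalizer) (zpowers_le.2 hn) (mem_zpowers t)⟩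

theorem sup_conj {l : G} (hl : l ∈ L) (hl' : l ∉ normalizer (Ug L L' : Set G)) :
    Ug L L' ⊔ conjS l (Ug L L') = L := by
  obtain ⟨F, _, _, e, ⟨H⟩⟩ := h.exists_half
  exact H.a.sup_conj hl hl'

theorem split (h1 : o ∈ normalizer (eA L : Set G)) (h2 : o ∈ centralizer (Ug L L' : Set G)) :
    ∃ r ∈ Rg L L', o * r ∈ centralizer (L : Set G) := by
  obtain ⟨F, _, _, e, ⟨H⟩⟩ := h.exists_half
  have hoW : zpowers o ≤ centralizer (wA L : Set G) := zpowers_le.2 (centralizer_anti le_sup_left h2)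
  have hc : wA L ⊔ zpowers o ≤ centralizer (wA L : Set G) := sup_le (elemAb_le_centralizer h.elem) hoW
  have hn : L ≤ normalizer ((wA L ⊔ zpowers o : Subgroup G) : Set G) := by
    refine h.E_sup.ge.trans (sup_le ?_ (LAE.le_normalizer_sup (h.U_le.trans h.normW)
      (le_normalizer_of_le_centralizer (le_centralizer_iff.1 (zpowers_le.2 h2)))))
    rw [sup_comm]
    exact le_normalizer_sup_of_commutator_le (H.a.EL.trans h.normW)
      (H.a.comm_le_of_cen (zpowers_le.2 h1) hoW)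
  have hi : (cen (wA L ⊔ zpowers o) (Ug L L')).relIndex (wA L ⊔ zpowers o) ≤ Fintype.card F := by
    have e1 : wA L ⊔ cen (wA L ⊔ zpowers o) (Ug L L') = wA L ⊔ zpowers o :=
      le_antisymm (sup_le le_sup_left inf_le_left)
        (sup_le_sup_left (le_inf le_sup_right (zpowers_le.2 h2)) _)
    have e2 := PLocal.relIndex_sup_of_le_normalizer (A := wA L) (B := cen (wA L ⊔ zpowers o) (Ug L L'))
      (le_normalizer_of_le_centralizer (le_centralizer_iff.1 (inf_le_left.trans hc)))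
    rw [e1] at e2
    rw [e2, ← H.a.idxC]
    exact relIndex_le_of_le_left (inf_le_inf_right _ le_sup_left) relIndex_ne_zero'
  obtain ⟨w, hw, c, hc', e1⟩ := (mem_sup_iff_of_left_le_normalizer (le_normalizer_of_le_centralizer
    (le_centralizer_iff.1 ((inf_le_left.trans inf_le_left).trans hc)))).1
    (H.a.split (sup_of_le_left inf_le_left) le_sup_left hn hc hi (mem_sup_right (mem_zpowers o)))
  have e2 : o * w⁻¹ = c := by rw [e1, hc hc'.1.1 w hw, mul_inv_cancel_right]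
  have e3 : o * w⁻¹ ∈ centralizer (Ug L L' : Set G) := by rw [e2]; exact hc'.1.2
  refine ⟨w⁻¹, h.R_eq.le ⟨Subgroup.inv_mem _ hw, (mul_mem_cancel_left h2).1 e3⟩, ?_⟩
  rw [e2, ← h.E_sup, LAE.centralizer_sup]
  exact ⟨hc'.2, hc'.1.2⟩

theorem res_le_cen (h1 : X ≤ normalizer (eA L : Set G)) (h2 : X ≤ centralizer (Ug L L' : Set G)) :
    pResOf 2 X ≤ centralizer (L : Set G) := pResOf_le_of_forall_pow_mem fun g hg => by
  obtain ⟨r, hr, h3⟩ := h.split (h1 hg) (h2 hg)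
  refine ⟨1, ?_⟩
  have : g ^ 2 ^ 1 = g * r * (g * r) := by
    rw [mul_assoc, ← mul_assoc r, h2 hg r (mem_sup_left hr.1), mul_assoc, comm_of_elem h.elem hr.1,
      mul_one, pow_one, pow_two]
  rw [this]
  exact mul_mem h3 h3

theorem mem_sup_cen {x : G} : x ∈ Ug L L' ⊔ centralizer (Kg L L' : Set G) ↔
    ∃ b ∈ Ug L L', ∃ c ∈ centralizer (Kg L L' : Set G), x = b * c := mem_sup_iff_of_left_le_normalizer (h.U_le_K.trans (le_normalizer_centralizer le_normalizer))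

/-- Involutions of `U C(K)`. -/
theorem invol {x : G} (hx : x ∈ Ug L L' ⊔ centralizer (Kg L L' : Set G)) (h2 : x * x = 1) :
    ∃ b, (b ∈ wA L ∨ b ∈ wA L') ∧ ∃ c ∈ centralizer (Kg L L' : Set G), c * c = 1 ∧ x = b * c := by
  obtain ⟨b, hb, c, hc, rfl⟩ := h.mem_sup_cen.1 hx
  have e : b * b * (c * c) = 1 := by
    calc b * b * (c * c) = b * (b * c) * c := by group
      _ = b * (c * b) * c := by rw [hc b (h.U_le_K hb)]
      _ = 1 := by rw [← h2]; group
  have h3 := h.mem_of_sq hb (by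
    rw [eq_inv_of_mul_eq_one_left e]
    exact centralizer_anti h.L_le_K (inv_mem (mul_mem hc hc)))
  refine ⟨b, h3, c, hc, ?_, rfl⟩
  have : b * b = 1 := h3.elim (comm_of_elem h.elem) (comm_of_elem h.symm.elem)
  rwa [this, one_mul] at e

theorem comm_ne : ⁅Kg L L', Kg L L'⁆ ≠ ⊥ := fun e =>
  h.not_le ((le_sup_left.trans h.U_le_K).trans ((comm_bot_iff.1 e).trans
    (centralizer_anti (le_sup_right.trans h.U_le_K))))

end IsPair

namespace Ad

variable (h : Ad q u L L')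
include h

omit [Finite G] in
theorem symm : Ad q u L' L := ⟨h.pair.symm, h.cl, Ug_comm L L' ▸ h.cU, h.uq', h.uq⟩

theorem conj (g : G) : Ad q (g * u * g⁻¹) (conjS g L) (conjS g L') := by
  have k : ∀ L : Subgroup G, ⁅cen (Tt u) (wA L), eA L⁆ ≤ wA L →
      ⁅cen (Tt (g * u * g⁻¹)) (wA (conjS g L)), eA (conjS g L)⁆ ≤ wA (conjS g L) := fun L h1 => by
    have := conjS_mono (g := g) h1
    rwa [conjS_commutator, conjS_inf, conjS_centralizer, conjS_Tt, conjS_wA, conjS_eA] at this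
  refine ⟨h.pair.conj g, h.cl.conj g, fun x hx => ?_, k L h.uq, k L' h.uq'⟩
  rw [← conjS_Ug] at hx
  obtain ⟨y, hy, rfl⟩ := exists_of_mem_conjS hx
  have := mem_centralizer_singleton_iff.1 (h.cU hy)
  rw [mem_centralizer_singleton_iff]
  calc g * y * g⁻¹ * (g * u * g⁻¹) = g * (y * u) * g⁻¹ := by group
    _ = _ := by rw [this]; group

theorem conj_of_comm (ht : Commute u t) : Ad q u (conjS t L) (conjS t L') := by
  have := h.conj t
  rwa [← ht.eq, mul_inv_cancel_right] at this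

theorem le_T : Ug L L' ≤ Tt u := h.cl.le_Tt h.pair.pg h.cU

theorem comm_U {b : G} (hb : b ∈ Ug L L') : Commute u b := (mem_centralizer_singleton_iff.1 (h.cU hb)).symm

theorem mem_cen_U : u ∈ centralizer (Ug L L' : Set G) := fun _ hb => (h.comm_U hb).symm.eq

theorem mem_cen_W : u ∈ cen (Tt u) (wA L) := ⟨h.cl.mem, centralizer_anti le_sup_left h.mem_cen_U⟩

theorem conj_mul_mem {e : G} (he : e ∈ L) : e * u * e⁻¹ * u ∈ wA L := by
  obtain ⟨r, hr, b, hb, rfl⟩ := (mem_sup_iff_of_right_le_normalizer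
    (h.pair.U_le.trans (le_normalizer_pResOf L))).1 (h.pair.E_sup.ge he)
  have e1 : r * b * u * (r * b)⁻¹ * u = ⁅u, r⁆⁻¹ := by
    rw [commutatorElement_inv, commutatorElement_def, h.cl.inv_eq, mul_assoc r b, ← (h.comm_U hb).eq]
    group
  rw [e1]
  exact inv_mem (h.uq (commutator_mem_commutator h.mem_cen_W hr))

theorem elemY : IsElementaryAbelian 2 (wA L ⊔ zpowers u : Subgroup G) := elemAb_sup h.pair.elem (elemAb_zpowers (by rw [pow_two, h.cl.sq]))
    (le_centralizer_iff.1 (zpowers_le.2 h.mem_cen_W.2))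

theorem normY : L ≤ normalizer ((wA L ⊔ zpowers u : Subgroup G) : Set G) := fun l hl => by
  refine mem_normalizer_of_conjS_le ?_
  rw [conjS_sup, mem_normalizer_iff_conjS.1 (h.pair.normW hl), Blocks.conjS_zpowers]
  refine sup_le le_sup_left (zpowers_le.2 ?_)
  rw [← mul_inv_cancel_right (l * u * l⁻¹) u]
  exact mul_mem (mem_sup_left (h.conj_mul_mem hl)) (mem_sup_right (inv_mem (mem_zpowers u)))

theorem not_cen : u ∉ centralizer (L : Set G) := fun h1 =>
  h.cl.not_le_atom h.pair.atom fun x hx => mem_centralizer_singleton_iff.2 (h1 x hx)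

theorem not_cen_E : u ∉ centralizer (eA L : Set G) := fun h1 => h.not_cen (by
  rw [← h.pair.E_sup, LAE.centralizer_sup]; exact ⟨h1, h.mem_cen_U⟩)

theorem norm_of_cen (h1 : o ∈ Tt u) (h2 : o ∈ centralizer (wA L : Set G)) :
    o ∈ normalizer (eA L : Set G) := by
  refine mem_normalizer_of_conjS_le (conjS_le_iff_forall.2 fun e he => ?_)
  rw [← inv_mul_cancel_right (o * e * o⁻¹) e]
  exact mul_mem (h.pair.W_le_E (h.uq (commutator_mem_commutator (⟨h1, h2⟩ : o ∈ cen _ _) he))) he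

theorem split (h1 : o ∈ Tt u) (h2 : o ∈ centralizer (Ug L L' : Set G)) :
    ∃ r ∈ Rg L L', o * r ∈ centralizer (L : Set G) := h.pair.split (h.norm_of_cen h1 (centralizer_anti le_sup_left h2)) h2

theorem gen (h1 : u ∈ M) (h2 : ∀ e ∈ eA L, e * u * e⁻¹ ∈ M) : wA L ≤ M := by
  obtain ⟨F, _, _, -, ⟨H⟩⟩ := h.pair.exists_half
  have hX : ⁅zpowers u, eA L⁆ ≤ wA L := (commutator_mono (zpowers_le.2 h.mem_cen_W) le_rfl).trans h.uq
  rw [← atom_eq_of_normal H.a hX (normalizer_commutator_ge_right _ _) fun h3 => h.not_cen_E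
    (zpowers_le.1 (le_centralizer_iff.1 (pResOf_le_centralizer_of_commutator
      (H.a.pgW.to_le hX) (H.a.EL.trans (le_centralizer_iff.1 h3)))))]
  refine commutator_le.2 fun x hx e he => ?_
  obtain ⟨k, rfl⟩ := mem_zpowers_iff.1 hx
  have : ⁅u ^ k, e⁆ = u ^ k * ((e * u * e⁻¹) ^ k)⁻¹ := by
    rw [conj_zpow, commutatorElement_def]; group
  rw [this]
  exact mul_mem (zpow_mem h1 k) (inv_mem (zpow_mem (h2 e he) k))

theorem gen' (h1 : ∀ y ∈ Ug L L' ⊔ zpowers u, Cl y → y ∈ M) : Ug L L' ≤ M := by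
  have k : ∀ {L L' : Subgroup G}, Ad q u L L' → (∀ y ∈ Ug L L' ⊔ zpowers u, Cl y → y ∈ M) → wA L ≤ M :=
    fun h h1 => h.gen (h1 u (mem_sup_right (mem_zpowers u)) h.cl) fun e he =>
      h1 _ (SetLike.le_def.1 (sup_le_sup_right le_sup_left _) (LAE.conj_mem_of_mem_normalizer (h.normY (pResOf_le _ he))
        (mem_sup_right (mem_zpowers u)))) (h.cl.conj e)
  exact sup_le (k h h1) (k h.symm (Ug_comm L L' ▸ h1))

theorem gd {r : G} (hr : r ∈ Rg L L') (hc : u * r ∈ centralizer (Kg L L' : Set G)) : Gd L L' r := by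
  have k : ∀ {L L' : Subgroup G}, Ad q u L L' → u * r ∈ centralizer (Kg L L' : Set G) →
      r ∉ centralizer (L : Set G) := fun h hc h1 =>
    h.not_cen ((mul_mem_cancel_right h1).1 (centralizer_anti h.pair.L_le_K hc))
  exact ⟨hr, k h hc, k h.symm (Kg_comm L L' ▸ hc)⟩

omit [Finite G] in
theorem le_Dr (e : Rg L L' = R) : Ug L L' ≤ Dr q u R := le_iSup_of_le L (le_iSup₂_of_le L' ⟨h, e⟩ le_rfl)

omit [Finite G] in
theorem le_Kr (e : Rg L L' = R) : Kg L L' ≤ Kr q u R := le_iSup_of_le L (le_iSup₂_of_le L' ⟨h, e⟩ le_rfl)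

omit [Finite G] in
theorem le_Kst : Kg L L' ≤ Kst q u := le_iSup_of_le L (le_iSup₂_of_le L' h le_rfl)

end Ad

omit [Finite G] in
theorem Dr_le_iff : Dr q u R ≤ M ↔ ∀ L L', Ad q u L L' → Rg L L' = R → Ug L L' ≤ M := by
  simp only [Dr, iSup_le_iff, and_imp]

omit [Finite G] in
theorem Kr_le_iff : Kr q u R ≤ M ↔ ∀ L L', Ad q u L L' → Rg L L' = R → Kg L L' ≤ M := by
  simp only [Kr, iSup_le_iff, and_imp]

omit [Finite G] in
theorem Kst_le_iff : Kst q u ≤ M ↔ ∀ L L', Ad q u L L' → Kg L L' ≤ M := by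
  simp only [Kst, iSup_le_iff]

theorem Dr_le_T : Dr q u R ≤ Tt u := Dr_le_iff.2 fun _ _ h _ => h.le_T

theorem Dr_le_Kr : Dr q u R ≤ Kr q u R := Dr_le_iff.2 fun _ _ h e => h.pair.U_le_K.trans (h.le_Kr e)

omit [Finite G] in
theorem Kr_le_Kst : Kr q u R ≤ Kst q u := Kr_le_iff.2 fun _ _ h _ => h.le_Kst

theorem conjS_Dr (g : G) : conjS g (Dr q u R) = Dr q (g * u * g⁻¹) (conjS g R) := by
  have k : ∀ (g u : G) (R : Subgroup G), conjS g (Dr q u R) ≤ Dr q (g * u * g⁻¹) (conjS g R) :=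
    fun g u R => conjS_le_iff.2 (Dr_le_iff.2 fun L L' h e => conjS_le_iff.1 (by
      rw [conjS_Ug]; exact (h.conj g).le_Dr (by rw [← conjS_Rg, e])))
  refine le_antisymm (k g u R) (le_conjS_iff.2 ((k _ _ _).trans ?_))
  rw [conjS_inv_conjS, show g⁻¹ * (g * u * g⁻¹) * g⁻¹⁻¹ = u by group]

theorem conjS_Kr (g : G) : conjS g (Kr q u R) = Kr q (g * u * g⁻¹) (conjS g R) := by
  have k : ∀ (g u : G) (R : Subgroup G), conjS g (Kr q u R) ≤ Kr q (g * u * g⁻¹) (conjS g R) :=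
    fun g u R => conjS_le_iff.2 (Kr_le_iff.2 fun L L' h e => conjS_le_iff.1 (by
      rw [conjS_Kg]; exact (h.conj g).le_Kr (by rw [← conjS_Rg, e])))
  refine le_antisymm (k g u R) (le_conjS_iff.2 ((k _ _ _).trans ?_))
  rw [conjS_inv_conjS, show g⁻¹ * (g * u * g⁻¹) * g⁻¹⁻¹ = u by group]

theorem conjS_Kst (g : G) : conjS g (Kst q u) = Kst q (g * u * g⁻¹) := by
  have k : ∀ (g u : G), conjS g (Kst q u) ≤ Kst q (g * u * g⁻¹) :=
    fun g u => conjS_le_iff.2 (Kst_le_iff.2 fun L L' h => conjS_le_iff.1 (by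
      rw [conjS_Kg]; exact (h.conj g).le_Kst))
  refine le_antisymm (k g u) (le_conjS_iff.2 ((k _ _).trans ?_))
  rw [show g⁻¹ * (g * u * g⁻¹) * g⁻¹⁻¹ = u by group]

omit [Finite G] in
/-- The components in `C(K)` of two involutions of `K C(K)` generating a 2-group. -/
theorem pg_cpart {K : Subgroup G} {a b c d : G} (ha : a ∈ K) (hb : b ∈ K)
    (hc : c ∈ centralizer (K : Set G)) (hd : d ∈ centralizer (K : Set G)) (h1 : c * c = 1)
    (h2 : d * d = 1) (h : IsPGroup 2 (zpowers (a * c) ⊔ zpowers (b * d) : Subgroup G)) :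
    IsPGroup 2 (zpowers c ⊔ zpowers d : Subgroup G) := by
  obtain ⟨k, hk⟩ := isPGroup_iff_forall_mem.1 h (a * c * (b * d))
    (mul_mem (mem_sup_left (mem_zpowers _)) (mem_sup_right (mem_zpowers _)))
  have hab : a * b ∈ K := mul_mem ha hb
  have c1 : Commute (a * b) (c * d) := mul_mem hc hd _ hab
  have e1 : a * c * (b * d) = a * b * (c * d) := by
    rw [mul_assoc, ← mul_assoc c, ← hc b hb]; group
  rw [e1, c1.mul_pow] at hk
  have ci : c⁻¹ = c := inv_eq_of_mul_eq_one_right h1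
  have di : d⁻¹ = d := inv_eq_of_mul_eq_one_right h2
  have e2 : c * (c * d) * c⁻¹ = (c * d)⁻¹ := by rw [← mul_assoc, h1, one_mul, mul_inv_rev, di]
  have e3 : (c * d) ^ 2 ^ k ∈ K := by
    rw [eq_inv_of_mul_eq_one_right hk]; exact inv_mem (pow_mem hab _)
  have e4 : (c * d) ^ 2 ^ (k + 1) = 1 := by
    have e5 : c * (c * d) ^ 2 ^ k * c⁻¹ = ((c * d) ^ 2 ^ k)⁻¹ := by rw [← conj_pow, e2, inv_pow]
    rw [← hc _ e3, mul_inv_cancel_right] at e5
    rw [pow_succ, pow_mul, pow_two]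
    exact mul_eq_one_iff_eq_inv.2 e5
  have hn : zpowers c ≤ normalizer ((zpowers (c * d) : Subgroup G) : Set G) :=
    zpowers_le.2 (mem_normalizer_iff_conjS.2 (by rw [Blocks.conjS_zpowers, e2, zpowers_inv]))
  refine (isPGroup_sup (Core.isPGroup_zpowers_iff.2 ⟨1, by rw [pow_one, pow_two, h1]⟩)
    (Core.isPGroup_zpowers_iff.2 ⟨_, e4⟩) hn).to_le (sup_le le_sup_left (zpowers_le.2 ?_))
  exact (mul_mem_cancel_left (mem_sup_left (mem_zpowers c))).1 (mem_sup_right (mem_zpowers _))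

end CfsgLib.Baum
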