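import Mathlib
import Cfsg.Agent.Lib.Baum.Pair
import Cfsg.Agent.Lib.CGT2.Coord

/-! Pairs of atoms over fields with more than two elements. -/

set_option autoImplicit false

namespace CfsgLib.Baum

open Subgroup Cfsg CfsgLib.LAE CfsgLib.PLocal CfsgLib.Push CfsgLib.BHS CfsgLib.ZJ CfsgLib.SL2
  CfsgLib.Blocks CfsgLib.LocStr CfsgLib.CGT2
open scoped commutatorElement


variable {G : Type*} [Group G] [Finite G]

variable {q : ℕ} {u o r r' : G} {L L' : Subgroup G}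

namespace PB

/-- The group acting on the coordinates. -/
abbrev NN (U L W : Subgroup G) : Subgroup G :=
  normalizer (U : Set G) ⊓ normalizer (L : Set G) ⊓ normalizer (W : Set G)

/-- The coordinates of a half. -/
abbrev Co (F : Type) [Field F] (U L W W' : Subgroup G) : Type _ :=
  Coord F U W W (W ⊓ W') (cen W L) L (NN U L W)

variable {F : Type} [Field F] [Fintype F] {U W W' : Subgroup G} (h : Half F U L W W W') (c : Co F U L W W')
  {x y a a' b b' d : G}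
include h

theorem mem_NN (h1 : x ∈ normalizer (L : Set G)) (h2 : x ∈ normalizer (U : Set G)) : x ∈ NN U L W :=
  ⟨⟨h2, h1⟩, h.a.norm_W (h.a.norm_E h1)⟩

theorem conj_R (hx : x ∈ NN U L W) (hd : d ∈ W ⊓ W') : x * d * x⁻¹ ∈ W ⊓ W' :=
  LAE.conj_mem_of_mem_normalizer (h.norm_D hx.1.1) hd

theorem sq_W (ha : a ∈ W) : a * a = 1 := half_mul_self h.elemA ha

theorem comm_W (ha : a ∈ W) (ha' : a' ∈ W) : a * a' = a' * a := (elemAb_iff.1 h.elemA).1 a ha a' ha'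

theorem comm_R (hb : b ∈ U) (hd : d ∈ W ⊓ W') : b * d = d * b := h.D_le_cen hd b hb

omit h [Finite G] in
theorem fix_of (hx : x ∈ centralizer (cen W L : Set G)) (hd : d ∈ cen W L) : x * d * x⁻¹ = d := by
  rw [← hx d hd, mul_inv_cancel_right]

omit h [Finite G] in
theorem L_cen (hx : x ∈ L) : x ∈ centralizer (cen W L : Set G) := fun _ hd => (hd.2 x hx).symm

theorem exists_ne (h2 : 2 < Fintype.card F) : ∃ t : F, t ≠ 0 ∧ t + 1 ≠ 0 := by
  classical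
  have := h.a.char
  obtain ⟨t, -, ht⟩ := Finset.exists_mem_notMem_of_card_lt_card (s := ({0, 1} : Finset F)) (t := Finset.univ)
    (Finset.card_le_two.trans_lt h2)
  simp only [Finset.mem_insert, Finset.mem_singleton, not_or] at ht
  exact ⟨t, ht.1, fun e => ht.2 (by rwa [CharTwo.add_eq_zero] at e)⟩

theorem exists_sqrt (t : F) : ∃ s, s ^ 2 = t := by
  have := h.a.char
  have : ExpChar F 2 := .prime Nat.prime_two
  exact (Finite.surjective_of_injective (frobenius F 2).injective) t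

include c

omit h [Finite G] in
theorem τc (hx : x ∈ NN U L W) (hL : x ∈ L) (hb : b ∈ U) : c.τ (x * b * x⁻¹) = c.γ x * c.τ b := by
  rw [c.τ_conj x hx b hb, c.σ_of_mem x hx hL]

omit h [Finite G] in
theorem αc (hx : x ∈ NN U L W) (hL : x ∈ L) (ha : a ∈ W) : c.α (x * a * x⁻¹) = c.ε x * c.α a := by
  rw [c.α_conj x hx a ha, c.σ_of_mem x hx hL]

omit h [Finite G] in
theorem δc (hx : x ∈ NN U L W) (hL : x ∈ L) (hd : d ∈ W ⊓ W') : c.δ (x * d * x⁻¹) = c.γ x * c.ε x * c.δ d := by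
  rw [c.δ_conj x hx d hd, c.σ_of_mem x hx hL]

theorem α_eq (ha : a ∈ W) (ha' : a' ∈ W) : c.α a = c.α a' ↔ a * a' ∈ W ⊓ W' := by
  have := h.a.char
  rw [← c.α_zero _ (mul_mem ha ha'), c.α_mul _ ha _ ha', CharTwo.add_eq_zero]

theorem δ_eq (ha : a ∈ W ⊓ W') (ha' : a' ∈ W ⊓ W') : c.δ a = c.δ a' ↔ a * a' ∈ cen W L := by
  have := h.a.char
  rw [← c.δ_zero _ (mul_mem ha ha'), c.δ_mul _ ha _ ha', CharTwo.add_eq_zero]

theorem comm_τ (hb : b ∈ U) (hb' : b' ∈ U) (e : c.τ b = c.τ b') (ha : a ∈ W) : ⁅b, a⁆ = ⁅b', a⁆ := by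
  have e1 := c.τ_mul _ hb _ (mul_mem (inv_mem hb) hb')
  rw [mul_inv_cancel_left, e, left_eq_add, c.τ_zero _ (mul_mem (inv_mem hb) hb')] at e1
  rw [show ⁅b', a⁆ = b * (b⁻¹ * b' * a) * (b⁻¹ * b')⁻¹ * b⁻¹ * a⁻¹ by rw [commutatorElement_def]; group,
    comm_W h e1 ha, commutatorElement_def]
  group

theorem comm_α (hb : b ∈ U) (ha : a ∈ W) (ha' : a' ∈ W) (e : c.α a = c.α a') : ⁅b, a⁆ = ⁅b, a'⁆ := by
  have e1 := (α_eq h c ha ha').1 e
  have e2 : a' = a * (a * a') := by rw [← mul_assoc, sq_W h ha, one_mul]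
  generalize a * a' = r at e1 e2
  rw [e2, show ⁅b, a * r⁆ = b * a * (r * b⁻¹) * r⁻¹ * a⁻¹ by rw [commutatorElement_def]; group,
    ← comm_R h (inv_mem hb) e1, commutatorElement_def]
  group

/-- The torus. -/
theorem torus {t : F} (ht : t ≠ 0) : ∃ k ∈ NN U L W, k ∈ eA L ∧ c.γ k = t ^ 2 ∧
    ∀ d ∈ W ⊓ W', c.δ (k * d * k⁻¹) = t * c.δ d := by
  obtain ⟨k, hk, hE, -, e1, e2⟩ := c.torus t ht
  exact ⟨k, hk, hE, e1, fun d hd => by rw [δc c hk (h.a.EL hE) hd, e1, e2]; field_simp⟩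

theorem of_lin (hx : x ∈ NN U L W) (hp : IsPGroup 2 (zpowers x)) (hσ : ∀ t, c.σ x t = t) :
    ∃ b ∈ U, x * b ∈ centralizer (W : Set G) := by
  obtain ⟨b, hb, e⟩ := c.lin x hx hp hσ
  exact ⟨b⁻¹, inv_mem hb, h.cen_of_kl (mul_mem hx.1.2 (inv_mem (le_normalizer (h.a.le hb)))) e⟩

theorem mem_U (hx : x ∈ NN U L W) (hL : x ∈ L) (h1 : ∀ a ∈ W, c.α (x * a * x⁻¹) = c.α a)
    (h2 : ∀ d ∈ W ⊓ W', c.δ (x * d * x⁻¹) = c.δ d) : x ∈ U := by
  have h4 : x ^ 4 ∈ W := by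
    rw [← h.A_eq, ← h.a.cen_LW]
    refine ⟨pow_mem hL 4, fun a ha => ?_⟩
    have m1 := (α_eq h c (LAE.conj_mem_of_mem_normalizer hx.2 ha) ha).1 (h1 a ha)
    have m2 := (δ_eq h c (conj_R h hx m1) m1).1 (h2 _ m1)
    have m3 := fix_of (L_cen hL) m2
    have e1 : x * a * x⁻¹ = (x * a * x⁻¹ * a) * a := by rw [mul_assoc _ a a, sq_W h ha, mul_one]
    generalize x * a * x⁻¹ * a = r at m1 m2 m3 e1
    have e2 : x * r * x⁻¹ = (x * r * x⁻¹ * r) * r := by rw [mul_assoc _ r r, sq_W h m1.1, mul_one]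
    generalize x * r * x⁻¹ * r = z at m2 m3 e2
    have e3 : x * (x * a * x⁻¹) * x⁻¹ = z * a := by
      rw [e1, ← conj_mul, e1, e2, mul_assoc, ← mul_assoc r, sq_W h m1.1, one_mul]
    have e4 : x * (x * (z * a) * x⁻¹) * x⁻¹ = a := by
      rw [← conj_mul (a := z), ← conj_mul, m3, m3, e3, ← mul_assoc, sq_W h m2.1, one_mul]
    rw [← e3] at e4
    rw [← mul_inv_eq_iff_eq_mul.1 (show x ^ 4 * a * (x ^ 4)⁻¹ = a from Eq.trans (by
      simp only [pow_succ, pow_zero, one_mul, mul_inv_rev, mul_assoc]) e4)]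
  obtain ⟨b, hb, e⟩ := of_lin h c hx (isPGroup_iff_forall_mem.2 (by
    rintro _ ⟨n, rfl⟩
    exact ⟨3, by
      rw [← zpow_natCast, ← zpow_mul, mul_comm, zpow_mul, zpow_natCast, show 2 ^ 3 = 4 * 2 from rfl, pow_mul, sq,
        sq_W h h4, one_zpow]⟩)) (c.σ_of_mem x hx hL)
  have : x * b ∈ cen U W := h.a.cen_LW ▸ ⟨mul_mem hL (h.a.le hb), e⟩
  exact (U.mul_mem_cancel_right hb).1 this.1

theorem conj_comm (hx : x ∈ NN U L W) (hL : x ∈ L) (hy : y ∈ NN U L W) (hL' : y ∈ L) (hd : d ∈ W ⊓ W') :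
    x * (y * d * y⁻¹) * x⁻¹ = y * (x * d * x⁻¹) * y⁻¹ := by
  have hN := mul_mem (inv_mem (mul_mem hy hx)) (mul_mem hx hy)
  have e : ∀ a g, g = (y * x)⁻¹ * (x * y) → y * (x * (g * a * g⁻¹) * x⁻¹) * y⁻¹ = x * (y * a * y⁻¹) * x⁻¹ :=
    fun a g e => by rw [e]; group
  have m := mem_U h c hN (mul_mem (inv_mem (mul_mem hL' hL)) (mul_mem hL hL')) (fun a ha => by
    have m1 := LAE.conj_mem_of_mem_normalizer hN.2 ha
    have := congrArg c.α (e a _ rfl)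
    rw [αc c hy hL' (LAE.conj_mem_of_mem_normalizer hx.2 m1), αc c hx hL m1,
      αc c hx hL (LAE.conj_mem_of_mem_normalizer hy.2 ha), αc c hy hL' ha, mul_left_comm] at this
    exact mul_left_cancel₀ (c.ε_ne y hy) (mul_left_cancel₀ (c.ε_ne x hx) this)) fun d hd => by
    have m1 := conj_R h hN hd
    have := congrArg c.δ (e d _ rfl)
    rw [δc c hy hL' (conj_R h hx m1), δc c hx hL m1, δc c hx hL (conj_R h hy hd), δc c hy hL' hd,
      mul_left_comm] at this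
    exact mul_left_cancel₀ (mul_ne_zero (c.γ_ne y hy) (c.ε_ne y hy))
      (mul_left_cancel₀ (mul_ne_zero (c.γ_ne x hx) (c.ε_ne x hx)) this)
  rw [← e d _ rfl, comm_R h m hd, mul_inv_cancel_right]

/-- The complement `C = [R, N_E(U)]` of `Z` in `R`. -/
theorem exists_C (h2 : 2 < Fintype.card F) : ∃ C : Subgroup G, (∀ z ∈ C, z ∈ cen W L → z = 1) ∧
    (∀ r ∈ W ⊓ W', ∃ z ∈ cen W L, r * z ∈ C) ∧
    ∀ x ∈ NN U L W, x ∈ centralizer (cen W L : Set G) → ∀ r ∈ W ⊓ W', x * r * x⁻¹ * r ∈ C := by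
  obtain ⟨t, ht0, ht1⟩ := exists_ne h h2
  obtain ⟨k, hk, hE, -, hδ⟩ := torus h c ht0
  have hL := h.a.EL hE
  let C : Subgroup G :=
    { carrier := {x | ∃ r ∈ W ⊓ W', k * r * k⁻¹ * r = x}
      one_mem' := ⟨1, one_mem _, by simp⟩
      mul_mem' := by
        rintro _ _ ⟨r, hr, rfl⟩ ⟨r', hr', rfl⟩
        refine ⟨r * r', mul_mem hr hr', ?_⟩
        rw [← conj_mul, mul_assoc, ← mul_assoc (k * r' * k⁻¹), comm_W h (conj_R h hk hr').1 hr.1]
        group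
      inv_mem' := by
        rintro _ ⟨r, hr, rfl⟩
        exact ⟨r, hr, eq_inv_of_mul_eq_one_left (sq_W h (mul_mem (conj_R h hk hr) hr).1)⟩ }
  have hd : ∀ r ∈ W ⊓ W', c.δ (k * r * k⁻¹ * r) = (t + 1) * c.δ r := fun r hr => by
    rw [c.δ_mul _ (conj_R h hk hr) _ hr, hδ r hr]; ring
  have C2 : ∀ r ∈ W ⊓ W', ∃ z ∈ cen W L, r * z ∈ C := fun r hr => by
    obtain ⟨r₀, hr₀, e⟩ := c.δ_surj (c.δ r / (t + 1))
    have m := mul_mem (conj_R h hk hr₀) hr₀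
    refine ⟨_, (δ_eq h c hr m).1 (by rw [hd _ hr₀, e]; field_simp), r₀, hr₀, ?_⟩
    rw [← mul_assoc r r, sq_W h hr.1, one_mul]
  have C3 : ∀ x ∈ centralizer (cen W L : Set G), (∀ s ∈ C, x * s * x⁻¹ ∈ C) → ∀ r ∈ W ⊓ W',
      x * r * x⁻¹ * r ∈ C := fun x hx hn r hr => by
    obtain ⟨z, hz, m⟩ := C2 r hr
    have := mul_mem (hn _ m) m
    rwa [← conj_mul, fix_of hx hz, mul_assoc, comm_W h hr.1 hz.1, ← mul_assoc z, sq_W h hz.1, one_mul] at this
  refine ⟨C, ?_, C2, fun x hx hc => C3 x hc ?_⟩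
  · rintro _ ⟨r, hr, rfl⟩ hz
    have e := (c.δ_zero _ (h.Z_le hz)).2 hz
    rw [hd r hr, mul_eq_zero, or_iff_right ht1, c.δ_zero r hr] at e
    rw [fix_of (L_cen hL) e, sq_W h hr.1]
  · rintro _ ⟨r, hr, rfl⟩
    have hN := mul_mem (mul_mem hx hk) (inv_mem hx)
    have hL' := LAE.conj_mem_of_mem_normalizer hx.1.2 hL
    have := C3 _ (L_cen hL') (by
      rintro _ ⟨s, hs, rfl⟩
      exact ⟨_, conj_R h hN hs, by rw [← conj_mul (a := k * s * k⁻¹), conj_comm h c hN hL' hk hL hs]⟩) _ (conj_R h hx hr)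
    rwa [show x * k * x⁻¹ * (x * r * x⁻¹) * (x * k * x⁻¹)⁻¹ * (x * r * x⁻¹) = x * (k * r * k⁻¹ * r) * x⁻¹ by
      group] at this

theorem exists_f (h2 : 2 < Fintype.card F) : ∃ f : F → cen W L, Function.Surjective f ∧
    ∀ x ∈ NN U L W, x ∈ centralizer (cen W L : Set G) → ∃ k ∈ NN U L W, k ∈ L ∧
      ∀ a ∈ W, f (c.α (k * x * a * (k * x)⁻¹)) = f (c.α a) := by
  obtain ⟨C, C1, C2, C3⟩ := exists_C h c h2
  obtain ⟨b₁, hb₁, e₁⟩ := c.τ_surj 1
  choose s hs using c.α_surj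
  choose p hp hp' using fun t => C2 _ (c.comm_mem b₁ hb₁ (s t) (hs t).1)
  have F1 : ∀ a ∈ W, ∀ z ∈ cen W L, ⁅b₁, a⁆ * z ∈ C → p (c.α a) = z := fun a ha z hz m => by
    have m' := hp' (c.α a)
    rw [comm_α h c hb₁ (hs _).1 ha (hs _).2] at m'
    have := mul_mem (inv_mem m') m
    rw [mul_inv_rev, mul_assoc, inv_mul_cancel_left] at this
    exact inv_mul_eq_one.1 (C1 _ this (mul_mem (inv_mem (hp _)) hz))
  have tor : ∀ t : F, t ≠ 0 → ∃ k ∈ NN U L W, k ∈ L ∧ ∀ b ∈ U, c.τ (k * b * k⁻¹) = t * c.τ b := fun t ht => by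
    obtain ⟨u, rfl⟩ := exists_sqrt h t
    obtain ⟨k, hk, hE, e, -⟩ := torus h c (t := u) (by simpa using ht)
    exact ⟨k, hk, h.a.EL hE, fun b hb => by rw [τc c hk (h.a.EL hE) hb, e]⟩
  refine ⟨fun t => ⟨p t, hp t⟩, fun ⟨z, hz⟩ => ?_, fun x hx hc => ?_⟩
  · let S : Subgroup G :=
      { carrier := {r | r ∈ W ∧ ∃ a ∈ W, ⁅b₁, a⁆ * r ∈ C}
        one_mem' := ⟨one_mem _, 1, one_mem _, by simp⟩
        mul_mem' := by
          rintro r r' ⟨hr, a, ha, m⟩ ⟨hr', a', ha', m'⟩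
          refine ⟨mul_mem hr hr', a * a', mul_mem ha ha', ?_⟩
          have := mul_mem m m'
          have m1 := (c.comm_mem b₁ hb₁ a' ha').1
          rwa [mul_assoc, ← mul_assoc r, comm_W h hr m1, show ⁅b₁, a⁆ * (⁅b₁, a'⁆ * r * r') =
            ⁅b₁, a⁆ * (⁅b₁, a'⁆ * a * a⁻¹) * (r * r') by group, comm_W h m1 ha, show
            ⁅b₁, a⁆ * (a * ⁅b₁, a'⁆ * a⁻¹) = ⁅b₁, a * a'⁆ by simp only [commutatorElement_def]; group] at this
        inv_mem' := by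
          rintro r ⟨hr, m⟩
          rw [inv_eq_of_mul_eq_one_right (sq_W h hr)]
          exact ⟨hr, m⟩ }
    have hS : ⁅W', W⁆ ≤ S := commutator_le.2 fun b hb a ha => by
      have hb := h.A'_le hb
      refine ⟨(c.comm_mem b hb a ha).1, ?_⟩
      by_cases e : c.τ b = 0
      · refine ⟨1, one_mem _, ?_⟩
        rw [commutatorElement_eq_one_iff_mul_comm.2 (comm_W h ((c.τ_zero b hb).1 e) ha)]; simp
      obtain ⟨k, hk, hL, hτ⟩ := tor _ e
      have m := conj_inv_mem_of_mem_normalizer hk.2 ha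
      have m1 := c.comm_mem b₁ hb₁ _ m
      refine ⟨_, m, ?_⟩
      rw [← comm_τ h c (LAE.conj_mem_of_mem_normalizer hk.1.1 hb₁) hb (by rw [hτ _ hb₁, e₁, mul_one]) ha,
        show ⁅k * b₁ * k⁻¹, a⁆ = k * ⁅b₁, k⁻¹ * a * k⁆ * k⁻¹ by simp only [commutatorElement_def]; group,
        comm_W h m1.1 (conj_R h hk m1).1]
      exact C3 k hk (L_cen hL) _ m1
    rw [commutator_comm, h.comm_AA', h.cenAB] at hS
    obtain ⟨-, a, ha, m⟩ := hS (h.Z_le hz)
    exact ⟨c.α a, Subtype.ext (F1 a ha z hz m)⟩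
  · obtain ⟨k, hk, hL, hτ⟩ := tor _ (inv_ne_zero (c.γ_ne x hx))
    refine ⟨k, hk, hL, fun a ha => Subtype.ext (F1 _ (LAE.conj_mem_of_mem_normalizer (mul_mem hk hx).2 ha) _ (hp _) ?_)⟩
    have hN := mul_mem hk hx
    have e : c.τ (k * x * b₁ * (k * x)⁻¹) = c.τ b₁ := by
      rw [show k * x * b₁ * (k * x)⁻¹ = k * (x * b₁ * x⁻¹) * k⁻¹ by group, hτ _ (LAE.conj_mem_of_mem_normalizer hx.1.1 hb₁),
        c.τ_conj x hx _ hb₁, e₁, map_one, mul_one, inv_mul_cancel₀ (c.γ_ne x hx)]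
    have m1 := c.comm_mem b₁ hb₁ a ha
    have m' := hp' (c.α a)
    rw [comm_α h c hb₁ (hs _).1 ha (hs _).2] at m'
    have := mul_mem (C3 _ hN (mul_mem (L_cen hL) hc) _ m1) m'
    rwa [mul_assoc, ← mul_assoc ⁅b₁, a⁆, sq_W h m1.1, one_mul, conjugate_commutatorElement,
      comm_τ h c (LAE.conj_mem_of_mem_normalizer hN.1.1 hb₁) hb₁ e (LAE.conj_mem_of_mem_normalizer hN.2 ha)] at this

end PB


theorem half_card_Z {F : Type} [Field F] [Fintype F] {U W W' : Subgroup G} (h : Half F U L W W W')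
    (h2 : 2 < Fintype.card F) : Nat.card (cen W L) ≤ Fintype.card F := by
  obtain ⟨c⟩ := h.exists_coord
  obtain ⟨f, hf, -⟩ := PB.exists_f h c h2
  rw [← Nat.card_eq_fintype_card]
  exact Nat.card_le_card_of_surjective f hf

/-- A field involution does not centralize `Z` if `|Z| = q`. -/
theorem half_card_fix {F : Type} [Field F] [Fintype F] {U W W' : Subgroup G} (h : Half F U L W W W')
    (h2 : 2 < Fintype.card F) {y : G} (hy : y * y = 1) (h3 : y ∈ normalizer (L : Set G))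
    (h4 : y ∈ normalizer (U : Set G)) (h5 : ∀ b ∈ U, y * b ∉ centralizer (W : Set G)) :
    Nat.card (cen (cen W L) (zpowers y)) < Fintype.card F := by
  by_contra hlt
  obtain ⟨c⟩ := h.exists_coord
  obtain ⟨f, hf, hf'⟩ := PB.exists_f h c h2
  have hle := (not_lt.1 hlt).trans (card_le_of_le (inf_le_left : cen (cen W L) (zpowers y) ≤ _))
  have e : cen (cen W L) (zpowers y) = cen W L :=
    eq_of_le_of_card_ge inf_le_left ((half_card_Z h h2).trans (not_lt.1 hlt))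
  have hi : Function.Injective f := ((Nat.bijective_iff_surjective_and_card f).2
    ⟨hf, by rw [Nat.card_eq_fintype_card]; exact le_antisymm hle (half_card_Z h h2)⟩).1
  have hN := PB.mem_NN h h3 h4
  obtain ⟨k, hk, hL, hh⟩ := hf' y hN fun z hz => ((e.ge hz).2 y (mem_zpowers y)).symm
  have hσ := c.σ_eq_of_α (mul_mem hk hN) fun a ha => hi (hh a ha)
  obtain ⟨b, hb, m⟩ := PB.of_lin h c hN (isPGroup_iff_forall_mem.2 (by
    rintro _ ⟨n, rfl⟩
    exact ⟨1, by rw [← zpow_natCast, ← zpow_mul, mul_comm, zpow_mul, zpow_natCast, pow_one, sq, hy, one_zpow]⟩))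
    fun t => by rw [← c.σ_of_mem k hk hL (c.σ y t), ← c.σ_mul k hk y hN, hσ]
  exact h5 b hb m

theorem IsPair.exists_torus (h : IsPair q L L') (hr : r ∈ Rg L L') (h1 : r ∉ centralizer (L : Set G))
    (hr' : r' ∈ Rg L L') : r' ∈ cen (wA L) L ∨
      ∃ k ∈ eA L ⊓ normalizer (Ug L L' : Set G), k * r * k⁻¹ * r' ∈ cen (wA L) L := by
  obtain ⟨F, _, _, -, ⟨H⟩⟩ := h.exists_half
  obtain ⟨c⟩ := H.exists_coord
  have e1 : c.δ r ≠ 0 := fun e => h1 ((c.δ_zero r hr).1 e).2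
  refine or_iff_not_imp_left.2 fun h2 => ?_
  obtain ⟨k, hk, hE, -, hδ⟩ := PB.torus H c (div_ne_zero (fun e => h2 ((c.δ_zero r' hr').1 e)) e1)
  exact ⟨k, ⟨hE, hk.1.1⟩, (PB.δ_eq H c (PB.conj_R H hk hr) hr').1 (by rw [hδ r hr]; field_simp)⟩

theorem IsPair.Z'_le (h : IsPair q L L') : cen (wA L') L' ≤ Rg L L' := Rg_comm L L' ▸ h.symm.Z_le

theorem IsPair.conj_Z' (h : IsPair q L L') {k z : G} (hk : k ∈ eA L ⊓ normalizer (Ug L L' : Set G))
    (hz : z ∈ cen (wA L') L') : k * z * k⁻¹ ∈ cen (wA L') L' := by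
  obtain ⟨F, _, _, -, ⟨H⟩⟩ := h.symm.exists_half
  exact LAE.conj_mem_of_mem_normalizer (H.norm_Z ⟨H.a.norm_W (H.a.norm_E (h.nE hk)), h.nE hk⟩) hz


theorem IsPair.dich (h : IsPair q L L') (h2 : 2 < q) :
    cen (wA L) L = cen (wA L') L' ∨
      (cen (wA L) L ⊔ cen (wA L') L' = Rg L L' ∧ cen (wA L) L ⊓ cen (wA L') L' = ⊥) := by
  have q0 : 0 < q := by omega
  have hc : Nat.card (cen (wA L) L) = Nat.card (cen (wA L') L') :=
    Nat.eq_of_mul_eq_mul_left q0 (by rw [← h.card_R, ← h.symm.card_R, Rg_comm])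
  by_cases hle : cen (wA L') L' ≤ cen (wA L) L
  · exact .inl (eq_of_le_of_card_ge hle hc.le).symm
  obtain ⟨z, hz, hz'⟩ := SetLike.not_le_iff_exists.1 hle
  have hs : cen (wA L) L ⊔ cen (wA L') L' = Rg L L' := le_antisymm (sup_le h.Z_le h.Z'_le) fun r hr => by
    rcases h.exists_torus (h.Z'_le hz) (fun e => hz' ⟨(h.Z'_le hz).1, e⟩) hr with e | ⟨k, hk, e⟩
    · exact mem_sup_left e
    · exact (Subgroup.mul_mem_cancel_left _ (mem_sup_right (h.conj_Z' hk hz))).1 (mem_sup_left e)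
  refine .inr ⟨hs, ?_⟩
  obtain ⟨F, _, _, hF, ⟨H⟩⟩ := h.exists_half
  have h1 := half_card_Z H (hF ▸ h2)
  have h3 := Coprime.card_sup_mul_card_inf (K := cen (wA L) L) (A := cen (wA L') L')
    (fun x hx => centralizer_le_normalizer _ fun y hy => PB.comm_W H hy.1 (h.Z'_le hx).1)
  rw [hs, h.card_R, ← hc, mul_right_comm] at h3
  have h4 := Nat.eq_of_mul_eq_mul_right Nat.card_pos h3
  rw [← card_eq_one]
  have h5 : 0 < Nat.card (cen (wA L) L ⊓ cen (wA L') L' : Subgroup G) := Nat.card_pos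
  nlinarith

theorem IsPair.Bg_le (h : IsPair q L L') :
    Bg L L' ≤ Kg L L' ⊓ (normalizer (L : Set G) ⊓ normalizer (L' : Set G)) := by
  have hU' : Ug L L' ≤ L' := Ug_comm L L' ▸ h.symm.U_le
  refine sup_le (le_inf h.U_le_K (le_inf (h.U_le.trans le_normalizer) (hU'.trans le_normalizer)))
    (sup_le (le_inf (inf_le_left.trans le_sup_left) (le_inf (inf_le_left.trans ?_) h.nE))
      (le_inf (inf_le_left.trans le_sup_right) (le_inf (Ug_comm L L' ▸ h.symm.nE) (inf_le_left.trans ?_))))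
  · exact (le_sup_left.trans h.E_sup.le).trans le_normalizer
  · exact (le_sup_left.trans h.symm.E_sup.le).trans le_normalizer

theorem IsPair.good_conj (h : IsPair q L L') (h2 : 2 < q) (hr : Gd L L' r) (hr' : Gd L L' r') :
    ∃ b ∈ Bg L L', ∃ z ∈ Zg L L', b * r * b⁻¹ = r' * z := by
  have hE : eA L ≤ L := le_sup_left.trans h.E_sup.le
  have hE' : eA L' ≤ L' := le_sup_left.trans h.symm.E_sup.le
  have sq : ∀ x ∈ Rg L L', x * x = 1 := fun x hx => comm_of_elem h.elem hx.1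
  have cm : ∀ x ∈ Rg L L', ∀ y ∈ Rg L L', x * y = y * x := fun x hx y hy => (elemAb_iff.1 h.elem).1 x hx.1 y hy.1
  rcases h.dich h2 with e | ⟨hs, hi⟩
  · obtain ⟨k, hk, m⟩ := (h.exists_torus hr.mem hr.nL hr'.mem).resolve_left fun e => hr'.nL e.2
    refine ⟨k, mem_sup_right (mem_sup_left hk), _, h.Zg_eq.ge ⟨m, e.le m⟩, ?_⟩
    rw [cm _ hr'.mem _ (h.Z_le m), mul_assoc _ r' r', sq _ hr'.mem, mul_one]
  have hn : cen (wA L') L' ≤ normalizer (cen (wA L) L : Set G) :=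
    fun x hx => centralizer_le_normalizer _ fun y hy => cm _ (h.Z_le hy) _ (h.Z'_le hx)
  obtain ⟨z, hz, z', hz', rfl⟩ := (mem_sup_iff_of_right_le_normalizer hn).1 (hs.ge hr.mem)
  obtain ⟨w, hw, w', hw', rfl⟩ := (mem_sup_iff_of_right_le_normalizer hn).1 (hs.ge hr'.mem)
  obtain ⟨k, hk, m⟩ := (h.exists_torus (h.Z'_le hz') (fun e => hr.nL (mul_mem hz.2 e)) (h.Z'_le hw')).resolve_left
    fun e => hr'.nL (mul_mem hw.2 e.2)
  obtain ⟨k', hk', m'⟩ := (h.symm.exists_torus (h.symm.Z'_le hz) (fun e => hr.nL' (mul_mem e hz'.2))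
    (h.symm.Z'_le hw)).resolve_left fun e => hr'.nL' (mul_mem e.2 hw'.2)
  have e1 : k * z' * k⁻¹ * w' = 1 := mem_bot.1 (hi.le ⟨m, mul_mem (h.conj_Z' hk hz') hw'⟩)
  have e2 : k' * z * k'⁻¹ * w = 1 := mem_bot.1 (hi.le ⟨mul_mem (h.symm.conj_Z' hk' hz) hw, m'⟩)
  rw [← sq _ (h.Z'_le hw'), mul_left_inj] at e1
  rw [← sq _ (h.Z_le hw), mul_left_inj] at e2
  refine ⟨k' * k, mul_mem (mem_sup_right (mem_sup_right (Ug_comm L L' ▸ hk'))) (mem_sup_right (mem_sup_left hk)), 1,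
    one_mem _, ?_⟩
  rw [show k' * k * (z * z') * (k' * k)⁻¹ = k' * (k * z * k⁻¹) * k'⁻¹ * (k' * (k * z' * k⁻¹) * k'⁻¹) by group,
    PB.fix_of (PB.L_cen (hE hk.1)) hz, e1, e2, PB.fix_of (PB.L_cen (hE' hk'.1)) hw', mul_one]

theorem IsPair.mem_cen_K (h : IsPair q L L') {x : G} : x ∈ centralizer (Kg L L' : Set G) ↔
    x ∈ centralizer (L : Set G) ∧ x ∈ centralizer (L' : Set G) :=
  ⟨fun hx => ⟨centralizer_anti h.L_le_K hx, centralizer_anti (Kg_comm L L' ▸ h.symm.L_le_K) hx⟩, fun hx =>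
    (centralizer_sup _ _).ge ⟨centralizer_anti (le_sup_left.trans h.E_sup.le) hx.1,
      centralizer_anti (le_sup_left.trans h.symm.E_sup.le) hx.2⟩⟩


theorem Ad.cen_split (h : Ad q u L L') (h2 : 2 < q) (h3 : o ∈ Tt u)
    (h4 : o ∈ centralizer (Ug L L' : Set G)) :
    ∃ r ∈ Rg L L', o * r ∈ centralizer (Kg L L' : Set G) := by
  obtain ⟨r, hr, m⟩ := h.split h3 h4
  obtain ⟨r', hr', m'⟩ := h.symm.split h3 (Ug_comm L L' ▸ h4)
  rw [Rg_comm] at hr'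
  have p := h.pair
  have sq : ∀ x ∈ Rg L L', x * x = 1 := fun x hx => comm_of_elem p.elem hx.1
  have cm : ∀ x ∈ Rg L L', ∀ y ∈ Rg L L', x * y = y * x := fun x hx y hy => (elemAb_iff.1 p.elem).1 x hx.1 y hy.1
  have hn : cen (wA L') L' ≤ normalizer (cen (wA L) L : Set G) :=
    fun x hx => centralizer_le_normalizer _ fun y hy => cm _ (p.Z_le hy) _ (p.Z'_le hx)
  have key : r * r' ∈ cen (wA L) L ⊔ cen (wA L') L' := by
    rcases p.dich h2 with e | ⟨hs, -⟩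
    swap
    · exact hs.ge (mul_mem hr hr')
    obtain ⟨F, _, _, hF, ⟨H⟩⟩ := p.exists_half
    obtain ⟨c⟩ := H.exists_coord
    obtain ⟨t, ht0, ht1⟩ := PB.exists_ne H (hF ▸ h2)
    obtain ⟨k, hk, hE, -, hδ⟩ := PB.torus H c ht0
    have hs := mul_mem hr hr'
    have m1 : (o * r')⁻¹ * (k * (o * r') * k⁻¹) ∈ centralizer (L' : Set G) := mul_mem (inv_mem m')
      (LAE.conj_mem_of_mem_normalizer (normalizer_le_normalizer_centralizer _ (p.nE ⟨hE, hk.1.1⟩)) m')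
    rw [show o * r' = o * r * (r * r') by rw [mul_assoc, ← mul_assoc r, sq r hr, one_mul], ← conj_mul,
      m k (H.a.EL hE), mul_inv_cancel_right, mul_inv_rev, mul_assoc, inv_mul_cancel_left,
      inv_eq_of_mul_eq_one_right (sq _ hs)] at m1
    have m2 := (PB.δ_eq H c hs (PB.conj_R H hk hs)).2 (e.ge ⟨(mul_mem hs (PB.conj_R H hk hs)).2, m1⟩)
    have := H.a.char
    rw [hδ _ hs, ← CharTwo.add_eq_zero, ← one_add_mul, add_comm, mul_eq_zero, or_iff_right ht1, c.δ_zero _ hs] at m2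
    exact mem_sup_left m2
  obtain ⟨z, hz, z', hz', e⟩ := (mem_sup_iff_of_right_le_normalizer hn).1 key
  refine ⟨r * z, mul_mem hr (p.Z_le hz), p.mem_cen_K.2 ⟨mul_assoc o r z ▸ mul_mem m hz.2, ?_⟩⟩
  rw [show r * z = r' * z' by
    rw [← mul_left_inj z', mul_assoc, ← e, ← mul_assoc, sq r hr, one_mul, mul_assoc, sq _ (p.Z'_le hz'), mul_one],
    ← mul_assoc]
  exact mul_mem m' hz'.2

theorem IsPair.eq_of_two (h : IsPair 2 L L') (hr : r ∈ Rg L L') (h1 : r ≠ 1) (hr' : r' ∈ Rg L L') (h1' : r' ≠ 1) :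
    r = r' := by
  obtain ⟨F, _, _, hF, ⟨H⟩⟩ := h.exists_half
  obtain ⟨c⟩ := H.exists_coord
  have two : ∀ t : F, t ≠ 0 → t = 1 := fun t ht => by
    have := FiniteField.pow_card_sub_one_eq_one t ht
    rwa [hF, pow_one] at this
  obtain ⟨b₁, hb₁, e₁⟩ := c.τ_surj 1
  obtain ⟨a₁, ha₁, e₂⟩ := c.α_surj 1
  have hS : ⁅wA L', wA L⁆ ≤ zpowers ⁅b₁, a₁⁆ := commutator_le.2 fun b hb a ha => by
    have hb := H.A'_le hb
    by_cases e : c.τ b = 0
    · rw [commutatorElement_eq_one_iff_mul_comm.2 (PB.comm_W H ((c.τ_zero b hb).1 e) ha)]; exact one_mem _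
    by_cases e' : c.α a = 0
    · rw [commutatorElement_eq_one_iff_mul_comm.2 (PB.comm_R H hb ((c.α_zero a ha).1 e'))]; exact one_mem _
    rw [PB.comm_τ H c hb hb₁ (by rw [two _ e, e₁]) ha, PB.comm_α H c hb₁ ha ha₁ (by rw [two _ e', e₂])]
    exact mem_zpowers _
  rw [commutator_comm, h.comm_eq] at hS
  have sq := PB.sq_W H (c.comm_mem b₁ hb₁ a₁ ha₁).1
  generalize ⁅b₁, a₁⁆ = ρ at hS sq
  have : ∀ x ∈ zpowers ρ, x ≠ 1 → x = ρ := by
    rintro _ ⟨n, rfl⟩ hn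
    obtain ⟨m, rfl | rfl⟩ := Int.even_or_odd' n
    · exact absurd (by simp only [zpow_mul, zpow_ofNat, pow_two, sq, one_zpow]) hn
    · simp only [zpow_add, zpow_mul, zpow_ofNat, pow_two, sq, one_zpow, one_mul, pow_one]
  rw [this r (hS hr) h1, this r' (hS hr') h1']


theorem Ad.exists_c (h : Ad q u L L') :
    ∃ r ∈ Rg L L', u * r ∈ centralizer (Kg L L' : Set G) := by
  have hc : u ∈ centralizer (Ug L L' : Set G) := fun b hb => (h.comm_U hb).eq.symm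
  rcases h.pair.two_or with rfl | h2
  · obtain ⟨r, hr, m⟩ := h.split h.cl.mem hc
    obtain ⟨r', hr', m'⟩ := h.symm.split h.cl.mem (Ug_comm L L' ▸ hc)
    rw [Rg_comm] at hr'
    obtain rfl := h.pair.eq_of_two hr (fun e => h.not_cen (by simpa [e] using m)) hr'
      fun e => h.symm.not_cen (by simpa [e] using m')
    exact ⟨r, hr, h.pair.mem_cen_K.2 ⟨m, m'⟩⟩
  · exact h.cen_split h2 h.cl.mem hc

theorem Ad.good (h : Ad q u L L') (h2 : 2 < q) (hr : r ∈ Rg L L')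
    (hc : u * r ∈ centralizer (Kg L L' : Set G)) (hr' : Gd L L' r') :
    ∃ z ∈ Zg L L', Ad q (r' * z * (u * r)) L L' := by
  obtain ⟨b, hb, z, hz, e⟩ := h.pair.good_conj h2 (h.gd hr hc) hr'
  obtain ⟨hK, hL, hL'⟩ := h.pair.Bg_le hb
  have := h.conj b
  rw [mem_normalizer_iff_conjS.1 hL, mem_normalizer_iff_conjS.1 hL', show u = u * r * r by
    rw [mul_assoc, comm_of_elem h.pair.elem hr.1, mul_one], ← conj_mul, e, hc b hK, mul_inv_cancel_right,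
    ← hc _ (h.pair.U_le_K (mem_sup_left (mul_mem hr'.mem hz.1).1))] at this
  exact ⟨z, hz, this⟩

end CfsgLib.Baum
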