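import Mathlib
import Cfsg.Agent.Lib.Baum.Defs
import Cfsg.Agent.Lib.BHS.Hol
import Cfsg.Agent.Lib.CGT2.Atom1

/-! The action of `N(Y)` on a subgroup `Y`, with values in the holomorph of `Y`. -/

set_option autoImplicit false

namespace CfsgLib.Baum

open Subgroup Cfsg CfsgLib.LAE CfsgLib.PLocal CfsgLib.Push CfsgLib.BHS CfsgLib.ZJ CfsgLib.SL2
  CfsgLib.Blocks CfsgLib.LocStr CfsgLib.CGT2 CfsgLib.PLocal.Holo Matrix MatrixGroups
open scoped commutatorElement

variable {G : Type*} [Group G]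

/-- The action of `N(Y)` on `Y`. -/
def hr (Y : Subgroup G) : normalizer (Y : Set G) →* Hol Y :=
  SemidirectProduct.inr.comp Y.normalizerMonoidHom

/-- The image of `A ∩ N(Y)` in the holomorph. -/
def bar (Y A : Subgroup G) : Subgroup (Hol Y) := (A.subgroupOf (normalizer (Y : Set G))).map (hr Y)

/-- The preimage in `N(Y)`. -/
def pre (Y : Subgroup G) (K : Subgroup (Hol Y)) : Subgroup G :=
  (K.comap (hr Y)).map (normalizer (Y : Set G)).subtype

variable {Y A B H U : Subgroup G} {K : Subgroup (Hol Y)}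

theorem mem_bar {x : Hol Y} :
    x ∈ bar Y A ↔ ∃ a : normalizer (Y : Set G), (a : G) ∈ A ∧ hr Y a = x := Iff.rfl

theorem hr_mem_bar {a : normalizer (Y : Set G)} (h : (a : G) ∈ A) : hr Y a ∈ bar Y A := ⟨a, h, rfl⟩

theorem mem_pre' {a : normalizer (Y : Set G)} : (a : G) ∈ pre Y K ↔ hr Y a ∈ K :=
  mem_map_iff_mem (normalizer (Y : Set G)).subtype_injective

theorem pre_le : pre Y K ≤ normalizer (Y : Set G) := map_subtype_le _

theorem bar_mono (h : A ≤ B) : bar Y A ≤ bar Y B := map_mono (comap_mono h)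

theorem bar_le_iff (hA : A ≤ normalizer (Y : Set G)) : bar Y A ≤ K ↔ A ≤ pre Y K :=
  ⟨fun h a ha => (mem_pre' (a := ⟨a, hA ha⟩)).2 (h (hr_mem_bar ha)), fun h => by
    rintro _ ⟨a, ha, rfl⟩; exact mem_pre'.1 (h ha)⟩

theorem bar_inf_pre (h : K ≤ bar Y A) : bar Y (A ⊓ pre Y K) = K :=
  le_antisymm ((bar_le_iff (inf_le_right.trans pre_le)).2 inf_le_right) fun x hx => by
    obtain ⟨a, ha, rfl⟩ := h hx
    exact hr_mem_bar ⟨ha, mem_pre'.2 hx⟩

theorem conj_iota' (g : normalizer (Y : Set G)) (v : Y) :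
    hr Y g * iota Y v * (hr Y g)⁻¹ =
      iota Y ⟨g * v * (g : G)⁻¹, LAE.conj_mem_of_mem_normalizer g.2 v.2⟩ := by
  rw [← map_inv, iota, hr, MonoidHom.comp_apply, MonoidHom.comp_apply, map_inv]
  exact (SemidirectProduct.inl_aut (φ := MonoidHom.id (MulAut Y)) _ v).symm

theorem commute_iota_iff' (g : normalizer (Y : Set G)) (v : Y) :
    iota Y v * hr Y g = hr Y g * iota Y v ↔ (v : G) * g = g * v := by
  rw [eq_comm, ← mul_inv_eq_iff_eq_mul, conj_iota', iota_injective.eq_iff, Subtype.ext_iff,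
    mul_inv_eq_iff_eq_mul, eq_comm]

theorem hr_mem_centralizer (hU : U ≤ Y) {g : normalizer (Y : Set G)} :
    hr Y g ∈ centralizer (im Y U : Set (Hol Y)) ↔ (g : G) ∈ centralizer (U : Set G) :=
  ⟨fun h u hu => (commute_iota_iff' g ⟨u, hU hu⟩).1 (h _ (iota_mem_im.2 hu)), by
    rintro h _ ⟨v, hv, rfl⟩
    exact (commute_iota_iff' g v).2 (h _ hv)⟩

theorem iota_mem_centralizer (hA : A ≤ normalizer (Y : Set G)) {v : Y} :
    iota Y v ∈ centralizer (bar Y A : Set (Hol Y)) ↔ (v : G) ∈ centralizer (A : Set G) :=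
  ⟨fun h a ha => ((commute_iota_iff' ⟨a, hA ha⟩ v).1 (h _ (hr_mem_bar ha)).symm).symm, by
    rintro h _ ⟨a, ha, rfl⟩
    exact ((commute_iota_iff' a v).2 (h a ha).symm).symm⟩

theorem hr_eq_one_iff {g : normalizer (Y : Set G)} :
    hr Y g = 1 ↔ (g : G) ∈ centralizer (Y : Set G) := by
  rw [hr, MonoidHom.comp_apply, map_eq_one_iff _ SemidirectProduct.inr_injective, ← MonoidHom.mem_ker,
    normalizerMonoidHom_ker, mem_subgroupOf]

theorem ker_hr : (hr Y).ker = (centralizer (Y : Set G)).subgroupOf (normalizer (Y : Set G)) :=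
  Subgroup.ext fun _ => hr_eq_one_iff

theorem bar_faith (A : Subgroup G) : bar Y A ⊓ centralizer (im Y Y : Set (Hol Y)) = ⊥ := by
  rw [eq_bot_iff]
  rintro _ ⟨⟨g, -, rfl⟩, h⟩
  exact hr_eq_one_iff.2 ((hr_mem_centralizer le_rfl).1 h)

theorem bar_eq_bot_iff (hA : A ≤ normalizer (Y : Set G)) :
    bar Y A = ⊥ ↔ A ≤ centralizer (Y : Set G) :=
  ⟨fun h a ha => (hr_eq_one_iff (g := ⟨a, hA ha⟩)).1 (h.le (hr_mem_bar ha)), fun h =>
    eq_bot_iff.2 (by rintro _ ⟨a, ha, rfl⟩; exact hr_eq_one_iff.2 (h ha))⟩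

theorem cen_im_bar (hA : A ≤ normalizer (Y : Set G)) (U : Subgroup G) :
    cen (im Y U) (bar Y A) = im Y (cen U A) := by
  ext x
  constructor
  · rintro ⟨⟨v, hv, rfl⟩, h⟩
    exact iota_mem_im.2 ⟨hv, (iota_mem_centralizer hA).1 h⟩
  · rintro ⟨v, hv, rfl⟩
    exact ⟨iota_mem_im.2 hv.1, (iota_mem_centralizer hA).2 hv.2⟩

theorem bar_le_centralizer (hA : A ≤ normalizer (Y : Set G)) (hU : U ≤ Y) :
    bar Y A ≤ centralizer (im Y U : Set (Hol Y)) ↔ A ≤ centralizer (U : Set G) :=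
  ⟨fun h a ha => (hr_mem_centralizer hU (g := ⟨a, hA ha⟩)).1 (h (hr_mem_bar ha)), fun h => by
    rintro _ ⟨a, ha, rfl⟩; exact (hr_mem_centralizer hU).2 (h ha)⟩

theorem bar_le_normalizer (A : Subgroup G) : bar Y A ≤ normalizer (im Y Y : Set (Hol Y)) :=
  have := im_self_normal (V := Y)
  le_normalizer_of_normal

theorem commutatorElement_hr (g : normalizer (Y : Set G)) (v : Y) :
    ⁅hr Y g, iota Y v⁆ = iota Y ⟨⁅(g : G), (v : G)⁆, commutator_mem_of_normalizer g.2 v.2⟩ := by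
  rw [commutatorElement_def, conj_iota', ← map_inv, ← map_mul]
  rfl

theorem commutator_im_bar (hU : U ≤ Y) (hA : A ≤ normalizer (Y : Set G)) :
    ⁅im Y U, bar Y A⁆ = im Y ⁅U, A⁆ := by
  rw [Subgroup.commutator_comm, Subgroup.commutator_comm U]
  apply le_antisymm
  · rw [commutator_le]
    rintro _ ⟨a, ha, rfl⟩ _ ⟨v, hv, rfl⟩
    rw [commutatorElement_hr, iota_mem_im]
    exact commutator_mem_commutator ha hv
  · have : ⁅A, U⁆ ≤ ((⁅bar Y A, im Y U⁆).comap (iota Y)).map Y.subtype := by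
      rw [commutator_le]
      intro a ha u hu
      refine ⟨⟨_, commutator_mem_of_normalizer (hA ha) (hU hu)⟩, ?_, rfl⟩
      rw [SetLike.mem_coe, mem_comap, ← commutatorElement_hr ⟨a, hA ha⟩ ⟨u, hU hu⟩]
      exact commutator_mem_commutator (hr_mem_bar ha) (iota_mem_im.2 hu)
    rintro _ ⟨v, hv, rfl⟩
    obtain ⟨w, hw, hwv⟩ := this hv
    rwa [← Subtype.ext hwv]

theorem card_bar (hA : A ≤ normalizer (Y : Set G)) :
    Nat.card (bar Y A) = (centralizer (Y : Set G)).relIndex A := by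
  rw [bar, ← relIndex_ker, ker_hr, relIndex_subgroupOf hA]

theorem relIndex_im {W : Subgroup G} (hW : W ≤ Y) : (im Y U).relIndex (im Y W) = U.relIndex W := by
  rw [im, im, relIndex_map_map_of_injective _ _ iota_injective, relIndex_subgroupOf hW]

theorem bar_sup (hA : A ≤ normalizer (Y : Set G)) (hB : B ≤ normalizer (Y : Set G)) :
    bar Y (A ⊔ B) = bar Y A ⊔ bar Y B := by
  rw [bar, subgroupOf_sup hA hB, Subgroup.map_sup]; rfl

theorem bar_commutator (hA : A ≤ normalizer (Y : Set G)) (hB : B ≤ normalizer (Y : Set G)) :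
    bar Y ⁅A, B⁆ = ⁅bar Y A, bar Y B⁆ := by
  rw [bar, ← commutator_subgroupOf hA hB, Subgroup.map_commutator]; rfl

theorem bar_conjS (g : normalizer (Y : Set G)) (A : Subgroup G) :
    bar Y (conjS (g : G) A) = conjS (hr Y g) (bar Y A) := by
  rw [bar, bar, ← map_conjS]
  congr 1
  ext x
  rw [mem_subgroupOf, mem_conjS, mem_conjS, mem_subgroupOf]
  rfl

theorem hr_mem_normalizer_bar {g : normalizer (Y : Set G)} (h : (g : G) ∈ normalizer (A : Set G)) :
    hr Y g ∈ normalizer (bar Y A : Set (Hol Y)) := by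
  rw [mem_normalizer_iff_conjS, ← bar_conjS, mem_normalizer_iff_conjS.1 h]

theorem le_normalizer_pre (hH : H ≤ normalizer (Y : Set G))
    (h : bar Y H ≤ normalizer (K : Set (Hol Y))) : H ≤ normalizer (pre Y K : Set G) := fun g hg => by
  have h1 := h (hr_mem_bar (a := ⟨g, hH hg⟩) hg)
  refine mem_normalizer_iff.2 fun x => ⟨fun hx => ?_, fun hx => ?_⟩
  · refine (mem_pre' (a := ⟨g, hH hg⟩ * ⟨x, pre_le hx⟩ * (⟨g, hH hg⟩)⁻¹)).2 ?_
    rw [map_mul, map_mul, map_inv]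
    exact (mem_normalizer_iff.1 h1 _).1 (mem_pre'.1 hx)
  · have h2 : x ∈ normalizer (Y : Set G) :=
      (mul_mem_cancel_left (hH hg)).1 ((mul_mem_cancel_right (inv_mem (hH hg))).1 (pre_le hx))
    refine (mem_pre' (a := ⟨x, h2⟩)).2 ((mem_normalizer_iff.1 h1 _).2 ?_)
    rw [← map_inv, ← map_mul, ← map_mul]
    exact mem_pre'.1 hx

theorem le_of_bar_le (hH : H ≤ normalizer (Y : Set G)) (hA : A ≤ H) (hB : B ≤ H)
    (h : bar Y A ≤ bar Y B) : A ≤ B ⊔ cen H Y := fun a ha => by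
  obtain ⟨b, hb, e⟩ := h (hr_mem_bar (a := ⟨a, hH (hA ha)⟩) ha)
  rw [← mul_inv_cancel_left (b : G) a]
  refine mul_mem (mem_sup_left hb) (mem_sup_right ⟨H.mul_mem (H.inv_mem (hB hb)) (hA ha), ?_⟩)
  exact (hr_eq_one_iff (g := b⁻¹ * ⟨a, hH (hA ha)⟩)).1 (by rw [map_mul, map_inv, e, inv_mul_cancel])

theorem bar_sup_cen (hH : H ≤ normalizer (Y : Set G)) (hA : A ≤ H) :
    bar Y (A ⊔ cen H Y) = bar Y A := by
  rw [bar_sup (hA.trans hH) (inf_le_left.trans hH),
    (bar_eq_bot_iff (inf_le_left.trans hH)).2 inf_le_right, sup_bot_eq]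

theorem pg_bar {p : ℕ} (hA : IsPGroup p A) : IsPGroup p (bar Y A) := (hA.comap_subtype).map _

theorem elemAb_bar {p : ℕ} (hA : IsElementaryAbelian p A) : IsElementaryAbelian p (bar Y A) :=
  elemAb_map (elemAb_subgroupOf hA _) _

theorem sylow_bar [Finite G] {p : ℕ} [Fact p.Prime] {S : Subgroup G}
    (hH : H ≤ normalizer (Y : Set G)) (h : IsSylowIn p S H) : IsSylowIn p (bar Y S) (bar Y H) :=
  (h.subgroupOf hH).map _

theorem bar_le_kl (hA : A ≤ normalizer (Y : Set G)) :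
    bar Y A ≤ kl (im Y Y) (im Y U) ↔ ⁅Y, A⁆ ≤ U := by
  rw [le_kl_iff (bar_le_normalizer A), commutator_im_bar le_rfl hA,
    im_le_im_iff (commutator_le_left_of_le_normalizer hA)]

theorem natData_of_bar {F : Type*} [Field F] {R : Subgroup SL(2, F)} {E U₀ : Subgroup G}
    (h0 : U₀ ≤ Y) (hn : E ≤ normalizer (Y : Set G)) {E' U₀' : Subgroup (Hol Y)}
    (D : NatData F R E' (im Y Y) U₀') (e1 : bar Y E = E') (e2 : im Y U₀ = U₀') :
    ∃ D' : NatData F R E Y U₀, (∀ x : Y, D'.π x = D.π (iota Y x)) ∧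
      ∀ e : normalizer (Y : Set G), D'.φ e = D.φ (hr Y e) := by
  classical
  subst e1 e2
  have hm : ∀ x : Y, iota Y x ∈ im Y Y := fun x => iota_mem_im.2 x.2
  refine ⟨⟨⟨fun x => if h : x ∈ Y then D.π (iota Y ⟨x, h⟩) else 0, h0, ?_, ?_, ?_⟩,
    fun e => if h : e ∈ normalizer (Y : Set G) then D.φ (hr Y ⟨e, h⟩) else 1, hn, fun e he => ?_,
    ?_, ?_⟩, fun x => ?_, fun e => ?_⟩
  · intro x hx y hy
    simp only [dif_pos hx, dif_pos hy, dif_pos (Y.mul_mem hx hy)]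
    rw [← D.π_mul _ (hm _) _ (hm _), ← map_mul]
    rfl
  · intro x hx
    simp only [dif_pos hx]
    rw [D.π_eq_zero _ (hm _), iota_mem_im]
  · intro m
    obtain ⟨_, ⟨x, hx, rfl⟩, rfl⟩ := D.π_surj m
    exact ⟨x, hx, by simp only [dif_pos x.2]⟩
  · simp only [dif_pos (hn he)]
    exact D.φ_mem _ (hr_mem_bar he)
  · intro g hg
    obtain ⟨_, ⟨x, hx, rfl⟩, rfl⟩ := D.φ_surj g hg
    exact ⟨x, hx, by simp only [dif_pos x.2]⟩
  · intro e he x hx
    simp only [dif_pos hx, dif_pos (hn he), dif_pos (LAE.conj_mem_of_mem_normalizer (hn he) hx)]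
    rw [← D.π_conj _ (hr_mem_bar (a := ⟨e, hn he⟩) he) _ (hm _), conj_iota']
  · simp only [dif_pos x.2]
  · simp only [dif_pos e.2]

theorem RootOn.root (h : RootOn Y A) (hA : A ≤ H) : Root (im Y Y) (bar Y H) (bar Y A) := by
  refine ⟨bar_mono hA, fun e => h.ne ((bar_eq_bot_iff h.norm).1 e), ?_, ?_, ?_⟩
  · rw [cen_im_bar h.norm, bar_le_kl h.norm]
    exact le_inf (commutator_le_left_of_le_normalizer h.norm) h.quad
  · rw [cen_im_bar h.norm, relIndex_im le_rfl, card_bar h.norm, h.idx]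
  · rintro _ ⟨a, ha, rfl⟩ h1 _ ⟨v, -, rfl⟩ h2
    rw [commutatorElement_hr, map_eq_one_iff _ iota_injective] at h2
    rw [cen_im_bar h.norm, iota_mem_im]
    exact h.ti a ha (fun e => h1 (hr_eq_one_iff.2 e)) v v.2 (congrArg Subtype.val h2)

theorem rootOn_of_root {P : Subgroup (Hol Y)} (hp : IsPGroup 2 A) (hn : A ≤ normalizer (Y : Set G))
    (h : Root (im Y Y) P (bar Y A)) : RootOn Y A := by
  refine ⟨hp, hn, fun e => h.ne ((bar_eq_bot_iff hn).2 e), ?_, ?_, fun a ha h1 v hv h2 => ?_⟩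
  · have := h.quad
    rw [cen_im_bar hn, bar_le_kl hn] at this
    exact this.trans inf_le_right
  · have := h.idx
    rwa [cen_im_bar hn, relIndex_im le_rfl, card_bar hn] at this
  · have := h.fix _ (hr_mem_bar (a := ⟨a, hn ha⟩) ha) (fun e => h1 (hr_eq_one_iff.1 e))
      (iota Y ⟨v, hv⟩) (iota_mem_im.2 hv) (by
        rw [commutatorElement_hr, map_eq_one_iff _ iota_injective]; exact Subtype.ext h2)
    rwa [cen_im_bar hn, iota_mem_im] at this

end CfsgLib.Baum
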