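import Mathlib
import Cfsg.Agent.Lib.Baum.Defs
import Cfsg.Agent.Lib.BHS.Red

/-! Faithful modules: no over-offenders, roots. -/

set_option autoImplicit false
set_option linter.unusedSectionVars false

namespace CfsgLib.Baum

open Subgroup Cfsg CfsgLib.LAE CfsgLib.PLocal CfsgLib.Push CfsgLib.BHS CfsgLib.ZJ CfsgLib.SL2
  CfsgLib.Blocks CfsgLib.LocStr CfsgLib.CGT2
open scoped commutatorElement


variable {G : Type*} [Group G] [Finite G]

variable {V P T X : Subgroup G}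

theorem MF.conj (h : MF V P T) {g : G} (hg : g ∈ P) : MF V P (conjS g T) := by
  refine ⟨h.elem, h.norm, h.faith, h.syl.conj_of_mem hg, h.op, ?_⟩
  rw [← conjS_cen (h.norm hg), ← conjS_centralizer, ← conjS_normalizer]
  exact (by rw [conjS_inf, conjS_eq_of_mem hg] : _ = _).ge.trans (conjS_mono h.cT)

theorem exists_minOver_of_not_le {N : Subgroup G} (hT : IsSylowIn 2 T P)
    (hN : P ⊓ normalizer (T : Set G) ≤ N) (hP : ¬ P ≤ N) :
    ∃ P₁ ≤ P, ¬ P₁ ≤ N ∧ MinOver T P₁ (P₁ ⊓ N) := by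
  obtain ⟨P₁, ⟨h1, h2, h3⟩, hm⟩ := exists_minimal_of_wellFoundedLT
    (fun P₁ : Subgroup G => T ≤ P₁ ∧ P₁ ≤ P ∧ ¬ P₁ ≤ N) ⟨P, hT.le, le_rfl, hP⟩
  have key : ∀ Y, T ≤ Y → Y < P₁ → Y ≤ N := fun Y a b => by
    by_contra c
    exact b.not_ge (hm ⟨a, b.le.trans h2, c⟩ b.le)
  refine ⟨P₁, h2, h3, le_inf h1 ((le_inf hT.le le_normalizer).trans hN),
    lt_of_le_of_ne inf_le_left fun e => h3 (inf_eq_left.1 e), fun Y a b => le_inf b.le (key Y a b),
    fun K a b c => ?_⟩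
  by_contra d
  refine h3 ?_
  rw [← (hT.mono a (b.trans h2)).frattini_sup b c]
  exact sup_le (key K a (lt_of_le_of_ne b fun e => d e.ge)) ((inf_le_inf_right _ h2).trans hN)

theorem MF.root_of_le (h : MF V P T) {P₁ M A : Subgroup G} (hP : P₁ ≤ P) (hm : MinOver T P₁ M)
    (hAT : A ≤ T) (hAQ : ¬ A ≤ pCoreOf 2 P₁) (hA : IsElementaryAbelian 2 A)
    (hle : Nat.card V ≤ Nat.card A * Nat.card (cen V A))
    (hlt : ∀ B ≤ A, B ≠ ⊥ → B ≠ A →
      Nat.card B * Nat.card (cen V B) < Nat.card A * Nat.card (cen V A)) :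
    Root V P A := by
  have hAP := hAT.trans h.syl.le
  have hV : IsMulCommutative V := h.elem.1
  have hT₁ := h.syl.mono hm.le_top' hP
  have hq := (quad_iff_le_kl (hAP.trans h.norm)).1 (quadratic_of_minimal hV
    (elemAb_isPGroup h.elem) (elemAb_isPGroup hA) (hAP.trans h.norm)
    ((commutator_eq_bot_iff_le_centralizer.2 (elemAb_le_centralizer hA)).le.trans bot_le) hle hlt)
  obtain ⟨L, hL, g, hg, hAL, -, h4, h1, h2, h3⟩ := exists_L hT₁ hm hAT hAQ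
  obtain ⟨S, hS, hS'⟩ := exists_isSylowIn_ge (isPGroup_sup (elemAb_isPGroup hA) (isPGroup_pCoreOf L)
    (hAL.trans (le_normalizer_pCoreOf L))) (sup_le hAL (pCoreOf_le L))
  obtain ⟨y, hy, hyM⟩ := SetLike.not_le_iff_exists.1 h1
  have hSM : S ≤ conjS g M := h2 S hS' (hS.le.lt_of_ne fun e =>
    h1 ((pCoreOf_eq_self (e ▸ hS.isPGroup)).ge.trans h4))
  have hii : ¬ cen V S ≤ cen V L := fun h' => by
    have h5 : MinOver (conjS g T) P₁ (conjS g M) := conjS_eq_of_mem hg ▸ hm.conj g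
    obtain ⟨m, hm', h6⟩ := ((hT₁.conj_of_mem hg).mono h5.le h5.lt.le).exists_le_conj hS.isPGroup hSM
    have h7 := ((h.conj (hP hg)).conj (hP (h5.lt.le hm'))).cT
    have h8 : MinOver (conjS m (conjS g T)) P₁ (conjS g M) := by
      have := h5.conj m
      rwa [conjS_eq_of_mem hm', conjS_eq_of_mem (h5.lt.le hm')] at this
    exact h1 ((le_inf hL ((le_inf (hL.trans hP) (le_centralizer_iff.1
      (((cen_anti h6).trans h').trans inf_le_right))).trans h7)).trans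
      (h8.inf_normalizer_le_of_le le_rfl h8.le))
  obtain ⟨-, F, _, _, D, d1, -, d3, d4, -, d6, d7, d8⟩ := exists_natData_core hV
    ((hL.trans hP).trans h.norm) hS (le_sup_left.trans hS') hq (fun B hB => by
      by_cases e : B = ⊥
      · rwa [e, card_cen_bot]
      by_cases e' : B = A
      · rw [e']
      · exact (hlt B hB e e').le) hii h3 hy hyM
  have hQ : A ⊓ pCoreOf 2 L = ⊥ := by
    by_contra e
    refine (hlt _ inf_le_left e fun e' => ?_).ne d8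
    rw [relIndex_eq_one.2 (inf_eq_left.1 e')] at d6
    exact (Finite.one_lt_card (α := F)).ne d6
  rw [hQ, card_cen_bot] at d8
  rw [hQ, cen_bot] at d7
  refine ⟨hAP, fun e => hAQ (e ▸ bot_le), hq,
    le_antisymm (relIndex_le_iff.2 d8.le) (le_relIndex_iff.2 d8.ge), fun a ha ha1 v hv e => ?_⟩
  obtain ⟨x, hx, z, hz, rfl⟩ := exists_mul_of_sup_eq hV d7 hv
  rw [commutatorElement_mul_right hV (h.norm (hAP ha)) hx.1 hz.1, (mem_cen.1 hz).2 a ha,
    mul_one] at e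
  have := (D.commutator_mem_iff (hAL ha) (d1 ▸ D.φ_mem_img (hAL ha) ha)
    (fun e' => ha1 (hQ.le ⟨ha, d4 ⟨ha, D.mem_ker.2 ⟨hAL ha, e'⟩⟩⟩)) hx).1 (e ▸ one_mem _)
  rw [d3] at this
  exact mul_mem ⟨hx.1, this.2⟩ hz

theorem MF.exists_minOver (h : MF V P T) {A : Subgroup G} (hA : IsPGroup 2 A) (hAP : A ≤ P)
    (h0 : A ≠ ⊥) : ∃ g ∈ P, A ≤ conjS g T ∧ ∃ P₁ ≤ P, ∃ M, MinOver (conjS g T) P₁ M ∧
      ¬ A ≤ pCoreOf 2 P₁ := by
  let N : Subgroup G → Subgroup G := fun K => sSup {B | (∃ g ∈ P, conjS g A = B) ∧ B ≤ K}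
  have hN : ∀ K, N K ≤ K := fun K => sSup_le fun _ hB => hB.2
  have hn : ∀ K : Subgroup G, P ⊓ normalizer (K : Set G) ≤ normalizer (N K : Set G) := fun K x hx =>
    mem_normalizer_of_conjS_le (conjS_le_iff.2 (sSup_le fun B hB => conjS_le_iff.1 (le_sSup
      ⟨by obtain ⟨g, hg, rfl⟩ := hB.1; exact ⟨x * g, mul_mem hx.1 hg, conjS_mul _ _ _⟩,
        (conjS_mono hB.2).trans (mem_normalizer_iff_conjS.1 hx.2).le⟩)))
  obtain ⟨g₀, hg₀, h1⟩ := h.syl.exists_conj_le hA hAP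
  obtain ⟨P₁, hP, h2, hm⟩ := exists_minOver_of_not_le h.syl (hn T) fun h' =>
    h0 (conjS_eq_bot_iff.1 (eq_bot_iff.2 (h.op ▸ (le_sSup ⟨⟨g₀, hg₀, rfl⟩, h1⟩ : _ ≤ N T).trans
      (le_pCoreOf (h.syl.isPGroup.to_le (hN T)) ((hN T).trans h.syl.le) h'))))
  obtain ⟨g, hg, h3, h4⟩ : ∃ g ∈ P, conjS g A ≤ T ∧ ¬ conjS g A ≤ pCoreOf 2 P₁ := by
    by_contra hc
    push Not at hc
    have e : N T = N (pCoreOf 2 P₁) := le_antisymm (sSup_le_sSup fun B hB => ⟨hB.1, by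
      obtain ⟨⟨g, hg, rfl⟩, h3⟩ := hB
      exact hc g hg h3⟩)
      (sSup_le_sSup fun B hB => ⟨hB.1, hB.2.trans (h.syl.mono hm.le_top' hP).pCoreOf_le⟩)
    exact h2 (e ▸ (le_inf hP (le_normalizer_pCoreOf P₁)).trans (hn _))
  exact ⟨g⁻¹, inv_mem hg, conjS_le_iff.1 h3, conjS g⁻¹ P₁, conjS_le_of_le_of_mem hP (inv_mem hg), _,
    hm.conj g⁻¹, by rwa [← conjS_pCoreOf, ← conjS_le_iff]⟩

theorem MF.exists_root' (h : MF V P T) (hX : X ≤ P) (he : IsElementaryAbelian 2 X) (h0 : X ≠ ⊥)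
    (hle : Nat.card V ≤ Nat.card X * Nat.card (cen V X)) :
    Nat.card X * Nat.card (cen V X) ≤ Nat.card V ∧ ∃ A ≤ X, Root V P A := by
  obtain ⟨A, h2, h3, h4, h5⟩ := exists_minimal_offender (V := V) h0
  have hA := elemAb_mono he h2
  obtain ⟨g, hg, h6, P₁, hP, M, hm, h7⟩ := h.exists_minOver (elemAb_isPGroup hA) (h2.trans hX) h3
  have := (h.conj hg).root_of_le hP hm h6 h7 hA (hle.trans h4) h5
  exact ⟨h4.trans (le_relIndex_iff.1 this.idx.ge), A, h2, this⟩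

theorem MF.amb (h : MF V P T) : Amb 2 V P := ⟨h.elem, h.norm, h.faith, fun X hX he => by
  by_cases h0 : X = ⊥
  · rw [h0, card_bot]
    exact Nat.one_le_iff_ne_zero.2 relIndex_ne_zero'
  rcases le_total (Nat.card V) (Nat.card X * Nat.card (cen V X)) with h1 | h1
  · exact le_relIndex_iff.2 (h.exists_root' hX he h0 h1).1
  · exact le_relIndex_iff.2 h1⟩

theorem MF.exists_root (h : MF V P T) (hX : Tight 2 V P X) (h0 : X ≠ ⊥) :
    ∃ A ≤ X, Root V P A :=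
  (h.exists_root' hX.le hX.elem h0 (relIndex_le_iff.1 hX.idx.le)).2

end CfsgLib.Baum
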