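import Mathlib
import Cfsg.Agent.Lib.Baum.Mod1
import Cfsg.Agent.Lib.BHS.Off

/-! Faithful modules: components. -/

set_option autoImplicit false
set_option linter.unusedSectionVars false

namespace CfsgLib.Baum

open Subgroup Cfsg CfsgLib.LAE CfsgLib.PLocal CfsgLib.Push CfsgLib.BHS CfsgLib.ZJ CfsgLib.SL2
  CfsgLib.Blocks CfsgLib.LocStr CfsgLib.CGT2
open scoped commutatorElement


variable {G : Type*} [Group G] [Finite G]

variable {V P T X A J : Subgroup G}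

theorem MF.base (h : MF V P T) : Base 2 V P (Roots V P) :=
  ⟨h.amb, fun _ hA => hA, fun _ hA _ hg => hA.conj h.amb hg⟩

theorem MF.hyp (h : MF V P T) :
    Hyp 2 0 V P T (P ⊓ normalizer (JJ (Roots V P) T : Set G)) (Roots V P) := by
  have h1 : P ⊓ normalizer (T : Set G) ≤ P ⊓ normalizer (JJ (Roots V P) T : Set G) := fun t ht =>
    ⟨ht.1, mem_normalizer_of_conjS_le (conjS_le_iff.2 (JJ_le_iff.2 fun C hC hT => conjS_le_iff.1
      (le_JJ (h.base.cj C hC t ht.1) ((conjS_mono hT).trans (mem_normalizer_iff_conjS.1 ht.2).le))))⟩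
  exact ⟨h.amb, h.base.root, h.base.cj, h.syl, (le_inf h.syl.le le_normalizer).trans h1, le_rfl,
    (le_inf inf_le_left h.cT).trans h1, fun _ _ _ => Nat.zero_le _⟩

theorem MF.exists_comp (h : MF V P T) (hA : Root V P A) : ∃ g ∈ P, ∃ E,
    Comp 2 V P T (P ⊓ normalizer (JJ (Roots V P) T : Set G)) (Roots V P) (conjS g A) E := by
  obtain ⟨g, hg, h1⟩ : ∃ g ∈ P, ¬ conjS g A ≤ P ⊓ normalizer (JJ (Roots V P) T : Set G) := by
    by_contra h'
    push Not at h'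
    have h2 : nclIn A P ≤ JJ (Roots V P) T := nclIn_le_iff.2 fun g hg => by
      have hC := hA.conj h.amb hg
      obtain ⟨m, hm, hm', h3⟩ := h.hyp.exists_conj_le (hC.pg h.amb) hC.le (h' g hg)
      rw [← mem_normalizer_iff_conjS.1 hm'.2, h.hyp.conjS_JJ hm]
      exact le_JJ hC h3
    exact hA.ne (eq_bot_iff.2 (h.op ▸ (le_nclIn _ _).trans (le_pCoreOf
      (h.syl.isPGroup.to_le (h2.trans JJ_le)) (h2.trans h.hyp.JP) (le_normalizer_nclIn A P))))
  exact ⟨g, hg, h.hyp.exists_comp h.op (hA.conj h.amb hg) h1⟩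

theorem MF.not_symL (h : MF V P T) {B E M : Subgroup G} (hE : Pre V P (Roots V P) B E) {m : ℕ}
    (hm : 3 ≤ m) : ¬ SymL V M (Roots V P) E m := by
  rintro ⟨D, hk, -, hT⟩
  obtain ⟨a, b, c, d, hab, hac, had, hbc, hbd, hcd⟩ : ∃ a b c d : Fin (m + 1),
      a ≠ b ∧ a ≠ c ∧ a ≠ d ∧ b ≠ c ∧ b ≠ d ∧ c ≠ d :=
    ⟨⟨0, by omega⟩, ⟨1, by omega⟩, ⟨2, by omega⟩, ⟨3, by omega⟩, by simp⟩
  obtain ⟨e, he, h1⟩ := D.ρ_surj (List.formPerm [a, b, c, d]) trivial
  have h2 : e ^ 2 ^ 2 = 1 := D.ρ_inj hk (pow_mem he _) (one_mem _) (by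
    rw [D.ρ_pow he, h1, D.ρ_one]
    exact List.formPerm_pow_length_eq_one_of_nodup _ (by simp [*]))
  obtain ⟨g, hg, h3⟩ := h.syl.exists_le_conj (Q := zpowers e) (isPGroup_iff_forall_mem.2 (by
    rintro _ ⟨n, rfl⟩
    exact ⟨2, by rw [← zpow_natCast, ← zpow_mul, mul_comm, zpow_mul, zpow_natCast, h2, one_zpow]⟩))
    (zpowers_le.2 (hE.le he))
  have h' := h.conj hg
  have h4 : ∀ v ∈ cen V (conjS g T), ∀ i, D.ψ v (D.ρ e i) = D.ψ v i := fun v hv i => by
    rw [← D.ψ_conj e he v hv.1 i, hv.2 e (h3 (mem_zpowers e)), mul_inv_cancel_right]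
  have h5 : ∀ x y : Fin (m + 1), x ≠ y → D.ρ e x = y → ∃ t ∈ E, D.ρ t = Equiv.swap x y ∧
      Root V P (zpowers t) ∧ zpowers t ≤ conjS g T := by
    intro x y hxy hx
    obtain ⟨t, ht, h6⟩ := D.ρ_surj (Equiv.swap x y) trivial
    have h7 := (hT t ht).2 ⟨x, y, hxy, h6⟩
    have h8 : Tv V P t := ⟨h7.1, h7.2⟩
    refine ⟨t, ht, h6, h8.root, h'.syl.le_of_normalizes (h8.root.pg h.amb) h8.root.le
      (zpowers_le.2 (h'.cT ⟨h8.mem, fun v hv => ?_⟩))⟩
    have h9 : ⁅t, v⁆ ∈ cen V E := (D.ψ_eq_zero _ (commutator_mem_of_normalizer (D.norm ht) hv.1)).1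
      (funext fun i => by
        have := h4 v hv x
        rw [hx] at this
        rw [D.ψ_commutator ht hv.1, h6, Equiv.swap_inv, Equiv.swap_apply_def]
        split_ifs with h1 h2
        · rw [h1, this]; exact CharTwo.add_self_eq_zero _
        · rw [h2, this]; exact CharTwo.add_self_eq_zero _
        · exact CharTwo.add_self_eq_zero _)
    by_contra hne
    have h10 : fz t v = 1 := fz_eq_one.2 fun e =>
      hne (commutatorElement_eq_one_iff_mul_comm.1 e).symm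
    have h11 : t = 1 := hE.faith.le ⟨ht, D.norm ht, fun u hu => by
      rcases zmod2_cases (fz t u) with e | e
      · rw [fz_eq_zero.1 e]; exact one_mem _
      · rwa [h8.commutator_eq h.amb hu hv.1 (e.trans h10.symm)]⟩
    simpa [h11] using h8.ord
  obtain ⟨s, hs, s1, s2, s3⟩ := h5 a b hab (by
    simp [h1, Equiv.swap_apply_of_ne_of_ne, hab, hac, had])
  obtain ⟨t, ht, t1, t2, t3⟩ := h5 b c hbc (by
    simp [h1, Equiv.swap_apply_of_ne_of_ne, hbc, hbd, hac.symm, hbc.symm])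
  have h6 := congrArg D.ρ (commutatorElement_eq_one_iff_mul_comm.1 (mem_bot.1
    ((Root.commute_of_le h.amb h'.syl.isPGroup h'.syl.le s2 t2 s3 t3).le
      (commutator_mem_commutator (mem_zpowers s) (mem_zpowers t)))))
  rw [D.ρ_mul s hs t ht, D.ρ_mul t ht s hs, s1, t1] at h6
  have := congrArg (· a) h6
  simp [Equiv.swap_apply_of_ne_of_ne, hab, hac, hbc] at this

theorem natL_of_symL (h : Amb 2 V P) {B E L M : Subgroup G} (hE : Pre V P (Roots V P) B E)
    (hB : Nat.card B = 2) (hs : SymL V M (Roots V P) E 2) (hL : L ≤ E) (hN : NatL V L B) : L = E := by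
  obtain ⟨D, hk, -, hT⟩ := hs
  obtain ⟨l, hl, hne⟩ := hN.exists_ne
  obtain ⟨s, hs, rfl⟩ := exists_mem_TT hE.mem hB
  have hsL : s ∈ L := hN.le (mem_zpowers s)
  have htL : l * s * l⁻¹ ∈ L := mul_mem (mul_mem hl hsL) (inv_mem hl)
  have h1 := (hT s (hL hsL)).1 hs
  have h2 := (hT _ (hL htL)).1 ⟨by
    rw [← BHS.conjS_zpowers]; exact Root.conj h hs.1 (hE.le (hL hl)), (orderOf_conj' l s).trans hs.2⟩
  have h3 : D.ρ s ≠ D.ρ (l * s * l⁻¹) := fun e =>
    hne (by rw [BHS.conjS_zpowers, ← D.ρ_inj hk (hL hsL) (hL htL) e])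
  have h4 : ∀ x y : Equiv.Perm (Fin 3), (∃ a b, a ≠ b ∧ x = Equiv.swap a b) →
      (∃ a b, a ≠ b ∧ y = Equiv.swap a b) → x ≠ y → ∀ g : Equiv.Perm (Fin 3),
      g = 1 ∨ g = x ∨ g = y ∨ g = x * y ∨ g = y * x ∨ g = x * y * x := by decide
  have h5 : D.img L = ⊤ := eq_top_iff.2 fun g _ => by
    have a := D.ρ_mem_img (hL hsL) hsL
    have b := D.ρ_mem_img (hL htL) htL
    rcases h4 _ _ h1 h2 h3 g with e | e | e | e | e | e <;> rw [e]
    exacts [one_mem _, a, b, mul_mem a b, mul_mem b a, mul_mem (mul_mem a b) a]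
  refine le_antisymm hL fun e he => ?_
  obtain ⟨y, hy, hyL, e'⟩ := D.mem_img.1 (h5.ge (mem_top (D.ρ e)))
  exact D.ρ_inj hk hy he e' ▸ hyL

theorem MF.comp (h : MF V P T) (hA : Root V P A) :
    ∃ L ≤ P, NatL V L A ∧ ∀ C, Root V P C →
      (∃ l ∈ L, conjS l A = C) ∨ (⁅L, C⁆ = ⊥ ∧ ⁅⁅V, L⁆, C⁆ = ⊥) := by
  obtain ⟨g, hg, E, hE⟩ := h.exists_comp hA
  have hN : NatL V E (conjS g A) := by
    rcases hE.typ with ⟨-, e, he, -, hN⟩ | ⟨-, hB, m, m0, hm, -, hs⟩
    · simpa only [conjS_inv_conjS] using hN.conj (inv_mem he)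
    · obtain rfl : m = 2 := by
        by_contra h2
        exact h.not_symL hE.toPre (by obtain ⟨k, rfl⟩ := hm; omega) hs
      have hB' := hA.conj h.amb hg
      obtain ⟨L, hL, hN, -⟩ := Comp.exists_natL h.hyp hE (one_mem E) (hB'.pg h.amb) hB'.le
        (conjS_one _).le (by rw [conjS_one]; exact le_centralizer_of_commutator (hB'.self h.amb))
      rw [conjS_one] at hN
      exact natL_of_symL h.amb hE.toPre hB hs hL hN ▸ hN
  refine ⟨conjS g⁻¹ E, conjS_le_of_le_of_mem hE.le (inv_mem hg), by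
    simpa only [conjS_inv_conjS] using hN.conj' (h.norm (inv_mem hg)), fun C hC => ?_⟩
  have hC' := hC.conj h.amb hg
  rcases hE.all _ hC' with ⟨e, he, h1⟩ | h1
  · exact Or.inl ⟨g⁻¹ * e * g, by simpa using (conj_mem_conjS (g := g⁻¹)).2 he,
      by rw [conjS_mul, conjS_mul, h1, conjS_inv_conjS]⟩
  refine Or.inr ⟨?_, ?_⟩
  · rw [← conjS_inv_conjS g C, ← conjS_commutator, h1, conjS_bot]
  · rw [← conjS_inv_conjS g C, ← h.amb.conjS_V (inv_mem hg), ← conjS_commutator, ← conjS_commutator,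
      hE.toPre.commutator_V_eq_bot_of_kl h.base
        (le_normalizer_of_commutator (commutator_eq_bot_symm h1))
        (hE.toPre.root_le_kl h.base hC' h1), conjS_bot]

theorem MF.tight_le (h : MF V P T) (hX : Tight 2 V P X) :
    X ≤ sSup {A | A ≤ X ∧ Root V P A} := by
  induction X using WellFoundedLT.induction with
  | _ X ih =>
  by_cases h0 : X = ⊥
  · exact h0.le.trans bot_le
  obtain ⟨A, hAX, hA⟩ := h.exists_root hX h0
  obtain ⟨L, hL, hN, hC⟩ := h.comp hA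
  have hc : X ≤ centralizer (A : Set G) := (elemAb_le_centralizer hX.elem).trans (centralizer_anti hAX)
  obtain ⟨l, hl, hne⟩ := hN.exists_ne
  have hn : X ≤ normalizer (L : Set G) := fun x hx => mem_normalizer_of_conjS_le (by
    have e := mem_normalizer_iff_conjS.1 (le_normalizer_of_le_centralizer hc hx)
    conv_lhs => rw [← hN.sup_eq hl hne, conjS_sup, e]
    refine sup_le hN.le ?_
    rcases hC _ ((hA.conj h.amb (hL hl)).conj h.amb (hX.le hx)) with ⟨l', hl', e'⟩ | ⟨e', -⟩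
    · exact e' ▸ conjS_le_of_le_of_mem hN.le hl'
    · refine absurd ((conjS_eq_bot_iff (g := x)).1 (eq_bot_iff.2 ?_)) (hN.commutator_ne hl hne)
      rw [conjS_commutator, e]
      exact (commutator_mono hN.le le_rfl).trans e'.le)
  obtain ⟨X₁, e, hi, h1, h2⟩ := hN.split h.amb.comm h.amb.pV (elemAb_isPGroup hX.elem)
    (hX.le.trans h.norm) hc hAX hn
  have hle : X₁ ≤ X := e ▸ le_sup_right
  have := ih X₁ (hle.lt_of_ne fun e' => hA.ne (by rw [← hi, e', inf_eq_left.2 hAX]))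
    (hN.tight_of_split h.amb hA hX e hi h1 h2)
  exact e.ge.trans (sup_le (le_sSup ⟨hAX, hA⟩)
    (this.trans (sSup_le_sSup fun B hB => ⟨hB.1.trans hle, hB.2⟩)))

theorem MF.le_kl_of_cen (h : MF V P T) (hA : Root V P A) (hT : A ≤ T) (hX : X ≤ T)
    (hc : X ≤ centralizer ((⁅V, A⁆ : Subgroup G) : Set G)) : X ≤ kl V (cen V A) := by
  have hXP := hX.trans h.syl.le
  have h1 : X ≤ normalizer (A : Set G) := fun x hx => by
    obtain ⟨L, hL, hN, hC⟩ := h.comp hA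
    have hB := hA.conj h.amb (hXP hx)
    rw [mem_normalizer_iff_conjS]
    by_contra hne
    rcases hC _ hB with ⟨l, hl, e⟩ | ⟨e, -⟩
    · exact hN.commutator_ne hl (e ▸ hne) (e ▸ Root.commute_of_le h.amb h.syl.isPGroup h.syl.le hA
        hB hT (conjS_le_of_le_of_mem hT (hX hx)))
    obtain ⟨l, hl, hne'⟩ := hN.exists_ne
    have h2 : ∀ {B}, Root V P B → B ≤ L → ⁅V, A⁆ ≤ cen V B := fun hB' hBL => by
      have h5 := (le_kl_iff (hB.le.trans h.norm)).1 (Root.le_kl h.amb hB hB'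
        (commutator_eq_bot_symm (eq_bot_iff.2 ((commutator_mono hBL le_rfl).trans e.le))))
      rwa [← h.amb.conjS_V (hXP hx), ← conjS_commutator, h.amb.conjS_V (hXP hx),
        mem_normalizer_iff_conjS.1 (le_normalizer_of_le_centralizer hc hx)] at h5
    obtain ⟨a, ha, a1⟩ := hA.exists_ne
    exact a1 (hN.eq_one (hN.le ha) ((le_kl_iff (hA.le.trans h.norm)).2 (hN.cen_inf hl hne' ▸
      le_inf (h2 hA hN.le) (h2 (hA.conj h.amb (hL hl)) (conjS_le_of_le_of_mem hN.le hl))) ha))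
  obtain ⟨⟨a, ha⟩, ha1⟩ := (Subgroup.ne_bot_iff_exists_ne_one).1 (inf_centralizer_ne_bot
    (hA.pg h.amb) (h.syl.isPGroup.to_le hX) h1 hA.ne)
  refine fun x hx => ⟨h.norm (hXP hx), fun v hv => hA.fix a ha.1 (fun e => ha1 (Subtype.ext e)) _
    (commutator_mem_of_normalizer (h.norm (hXP hx)) hv) ?_⟩
  rw [commutator_swap_of_comm h.amb.comm (h.norm (hA.le ha.1)) (h.norm (hXP hx)) (ha.2 x hx).symm hv,
    commutatorElement_eq_one_iff_mul_comm]
  refine (hc hx _ ?_).symm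
  rw [Subgroup.commutator_comm]
  exact commutator_mem_commutator ha.1 hv

theorem MF.le_of_cen (h : MF V P T) (hJ : J ≤ T) (hJ' : J ≤ sSup {A | A ≤ J ∧ Root V P A})
    (hX : X ≤ T) (hc : X ≤ centralizer (cen V J : Set G)) : X ≤ J := by
  have hXP := hX.trans h.syl.le
  have e : sSup {A | A ≤ J ∧ Root V P A} = J := le_antisymm (sSup_le fun _ hA => hA.1) hJ'
  have hcm : ∀ A ∈ {A | A ≤ J ∧ Root V P A}, ∀ B ∈ {A | A ≤ J ∧ Root V P A}, ⁅A, B⁆ = ⊥ :=
    fun A hA B hB => Root.commute_of_le h.amb h.syl.isPGroup h.syl.le hA.2 hB.2 (hA.1.trans hJ)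
      (hB.1.trans hJ)
  have hk : ∀ A ∈ {A | A ≤ J ∧ Root V P A}, A ≤ kl V (cen V J) := fun A hA =>
    e ▸ h.amb.le_kl_sSup hA.2 (fun _ hB => hB.2) (hcm A hA)
  have h1 : X ≤ kl V (cen V J) := (le_kl_iff (hXP.trans h.norm)).2
    (e ▸ le_cen_sSup (commutator_le_left_of_le_normalizer (hXP.trans h.norm)) fun C hC =>
      (le_kl_iff (hXP.trans h.norm)).1 (h.le_kl_of_cen hC.2 (hC.1.trans hJ) hX (hc.trans
        (centralizer_anti ((le_kl_iff (hC.2.le.trans h.norm)).1 (hk C hC))))))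
  have h2 := h.amb.card_le_of_kl (sup_le (hJ.trans h.syl.le) hXP) inf_le_left
    (sup_le (hJ'.trans (sSup_le hk)) h1) (sup_le (le_centralizer_iff.1 inf_le_right) hc)
  rw [(e ▸ h.amb.tight_sSup (fun _ hB => hB.2) hcm : Tight 2 V P J).idx] at h2
  exact le_sup_right.trans (eq_of_le_of_card_ge le_sup_left h2).ge

end CfsgLib.Baum
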