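import Mathlib
import Cfsg.Agent.Lib.Baum.Mod2
import Cfsg.Agent.Lib.Baum.HolN
import Cfsg.Agent.Lib.BHS.Hol
import Cfsg.Agent.Lib.BHS.Red

/-! The module results inside a group. -/

set_option autoImplicit false
set_option linter.unusedSectionVars false

namespace CfsgLib.Baum

open Subgroup Cfsg CfsgLib.LAE CfsgLib.PLocal CfsgLib.Push CfsgLib.BHS CfsgLib.ZJ CfsgLib.SL2
  CfsgLib.Blocks CfsgLib.LocStr CfsgLib.CGT2 CfsgLib.PLocal.Holo
open scoped commutatorElement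

variable {G : Type*} [Group G] [Finite G]

variable {H S Y A X J : Subgroup G}

theorem RootOn.conj (h : RootOn Y A) {g : G} (hg : g ∈ normalizer (Y : Set G)) :
    RootOn Y (conjS g A) := by
  have e : conjS g Y = Y := mem_normalizer_iff_conjS.1 hg
  have e' : conjS g (centralizer (Y : Set G)) = centralizer (Y : Set G) := by rw [conjS_centralizer, e]
  refine ⟨isPGroup_conjS h.two g, ?_, fun h1 => h.ne ?_, ?_, ?_, fun a ha h1 v hv h2 => ?_⟩
  · have := conjS_mono (g := g) h.norm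
    rwa [conjS_normalizer, e] at this
  · rwa [← e', conjS_le_conjS_iff] at h1
  · have := conjS_mono (g := g) h.quad
    rwa [conjS_commutator, conjS_centralizer, e] at this
  · rw [← conjS_cen hg]
    conv_lhs => rw [← e, relIndex_conjS, e]
    rw [← e', relIndex_conjS, h.idx]
  · obtain ⟨a, ha', rfl⟩ := exists_of_mem_conjS ha
    obtain ⟨v, hv', rfl⟩ := exists_of_mem_conjS (e.ge hv)
    rw [← conjS_cen hg, conj_mem_conjS]
    refine h.ti a ha' (fun h3 => h1 (e'.le (conj_mem_conjS.2 h3))) v hv' ?_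
    rwa [← conjugate_commutatorElement, conj_eq_one_iff] at h2

theorem MH.cen_le (h : MH H S Y) {g : G} (hg : g ∈ H) :
    cen H Y ≤ normalizer (conjS g S : Set G) := by
  rw [← conjS_normalizer, le_conjS_iff, conjS_inf, conjS_eq_of_mem (inv_mem hg),
    mem_normalizer_iff_conjS.1 (le_normalizer_centralizer h.norm (inv_mem hg))]
  exact (cen_anti inf_le_left).trans h.cS

omit [Finite G] in
theorem MH0.cen_le' (h : MH0 H S Y) : cen H Y ≤ normalizer (S : Set G) :=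
  (cen_anti inf_le_left).trans h.cS

omit [Finite G] in
theorem MH0.norm_cen (h : MH0 H S Y) : H ≤ normalizer (cen H Y : Set G) :=
  le_normalizer_cen le_normalizer h.norm

theorem MH.core (h : MH H S Y) : cen S Y = pCoreOf 2 H := by
  refine le_antisymm ((le_pCoreOf (h.syl.isPGroup.to_le inf_le_left) (inf_le_inf_right _ h.syl.le)
    (le_normalizer_cen h.cen_le' (inf_le_left.trans h.norm))).trans
    (pCoreOf_mono_of_normal inf_le_left h.norm_cen)) (le_inf h.syl.pCoreOf_le ?_)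
  exact (le_centralizer_nclIn (h.syl.pCoreOf_le.trans (le_centralizer_iff.1 inf_le_right))
    (le_normalizer_pCoreOf H)).trans (centralizer_anti h.gen)

theorem MH.le_core (h : MH H S Y) (hX : IsPGroup 2 X) (hc : X ≤ cen H Y) : X ≤ pCoreOf 2 H := (le_inf (h.syl.le_of_normalizes hX (hc.trans inf_le_left) (hc.trans h.cen_le'))
    (hc.trans inf_le_right)).trans h.core.le

/-- A subgroup that is a 2-group modulo `C_H(Y)` has a normal Sylow subgroup. -/
theorem MH.norm_sylow (h : MH H S Y) {K T : Subgroup G} (hK : K ≤ H)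
    (hr : pResOf 2 K ≤ centralizer (Y : Set G)) (hT : IsSylowIn 2 T K) :
    K ≤ normalizer (T : Set G) := by
  obtain ⟨g, hg, hle⟩ := h.syl.exists_le_conj hT.isPGroup (hT.le.trans hK)
  have e : conjS g S ⊓ K = T := hT.3 _ ((isPGroup_conjS h.syl.isPGroup g).to_le inf_le_left)
    (le_inf hle hT.le) inf_le_right
  refine hT.pResOf_sup.ge.trans (sup_le ?_ le_normalizer)
  rw [← e]
  exact le_normalizer_inf ((le_inf ((pResOf_le K).trans hK) hr).trans (h.cen_le hg))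
    ((pResOf_le K).trans le_normalizer)

theorem MH.pg_sup (h : MH H S Y) {B : Subgroup G} (hA : IsPGroup 2 A) (hB : IsPGroup 2 B)
    {K : Subgroup G} (h1 : A ⊔ B ≤ K) (hK : K ≤ H) (hr : pResOf 2 K ≤ centralizer (Y : Set G)) :
    IsPGroup 2 (A ⊔ B : Subgroup G) := by
  obtain ⟨T, hT⟩ := exists_isSylowIn 2 K
  have hn := h.norm_sylow hK hr hT
  exact hT.isPGroup.to_le (sup_le
    (hT.le_of_normalizes hA (le_sup_left.trans h1) ((le_sup_left.trans h1).trans hn))
    (hT.le_of_normalizes hB (le_sup_right.trans h1) ((le_sup_right.trans h1).trans hn)))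

theorem MH.mf (h : MH H S Y) : MF (im Y Y) (bar Y H) (bar Y S) := by
  refine ⟨elemAb_im h.elem, bar_le_normalizer H, bar_faith H, sylow_bar h.norm h.syl, ?_, ?_⟩
  · have e := bar_inf_pre (pCoreOf_le (p := 2) (bar Y H))
    have hn : H ≤ normalizer ((H ⊓ pre Y (pCoreOf 2 (bar Y H)) : Subgroup G) : Set G) :=
      le_normalizer_inf le_normalizer (le_normalizer_pre h.norm (le_normalizer_pCoreOf _))
    set N := H ⊓ pre Y (pCoreOf 2 (bar Y H))
    have hr : pResOf 2 N ≤ centralizer (Y : Set G) := pResOf_le_of_forall_pow_mem fun g hg => by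
      obtain ⟨k, hk⟩ := isPGroup_iff_forall_mem.1 (isPGroup_pCoreOf (p := 2) (bar Y H)) _
        ((mem_pre' (a := ⟨g, h.norm hg.1⟩)).1 hg.2)
      exact ⟨k, (hr_eq_one_iff (g := ⟨g, h.norm hg.1⟩ ^ 2 ^ k)).1 (by rw [map_pow, hk])⟩
    have hT := h.syl.inf_of_normal (inf_le_left : N ≤ H) hn
    rw [← e, bar_eq_bot_iff (inf_le_left.trans h.norm)]
    exact hT.le_of_pResOf_le hr (((le_pCoreOf hT.isPGroup hT.le (h.norm_sylow inf_le_left hr hT)).trans
      (pCoreOf_mono_of_normal inf_le_left hn)).trans (h.core.ge.trans inf_le_right))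
  · rintro _ ⟨⟨g, hg, rfl⟩, h1⟩
    rw [cen_im_bar (h.syl.le.trans h.norm)] at h1
    exact hr_mem_normalizer_bar (h.cS ⟨hg, (hr_mem_centralizer inf_le_left).1 h1⟩)

theorem MH.nov' (h : MH H S Y) (hX : X ≤ H) (he : IsElementaryAbelian 2 (bar Y X)) :
    (centralizer (Y : Set G)).relIndex X ≤ (cen Y X).relIndex Y := by
  have := h.mf.amb.nov _ (bar_mono hX) he
  rwa [card_bar (hX.trans h.norm), cen_im_bar (hX.trans h.norm), relIndex_im le_rfl] at this

theorem MH.nov_quad (h : MH H S Y) (hX : X ≤ H) (hq : ⁅Y, X⁆ ≤ centralizer (X : Set G)) :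
    (centralizer (Y : Set G)).relIndex X ≤ (cen Y X).relIndex Y :=
  h.nov' hX (h.mf.amb.elem_of_kl (W := im Y (cen Y X)) (bar_mono hX)
    ((bar_le_kl (hX.trans h.norm)).2 (le_inf (commutator_le_left_of_le_normalizer (hX.trans h.norm)) hq))
    ((bar_le_centralizer (hX.trans h.norm) inf_le_left).2 (le_centralizer_iff.1 inf_le_right)))

theorem MH.nov (h : MH H S Y) (hX : X ≤ H) (he : IsElementaryAbelian 2 X) :
    (centralizer (Y : Set G)).relIndex X ≤ (cen Y X).relIndex Y := h.nov' hX (elemAb_bar he)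

theorem MH.off (h : MH H S Y) (hX : X ≤ H) (he : IsElementaryAbelian 2 X)
    (hoff : (cen Y X).relIndex Y ≤ (centralizer (Y : Set G)).relIndex X) :
    X ≤ sSup {A | A ≤ X ∧ RootOn Y A} ⊔ cen X Y := by
  have hn := hX.trans h.norm
  have h1 := h.mf.tight_le (X := bar Y X) ⟨bar_mono hX, elemAb_bar he, by
    rw [card_bar hn, cen_im_bar hn, relIndex_im le_rfl]; exact le_antisymm hoff (h.nov hX he)⟩
  have h2 : sSup {A | A ≤ X ∧ RootOn Y A} ≤ X := sSup_le fun A hA => hA.1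
  refine le_of_bar_le hn le_rfl h2 (h1.trans (sSup_le fun K hK => ?_))
  have e := bar_inf_pre hK.1
  rw [← e]
  exact bar_mono (le_sSup ⟨inf_le_left, rootOn_of_root ((elemAb_isPGroup he).to_le inf_le_left)
    (inf_le_left.trans hn) (e.symm ▸ hK.2)⟩)

theorem MH.le_of_cen (h : MH H S Y) (hJ : J ≤ S)
    (hJ' : J ≤ sSup {A | A ≤ J ∧ RootOn Y A} ⊔ cen H Y) (hX : X ≤ S)
    (hc : X ≤ centralizer (cen Y J : Set G)) : X ≤ J ⊔ cen H Y := by
  have hJH := hJ.trans h.syl.le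
  have h2 : sSup {A | A ≤ J ∧ RootOn Y A} ≤ J := sSup_le fun A hA => hA.1
  refine le_of_bar_le h.norm (hX.trans h.syl.le) hJH (h.mf.le_of_cen (bar_mono hJ) ?_ (bar_mono hX) ?_)
  · refine (bar_mono hJ').trans ((bar_sup_cen h.norm (h2.trans hJH)).le.trans ?_)
    refine (bar_le_iff ((h2.trans hJH).trans h.norm)).2 (sSup_le fun A hA => ?_)
    exact (bar_le_iff hA.2.norm).1 (le_sSup ⟨bar_mono hA.1, hA.2.root (hA.1.trans hJH)⟩)
  · rw [cen_im_bar (hJH.trans h.norm), bar_le_centralizer ((hX.trans h.syl.le).trans h.norm) inf_le_left]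
    exact hc

omit [Finite G] in
theorem commutator_le_sup' (A B : Subgroup G) : ⁅A, B⁆ ≤ A ⊔ B := commutator_le.2 fun _ hx _ hy =>
  mul_mem (mul_mem (mul_mem (mem_sup_left hx) (mem_sup_right hy)) (inv_mem (mem_sup_left hx)))
    (inv_mem (mem_sup_right hy))

theorem MH.comp (h : MH H S Y) (hA : RootOn Y A) (hAH : A ≤ H) :
    ∃ L ≤ H, ∃ (F : Type) (_ : Field F) (_ : Fintype F) (_ : CharP F 2)
      (D : NatData F ⊤ L Y (cen Y L)), A ⊔ cen H Y ≤ L ∧ D.img A = upU F ∧ D.ker = cen H Y ∧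
      D.fix = cen Y A ∧ ⁅Y, L⁆ ⊔ cen Y L = Y ∧ ∀ C ≤ H, RootOn Y C →
        (∃ l ∈ L, conjS l A ⊔ cen H Y = C ⊔ cen H Y) ∨
          (⁅L, C⁆ ≤ cen H Y ∧ ⁅⁅Y, L⁆, C⁆ = ⊥ ∧ ⁅Y, C⁆ ≤ cen Y L) := by
  obtain ⟨K, hK, hN, hC⟩ := h.mf.comp (hA.root hAH)
  have e := bar_inf_pre hK
  set L := H ⊓ pre Y K
  have hL : L ≤ H := inf_le_left
  have hLn := hL.trans h.norm
  have hAL : A ≤ L := le_inf hAH ((bar_le_iff hA.norm).1 hN.le)
  have hCL : cen H Y ≤ L := le_inf inf_le_left ((bar_le_iff (inf_le_left.trans h.norm)).1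
    (((bar_eq_bot_iff (inf_le_left.trans h.norm)).2 inf_le_right).le.trans bot_le))
  have ec : im Y (cen Y L) = cen (im Y Y) K := by rw [← cen_im_bar hLn, e]
  obtain ⟨-, F, _, _, D, d1, d2, d3⟩ := id hN
  obtain ⟨D', p1, p2⟩ := natData_of_bar inf_le_left hLn D e ec
  have hF : CharP F 2 := charP_of_relIndex (Q := centralizer (Y : Set G)) hA.two (by
    rw [← card_bar hA.norm, card_eq_card D hN.le d1 d2, Nat.card_eq_fintype_card])
  refine ⟨L, hL, F, inferInstance, inferInstance, hF, D', sup_le hAL hCL, ?_, ?_, ?_, ?_, fun C hCH hR => ?_⟩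
  · rw [← d1]
    ext g
    rw [D'.mem_img, D.mem_img]
    constructor
    · rintro ⟨y, hy, hy', rfl⟩
      exact ⟨_, e.le (hr_mem_bar (a := ⟨y, hLn hy⟩) hy), hr_mem_bar hy', (p2 ⟨y, hLn hy⟩).symm⟩
    · rintro ⟨_, -, ⟨y, hy, rfl⟩, rfl⟩
      exact ⟨y, hAL hy, hy, p2 y⟩
  · ext x
    rw [D'.mem_ker]
    refine ⟨fun hx => ⟨hx.1.1, (hr_eq_one_iff (g := ⟨x, hLn hx.1⟩)).1 (d2.le (D.mem_ker.2
      ⟨e.le (hr_mem_bar hx.1), (p2 ⟨x, hLn hx.1⟩).symm.trans hx.2⟩))⟩, fun hx => ⟨hCL hx, ?_⟩⟩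
    rw [p2 ⟨x, h.norm hx.1⟩, (hr_eq_one_iff (g := ⟨x, h.norm hx.1⟩)).2 hx.2, D.φ_one]
  · rw [cen_im_bar hA.norm] at d3
    ext x
    rw [D'.mem_fix]
    refine ⟨fun hx => (iota_mem_im (v := ⟨x, hx.1⟩)).1 (d3.le (D.mem_fix.2
      ⟨iota_mem_im.2 hx.1, p1 ⟨x, hx.1⟩ ▸ hx.2⟩)), fun hx => ⟨hx.1, ?_⟩⟩
    rw [p1 ⟨x, hx.1⟩]
    exact (D.mem_fix.1 (d3.ge (iota_mem_im.2 hx))).2
  · have h1 := commutator_le_left_of_le_normalizer hLn
    refine im_inj (sup_le h1 inf_le_left) le_rfl ?_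
    rw [im_sup h1 inf_le_left, ec, ← commutator_im_bar le_rfl hLn, e, hN.sup_cen]
  · have hR' := hR.root hCH
    rcases hC _ hR' with ⟨l, hl', e1⟩ | ⟨e1, e2⟩
    · obtain ⟨l, hl, rfl⟩ := e.ge hl'
      rw [← bar_conjS] at e1
      have h1 : conjS (l : G) A ≤ H := conjS_le_of_le_of_mem hAH (hL hl)
      exact Or.inl ⟨l, hl, le_antisymm (sup_le (le_of_bar_le h.norm h1 hCH e1.le) le_sup_right)
        (sup_le (le_of_bar_le h.norm hCH h1 e1.ge) le_sup_right)⟩
    · refine Or.inr ⟨le_inf (commutator_le.2 fun x hx y hy => ?_) ?_, ?_, ?_⟩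
      · exact mul_mem (mul_mem (mul_mem (hL hx) (hCH hy)) (inv_mem (hL hx))) (inv_mem (hCH hy))
      · rw [← bar_eq_bot_iff ((commutator_le_sup' L C).trans (sup_le hLn hR.norm)),
          bar_commutator hLn hR.norm, e, e1]
      · have h1 := commutator_le_left_of_le_normalizer hLn
        rwa [← e, commutator_im_bar le_rfl hLn, commutator_im_bar h1 hR.norm, im_eq_bot_iff
          ((commutator_mono h1 le_rfl).trans (commutator_le_left_of_le_normalizer hR.norm))] at e2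
      · rw [← bar_le_kl hR.norm, ec, ← hN.gen]
        refine le_kl_nclIn (bar_le_normalizer C) fun l hl => ?_
        refine Root.le_kl h.mf.amb hR' (Root.conj h.mf.amb (hA.root hAH) (hK hl)) ?_
        exact commutator_eq_bot_symm (eq_bot_iff.2 ((commutator_mono
          (conjS_le_of_le_of_mem hN.le hl) le_rfl).trans e1.le))

theorem MH0.same (h : MH0 H S Y) (hA : RootOn Y A) (hAH : A ≤ H) {l₁ l₂ : G} (h1 : l₁ ∈ H)
    (h2 : l₂ ∈ H) (hn : ¬ IsPGroup 2 (A ⊔ conjS l₁ A : Subgroup G)) :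
    ⁅Y, conjS l₂ A⁆ ≤ ⁅Y, A⁆ ⊔ ⁅Y, conjS l₁ A⁆ ∨
      ⁅⁅Y, A⁆ ⊔ ⁅Y, conjS l₁ A⁆, conjS l₂ A⁆ = ⊥ := by
  set Y₀ := nclIn (cen Y S) H with hY₀
  have hYY : Y₀ ≤ Y := nclIn_le inf_le_left h.norm
  have eS : cen Y₀ S = cen Y S :=
    le_antisymm (inf_le_inf_right _ hYY) (le_inf (le_nclIn _ _) inf_le_right)
  have h0 : MH H S Y₀ := ⟨⟨elemAb_mono h.elem hYY, hYY.trans h.le, le_normalizer_nclIn _ _, h.syl,
    eS ▸ h.cS⟩, by rw [eS]⟩
  have hA1 : conjS l₁ A ≤ H := conjS_le_of_le_of_mem hAH h1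
  have hp1 := isPGroup_conjS hA.two l₁
  have a1 : ¬ A ≤ centralizer (Y₀ : Set G) := fun e => hn ((isPGroup_pCoreOf (p := 2) H).to_le
    (sup_le (h0.le_core hA.two (le_inf hAH e)) ((conjS_mono (h0.le_core hA.two (le_inf hAH e))).trans
      (mem_normalizer_iff_conjS.1 (le_normalizer_pCoreOf H h1)).le)))
  have a2 : centralizer (Y₀ : Set G) ⊓ A = centralizer (Y : Set G) ⊓ A := by
    refine le_antisymm (fun a ha => ⟨by_contra fun h3 => a1 (le_centralizer_iff.1 fun v hv => ?_), ha.2⟩)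
      (inf_le_inf_right _ (centralizer_anti hYY))
    exact (hA.ti a ha.2 h3 v (hYY hv) (comm_eq_one ha.1 hv)).2
  have q0 : ⁅Y₀, A⁆ ≤ centralizer (A : Set G) := (commutator_mono hYY le_rfl).trans hA.quad
  have a3 := h0.nov_quad hAH q0
  have a4 : (cen Y₀ A).relIndex Y₀ = (cen Y A).relIndex Y₀ := by
    rw [relIndex_cen, ← inf_relIndex_right (cen Y A), inf_right_comm, inf_of_le_right hYY,
      inf_relIndex_left]
  have a5 : (centralizer (Y₀ : Set G)).relIndex A = (cen Y A).relIndex Y := by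
    rw [← inf_relIndex_right, a2, inf_relIndex_right, hA.idx]
  have a6 : (cen Y A).relIndex Y₀ ≤ (cen Y A).relIndex Y :=
    relIndex_le_of_le_right hYY relIndex_ne_zero'
  have hA0 : RootOn Y₀ A := ⟨hA.two, hAH.trans h0.norm, a1, q0, by omega, fun a ha h3 v hv h4 =>
    ⟨hv, (hA.ti a ha (fun e => h3 (centralizer_anti hYY e)) v (hYY hv) h4).2⟩⟩
  have a7 : Y₀ ⊔ cen Y A = Y := sup_eq_of_relIndex_le h.elem.1 inf_le_left hYY (by omega)
  have a8 : ⁅Y, A⁆ = ⁅Y₀, A⁆ := by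
    conv_lhs => rw [← a7]
    rw [Subgroup.commutator_comm, sup_comm, commutator_sup_of_le_centralizer inf_le_right
      (le_normalizer_of_le_centralizer (hYY.trans ((elemAb_le_centralizer h.elem).trans
        (centralizer_anti inf_le_left)))), Subgroup.commutator_comm]
  have a9 : ∀ l ∈ H, ⁅Y, conjS l A⁆ = ⁅Y₀, conjS l A⁆ := fun l hl => by
    have := congrArg (conjS l) a8
    rwa [conjS_commutator, conjS_commutator, mem_normalizer_iff_conjS.1 (h.norm hl),
      mem_normalizer_iff_conjS.1 (h0.norm hl)] at this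
  obtain ⟨L, hL, F, _, _, _, D, d1, d2, d3, -, -, d4⟩ := h0.comp hA0 hAH
  have hAL : A ≤ L := le_sup_left.trans d1
  have r : ∀ B ≤ H, IsPGroup 2 B → pResOf 2 (B ⊔ cen H Y₀) ≤ cen H Y₀ := fun B hB hp =>
    (pResOf_sup_of_isPGroup hp (hB.trans h0.norm_cen)).le.trans (pResOf_le _)
  have e : ⁅Y₀, L⁆ = ⁅Y₀, A⁆ ⊔ ⁅Y₀, conjS l₁ A⁆ := by
    rcases d4 _ hA1 (hA0.conj (h0.norm h1)) with ⟨l, hl, e1⟩ | ⟨e1, -⟩
    · have b1 : conjS l₁ A ≤ L := (le_sup_left.trans e1.ge).trans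
        (sup_le (conjS_le_of_le_of_mem hAL hl) (le_sup_right.trans d1))
      refine le_antisymm ((le_kl_iff (hL.trans h0.norm)).1 ?_)
        (sup_le (commutator_mono le_rfl hAL) (commutator_mono le_rfl b1))
      have b2 : D.φ l ∉ borel F := fun hb => by
        have b3 := D.mem_normalizer_of_borel d1 (d3.le.trans le_sup_right) (by
          rw [D.img_sup hAL (le_sup_right.trans d1), ← d3, D.img_ker, sup_bot_eq, d2]) hl hb
        refine hn (h0.pg_sup hA.two hp1 (sup_le le_sup_left ((le_sup_left.trans e1.ge).trans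
          (sup_le ?_ le_sup_right))) (d1.trans hL) ((r A hAH hA.two).trans inf_le_right))
        exact (conjS_mono le_sup_left).trans (mem_normalizer_iff_conjS.1 b3).le
      have b3 : L ≤ A ⊔ (conjS l A ⊔ cen H Y₀) := D.le_of_img_le le_rfl
        (d3.le.trans (le_sup_right.trans le_sup_right)) (le_top.trans ((upU_sup_conjS b2).ge.trans (by
          rw [← d2, ← D.img_conjS hl]
          exact sup_le (D.img_mono le_sup_left) (D.img_mono (le_sup_left.trans le_sup_right)))))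
      rw [e1] at b3
      refine b3.trans (sup_le ((le_kl_iff hA0.norm).2 le_sup_left) (sup_le
        ((le_kl_iff (hA1.trans h0.norm)).2 le_sup_right) ((le_kl_iff (inf_le_left.trans h0.norm)).2 ?_)))
      exact (comm_bot_iff'.2 inf_le_right).le.trans bot_le
    · refine (hn (h0.pg_sup hA.two hp1 (sup_le_sup_left le_sup_left _)
        (sup_le hAH (sup_le hA1 inf_le_left)) ((pResOf_sup_le (le_normalizer_sup_of_commutator_le
          (hAH.trans h0.norm_cen) ((commutator_mono hAL le_rfl).trans e1)) (hAH.trans h0.norm_cen)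
          ((sup_le hA1 inf_le_left).trans h0.norm_cen) ?_ (r _ hA1 hp1)).trans inf_le_right))).elim
      rw [pResOf_eq_bot_of_isPGroup hA.two]; exact bot_le
  rw [a8, a9 l₁ h1, a9 l₂ h2, ← e]
  rcases d4 _ (conjS_le_of_le_of_mem hAH h2) (hA0.conj (h0.norm h2)) with ⟨l, hl, e1⟩ | ⟨-, e1, -⟩
  · exact Or.inl (commutator_mono le_rfl ((le_sup_left.trans e1.ge).trans
      (sup_le (conjS_le_of_le_of_mem hAL hl) (le_sup_right.trans d1))))
  · exact Or.inr e1

end CfsgLib.Baum
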