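import Mathlib
import Cfsg.Agent.Lib.Baum.Pair

/-! Transfer of adapted pairs. -/

set_option autoImplicit false

namespace CfsgLib.Baum

open Subgroup Cfsg CfsgLib.LAE CfsgLib.PLocal CfsgLib.Push CfsgLib.BHS CfsgLib.ZJ CfsgLib.SL2
  CfsgLib.Blocks CfsgLib.LocStr CfsgLib.CGT2
open scoped commutatorElement


variable {G : Type*} [Group G] [Finite G]

variable {q : ℕ} {u v g : G} {L L' : Subgroup G}

omit [Finite G] in
theorem zp_cases {t a : G} (ht : t * t = 1) (h : a ∈ zpowers t) : a = 1 ∨ a = t := by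
  let K : Subgroup G :=
    { carrier := {a | a = 1 ∨ a = t}
      one_mem' := Or.inl rfl
      mul_mem' := by
        rintro a b (rfl | rfl) (rfl | rfl) <;> simp [ht]
      inv_mem' := by
        rintro a (rfl | rfl)
        · simp
        · exact Or.inr (inv_eq_of_mul_eq_one_right ht) }
  exact (zpowers_le.2 (Or.inr rfl) : zpowers t ≤ K) h

omit [Finite G] in
/-- The elements of `W ⟨t⟩` for an involution `t` normalizing `W`. -/
theorem mem_sup_zp {W : Subgroup G} {t y : G} (ht : t * t = 1) (hn : t ∈ normalizer (W : Set G))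
    (h : y ∈ W ⊔ zpowers t) : y ∈ W ∨ y * t ∈ W := by
  obtain ⟨w, hw, z, hz, rfl⟩ := (mem_sup_iff_of_right_le_normalizer (zpowers_le.2 hn)).1 h
  rcases zp_cases ht hz with rfl | rfl
  · exact Or.inl (by simpa using hw)
  · exact Or.inr (by rwa [mul_assoc, ht, mul_one])

/-- `g` normalizes `W ⟨t⟩` if it normalizes `W` and fixes the coset `W t`. -/
theorem norm_sup_zp {W : Subgroup G} {t : G} (h1 : g ∈ normalizer (W : Set G))
    (h2 : g * t * g⁻¹ * t⁻¹ ∈ W) : g ∈ normalizer ((W ⊔ zpowers t : Subgroup G) : Set G) := by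
  refine mem_normalizer_of_conjS_le ?_
  rw [conjS_sup, mem_normalizer_iff_conjS.1 h1, Blocks.conjS_zpowers]
  refine sup_le le_sup_left (zpowers_le.2 ?_)
  simpa using mul_mem (mem_sup_left h2) (mem_sup_right (mem_zpowers t))

theorem cen_sup_zp {W : Subgroup G} (v : G) : cen (Tt v) (W ⊔ zpowers v) = cen (Tt v) W := by
  rw [cen_sup]
  exact inf_eq_left.2 (le_inf inf_le_left (by rw [Cf.cent_zpowers]; exact inf_le_left.trans (Tt_le v)))

theorem Cl.norm_Q (h : Cl v) (W : Subgroup G) :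
    normalizer ((W ⊔ zpowers v : Subgroup G) : Set G) ≤ normalizer (cen (Tt v) W : Set G) := by
  rw [← cen_sup_zp]
  exact h.norm_cen (mem_sup_right (mem_zpowers v))

namespace Ad

theorem W_le_T (h : Ad q v L L') : wA L ≤ Tt v := le_sup_left.trans h.le_T

theorem W_le_Q (h : Ad q v L L') : wA L ≤ cen (Tt v) (wA L) :=
  le_inf h.W_le_T (elemAb_le_centralizer h.pair.elem)

omit [Finite G] in
theorem mem_cenU (h : Ad q v L L') : v ∈ centralizer (Ug L L' : Set G) :=
  fun _ hb => (mem_cen1.1 (h.cU hb)).symm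

omit [Finite G] in
theorem mem_cenW (h : Ad q v L L') : v ∈ centralizer (wA L : Set G) :=
  centralizer_anti le_sup_left h.mem_cenU

theorem comm_mem (h : Ad q v L L') {o e : G} (h1 : o ∈ Tt v) (h2 : o ∈ centralizer (wA L : Set G))
    (he : e ∈ eA L) : ⁅o, e⁆ ∈ wA L := h.uq (commutator_mem_commutator ⟨h1, h2⟩ he)

theorem res_key (hG : St G) (h : Ad q v L L') :
    pResOf 2 ((L ⊔ centralizer ((wA L ⊔ zpowers v : Subgroup G) : Set G)) ⊓
      kl (cen (Tt v) (wA L)) (wA L)) = eA L := by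
  set C := centralizer ((wA L ⊔ zpowers v : Subgroup G) : Set G)
  set Q := cen (Tt v) (wA L)
  set X := (L ⊔ C) ⊓ kl Q (wA L)
  have nQ : L ≤ normalizer (Q : Set G) := h.normY.trans (h.cl.norm_Q _)
  have nC : L ≤ normalizer (C : Set G) := le_normalizer_centralizer h.normY
  have cW : C ≤ centralizer (wA L : Set G) := centralizer_anti le_sup_left
  have cv : C ≤ centralizer ({v} : Set G) := cen_le_cen1 (mem_sup_right (mem_zpowers v))
  have e1 : eA L ≤ X := le_inf ((pResOf_le L).trans le_sup_left)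
    ((le_kl_iff ((pResOf_le L).trans nQ)).2 h.uq)
  have n0 : X ⊓ C ≤ normalizer (Q : Set G) := (inf_le_left.trans inf_le_right).trans kl_le
  have e2 : pResOf 2 (X ⊓ C) ≤ centralizer (Q : Set G) :=
    pResOf_le_centralizer_of_le ((pg_Tt v).to_le inf_le_left) n0
      ((le_kl_iff ((pResOf_le _).trans n0)).1 ((pResOf_le _).trans (inf_le_left.trans inf_le_right)))
      ((pResOf_le _).trans (inf_le_right.trans cW))
  have e3 : IsPGroup 2 (X ⊓ C : Subgroup G) := by
    refine pResOf_eq_bot_iff.1 (le_bot_iff.1 (pResOf_le_iff.2 fun d hd ho => mem_bot.2 ?_))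
    exact hG.odd_eq_one h.cl (X := Q) inf_le_left (cen_anti h.W_le_Q) (Nat.coprime_two_right.1 ho)
      (mem_cen1.1 (cv hd.2)) (e2 (mem_pResOf hd ho))
  have e4 : X ⊓ C ≤ Q := le_inf (h.cl.le_Tt e3 (inf_le_right.trans cv)) (inf_le_right.trans cW)
  have e5 : pResOf 2 (L ⊔ C) ≤ C ⊔ eA L :=
    pResOf_sup_le nC (le_normalizer_sup nC (le_normalizer_pResOf L)) (le_sup_left.trans le_normalizer)
      le_sup_right ((pResOf_le C).trans le_sup_left)
  have e6 : pResOf 2 X ≤ Q ⊔ eA L :=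
    (le_inf (pResOf_le X) ((pResOf_mono inf_le_left).trans e5)).trans
      ((inf_sup_of_le_of_le_normalizer' ((pResOf_le L).trans nC) e1).le.trans (sup_le_sup_right e4 _))
  refine le_antisymm ?_ ((pResOf_pResOf L).ge.trans (pResOf_mono e1))
  refine (pResOf_pResOf X).ge.trans ((pResOf_mono e6).trans ?_)
  rw [pResOf_sup_of_isPGroup ((pg_Tt v).to_le inf_le_left) fun o ho => h.norm_of_cen ho.1 ho.2,
    pResOf_pResOf]

end Ad

theorem Ad.nx (hG : St G) (h : Ad q v L L') (h1 : g ∈ normalizer (wA L : Set G))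
    (h2 : g ∈ normalizer ((wA L ⊔ zpowers v : Subgroup G) : Set G))
    (h3 : g ∈ normalizer ((L ⊔ centralizer ((wA L ⊔ zpowers v : Subgroup G) : Set G) :
      Subgroup G) : Set G)) : g ∈ normalizer (eA L : Set G) := by
  rw [← h.res_key hG]
  refine normalizer_le_normalizer_pResOf _ (mem_normalizer_iff_conjS.2 ?_)
  rw [conjS_inf, conjS_kl, mem_normalizer_iff_conjS.1 h1, mem_normalizer_iff_conjS.1 h3,
    mem_normalizer_iff_conjS.1 (h.cl.norm_Q _ h2)]

theorem Ad.nx_eq (hG : St G) (h : Ad q v L L') {L₂ L₂' : Subgroup G} (h' : Ad q v L₂ L₂')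
    (h1 : wA L₂ = wA L)
    (h2 : L₂ ⊔ centralizer ((wA L ⊔ zpowers v : Subgroup G) : Set G) =
      L ⊔ centralizer ((wA L ⊔ zpowers v : Subgroup G) : Set G)) : eA L₂ = eA L := by
  have := h'.res_key hG
  rw [h1, h2] at this
  rw [← this, h.res_key hG]

theorem Ad.n1 (hG : St G) (h : Ad q v L L') (h1 : g ∈ centralizer (wA L : Set G))
    (h2 : g ∈ normalizer ((wA L ⊔ zpowers v : Subgroup G) : Set G)) :
    g ∈ normalizer (eA L : Set G) := by
  obtain ⟨F, _, _, -, ⟨hh⟩⟩ := h.pair.exists_half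
  set N := centralizer (wA L : Set G) ⊓ normalizer ((wA L ⊔ zpowers v : Subgroup G) : Set G)
  have nN : L ≤ normalizer (N : Set G) := le_normalizer_inf (le_normalizer_centralizer h.pair.normW)
    (h.normY.trans le_normalizer)
  have cw : ∀ {o w : G}, o ∈ N → w ∈ wA L → o * w * o⁻¹ = w := fun ho hw => by
    rw [← ho.1 _ hw, mul_inv_cancel_right]
  have ex : ∀ o ∈ N, ∃ w ∈ wA L, o * v * o⁻¹ = w * v := fun o ho => by
    rcases mem_sup_zp h.cl.sq (centralizer_le_normalizer _ h.mem_cenW)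
      (Cf.cjm ho.2 (mem_sup_right (mem_zpowers v))) with e | e
    · refine ⟨1, one_mem _, ?_⟩
      have := cw (inv_mem ho) e
      rw [one_mul, ← this]; group
    · exact ⟨_, e, by rw [mul_assoc _ v v, h.cl.sq, mul_one]⟩
  have cj : ∀ {o w l : G}, o ∈ N → o * v * o⁻¹ = w * v → w ∈ wA L → l ∈ L →
      l * o * l⁻¹ * v * (l * o * l⁻¹)⁻¹ = l * w * l⁻¹ * v := fun {o w l} ho e hw hl => by
    have e1 := cw ho (h.conj_mul_mem (inv_mem hl))
    have e2 := elemAb_comm h.pair.elem hw (h.conj_mul_mem (inv_mem hl))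
    have e3 : l⁻¹ * v * l = l⁻¹ * v * l⁻¹⁻¹ * v * v := by rw [mul_assoc _ v v, h.cl.sq]; group
    calc _ = l * (o * (l⁻¹ * v * l) * o⁻¹) * l⁻¹ := by group
      _ = l * (o * (l⁻¹ * v * l⁻¹⁻¹ * v) * o⁻¹ * (o * v * o⁻¹)) * l⁻¹ := by rw [e3]; group
      _ = l * (w * (l⁻¹ * v * l⁻¹⁻¹ * v * v)) * l⁻¹ := by
        rw [e1, e, ← mul_assoc _ w, ← e2]; simp only [mul_assoc]
      _ = _ := by rw [← e3]; group
  let I : Subgroup G :=
    { carrier := {w | w ∈ wA L ∧ ∃ o ∈ N, o * v * o⁻¹ = w * v}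
      one_mem' := ⟨one_mem _, 1, one_mem _, by simp⟩
      mul_mem' := by
        rintro w w' ⟨hw, o, ho, e⟩ ⟨hw', o', ho', e'⟩
        refine ⟨mul_mem hw hw', o' * o, mul_mem ho' ho, ?_⟩
        calc _ = o' * (o * v * o⁻¹) * o'⁻¹ := by group
          _ = o' * w * o'⁻¹ * (o' * v * o'⁻¹) := by rw [e]; group
          _ = _ := by rw [cw ho' hw, e', mul_assoc]
      inv_mem' := by
        rintro w ⟨hw, o, ho, e⟩
        refine ⟨inv_mem hw, o⁻¹, inv_mem ho, ?_⟩
        calc _ = (o⁻¹ * w * o⁻¹⁻¹)⁻¹ * (o⁻¹ * (w * v) * o) := by group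
          _ = _ := by rw [cw (inv_mem ho) hw, ← e]; group }
  have hI : I ≤ centralizer (L : Set G) := by
    by_contra hI
    have e := atom_eq_of_normal hh.a (X := I) (fun w hw => hw.1) (fun l hl =>
      mem_normalizer_of_conjS_le (conjS_le_iff_forall.2 fun w ⟨hw, o, ho, e⟩ =>
        ⟨Cf.cjm (h.pair.normW (pResOf_le L hl)) hw, _, Cf.cjm (nN (pResOf_le L hl)) ho,
          cj ho e hw (pResOf_le L hl)⟩)) hI
    obtain ⟨r, hr, hc⟩ := h.split h.cl.mem h.mem_cenU
    obtain ⟨-, o, -, e'⟩ : r ∈ I := e.ge hr.1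
    refine (h.cl.conj o).not_le_atom h.pair.atom ?_
    rw [e', h.mem_cenW r hr.1]
    exact fun l hl => mem_cen1.2 (hc l hl).symm
  refine h.nx hG (centralizer_le_normalizer _ h1) h2 (mem_normalizer_of_conjS_le ?_)
  rw [conjS_sup, mem_normalizer_iff_conjS.1 (normalizer_le_normalizer_centralizer _ h2)]
  refine sup_le (conjS_le_iff_forall.2 fun l hl => ?_) le_sup_right
  have hg : g⁻¹ ∈ N := inv_mem ⟨h1, h2⟩
  obtain ⟨w, hw, e⟩ := ex _ hg
  have e1 := cj hg e hw hl
  rw [hI ⟨hw, _, hg, e⟩ l hl, mul_inv_cancel_right, ← e] at e1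
  have e2 : g * (l * g⁻¹ * l⁻¹) ∈ centralizer ((wA L ⊔ zpowers v : Subgroup G) : Set G) := by
    rw [centralizer_sup, Cf.cent_zpowers]
    refine ⟨mul_mem h1 (Cf.cjm (nN hl) hg).1, mem_centralizer_singleton_iff.2 ?_⟩
    calc _ = g * (l * g⁻¹ * l⁻¹ * v * (l * g⁻¹ * l⁻¹)⁻¹) * (l * g⁻¹ * l⁻¹) := by group
      _ = _ := by rw [e1]; group
  simpa [mul_assoc] using mul_mem (mem_sup_right e2) (mem_sup_left hl)

theorem Ad.transfer_aux (hG : St G) (h : Ad q v L L') (hu : Cl u) (hc : Commute v u)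
    (hU : u ∈ centralizer (wA L : Set G)) : ⁅cen (Tt u) (wA L), eA L⁆ ≤ wA L := by
  obtain ⟨F, _, _, -, ⟨hh⟩⟩ := h.pair.exists_half
  have nW : eA L ≤ normalizer (wA L : Set G) := (pResOf_le L).trans h.pair.normW
  have hv : v ∈ cen (Tt u) (wA L) := ⟨hu.mem_Tt_of_sq h.cl.sq hc.symm, h.mem_cenW⟩
  have cW : cen (Tt u) (wA L) ≤ normalizer (wA L : Set G) :=
    inf_le_right.trans (centralizer_le_normalizer _)
  refine ab_mod (A := zpowers v) ((pg_Tt u).to_le inf_le_left) h.cl.pg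
    (le_inf (hu.le_Tt hh.a.pgW fun w hw => mem_cen1.2 (hU w hw).symm) (elemAb_le_centralizer h.pair.elem))
    ((zpowers_le.2 hv).trans le_normalizer) (fun e he => hu.norm_Q _ (norm_sup_zp (nW he) ?_))
    (sup_le (sup_le cW ((zpowers_le.2 hv).trans cW)) nW) (pResOf_pResOf L)
    ((commutator_mono (zpowers_le.2 (mem_inf.2 ⟨h.cl.mem, h.mem_cenW⟩)) le_rfl).trans h.uq) fun o ho h1 e he => ?_
  · have := inv_mem (h.comm_mem (h.cl.mem_Tt_of_sq hu.sq hc) hU he)
    rwa [commutatorElement_inv] at this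
  · have := inv_mem (hh.a.comm_le_of_cen (X := zpowers o)
      (zpowers_le.2 (h.n1 hG ho.2 (norm_sup_zp (cW ho) (h1 v (mem_zpowers v))))) (zpowers_le.2 ho.2)
      (commutator_mem_commutator he (mem_zpowers o)))
    rwa [commutatorElement_inv] at this

theorem Ad.transfer (hG : St G) (h : Ad q v L L') (hu : Cl u) (hc : Commute v u)
    (hU : Ug L L' ≤ centralizer ({u} : Set G)) : Ad q u L L' :=
  ⟨h.pair, hu, hU,
    h.transfer_aux hG hu hc fun _ hw => (mem_cen1.1 (hU (mem_sup_left hw))).symm,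
    h.symm.transfer_aux hG hu hc fun _ hw => (mem_cen1.1 (hU (mem_sup_right hw))).symm⟩

theorem Ad.chain (hG : St G) (h : Ad q v L L') (hu : Cl u)
    (hc : IsPGroup 2 (zpowers v ⊔ zpowers u : Subgroup G))
    (hU : Ug L L' ≤ centralizer ({u} : Set G)) : Ad q u L L' := by
  obtain ⟨w, w1, w2⟩ := hG.exists_le (isPGroup_sup hc h.pair.pg
    ((sup_le (zpowers_le.2 h.mem_cenU) (zpowers_le.2 fun _ hb => (mem_cen1.1 (hU hb)).symm)).trans
      (centralizer_le_normalizer _)))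
  exact (h.transfer hG w1 (comm_of_mem_Tt (w2 (mem_sup_left (mem_sup_left (mem_zpowers v))))).symm
    ((le_sup_right.trans w2).trans (Tt_le w))).transfer hG hu
    (comm_of_mem_Tt (w2 (mem_sup_left (mem_sup_right (mem_zpowers u))))) hU

/-- Pairs adapted to one involution of type `Cl` give pairs adapted to every other one. -/
theorem Ad.of_Tt_eq (hG : St G) (h : Ad q v L L') (hu : Cl u) (e : Tt u = Tt v) : Ad q u L L' :=
  h.transfer hG hu (comm_of_mem_Tt (e.le hu.mem)) ((h.le_T.trans e.ge).trans (Tt_le u))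

end CfsgLib.Baum
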