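import Mathlib
import Cfsg.Agent.Lib.Baum.Tr1
import Cfsg.Agent.Lib.Baum.ModG

/-! Uniqueness results for adapted pairs. -/

set_option autoImplicit false

namespace CfsgLib.Baum

open Subgroup Cfsg CfsgLib.LAE CfsgLib.PLocal CfsgLib.Push CfsgLib.BHS CfsgLib.ZJ CfsgLib.SL2
  CfsgLib.Blocks CfsgLib.LocStr CfsgLib.CGT2
open scoped commutatorElement


variable {G : Type*} [Group G] [Finite G]

variable {q : ℕ} {u t : G} {L L' L₁ L₁' L₂ L₂' : Subgroup G}

/-- An elementary abelian group `V` enlarged by an involution of type `Cl`. -/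
theorem St.exists_mh0 (hG : St G) {V X : Subgroup G} (hV : IsElementaryAbelian 2 V)
    (hX : IsPGroup 2 X) (h1 : V ≤ X) (h2 : X ≤ normalizer (V : Set G)) :
    ∃ (v : G) (S : Subgroup G), Cl v ∧ v ∈ centralizer (S : Set G) ∧ X ≤ S ∧
      MH0 (normalizer (V : Set G) ⊓ normalizer ((V ⊔ zpowers v : Subgroup G) : Set G)) S
        (V ⊔ zpowers v) := by
  obtain ⟨S, hS, h3⟩ := exists_isSylowIn_ge hX h2
  obtain ⟨v, v1, v2, v3⟩ := hG.exists_omegaZ hS (h1.trans h3) (centralizer_le_normalizer _)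
  have c : v ∈ centralizer (S : Set G) := omegaZ_le_centralizer S v1
  have n : S ≤ normalizer (V : Set G) ⊓ normalizer ((V ⊔ zpowers v : Subgroup G) : Set G) :=
    le_inf hS.le (le_normalizer_sup hS.le ((le_centralizer_iff.1 (zpowers_le.2 c)).trans
      (centralizer_le_normalizer _)))
  refine ⟨v, S, v2, c, h3, mh0_of (elemAb_sup hV (elemAb_zpowers (by rw [pow_two, v2.sq])) ?_)
    ((sup_le (h1.trans h3) (zpowers_le.2 (omegaZ_le S v1))).trans n) inf_le_right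
    (hS.mono n inf_le_left) v2 (mem_sup_right (mem_zpowers v)) (v3.ge.trans inf_le_left)⟩
  exact le_centralizer_iff.1 (zpowers_le.2 (centralizer_anti (h1.trans h3) c))

/-- Two pairs adapted to `u` are adapted to an involution centralizing `u` and their modules. -/
theorem Ad.pg_two (h1 : Ad q u L₁ L₁') (h2 : Ad q u L₂ L₂') :
    IsPGroup 2 (Ug L₁ L₁' ⊔ Ug L₂ L₂' ⊔ zpowers u : Subgroup G) :=
  (pg_Tt u).to_le (sup_le (sup_le h1.le_T h2.le_T) (zpowers_le.2 h1.cl.mem))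

theorem Ad.transfer_of (hG : St G) (h : Ad q u L L') {v : G} {S : Subgroup G} (hv : Cl v)
    (hc : v ∈ centralizer (S : Set G)) (h1 : Ug L L' ≤ S) (h2 : u ∈ S) : Ad q v L L' :=
  h.transfer hG hv (hc u h2) fun b hb => mem_cen1.2 (hc b (h1 hb)).symm

theorem IsPair.exists_not_norm (h : IsPair q L L') :
    ∃ l ∈ L, l ∉ normalizer (Ug L L' : Set G) := by
  obtain ⟨n, h1, -, h2⟩ := h.exists_invol
  exact ⟨n, h1, h2⟩

theorem IsPair.R_sup_conj (h : IsPair q L L') {l : G} (hl : l ∈ L)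
    (hl' : l ∉ normalizer (Ug L L' : Set G)) : Rg L L' ⊔ conjS l (Rg L L') = wA L := by
  obtain ⟨F, _, _, -, ⟨hh⟩⟩ := h.exists_half
  rw [← h.R_eq]
  exact atom_sup_conj hh.a hl hl'

theorem Ad.root (h : Ad q u L L') : RootOn (wA L ⊔ zpowers u) (Ug L L') ∧
    ⁅wA L ⊔ zpowers u, Ug L L'⁆ = Rg L L' := by
  obtain ⟨F, _, _, -, ⟨hh⟩⟩ := h.pair.exists_half
  rw [← h.pair.R_eq]
  refine rootOn_of_atom hh.a (sup_eq_left.2 inf_le_left) h.elemY le_sup_left (fun y hy => ?_)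
    (h.pair.cenW.le.trans (le_sup_left.trans (elemAb_le_centralizer h.elemY)))
  rcases mem_sup_zp h.cl.sq (centralizer_le_normalizer _ h.mem_cenW) hy with e | e
  · exact ⟨_, inv_mem e, by simp⟩
  · exact ⟨_, inv_mem e, by simpa using h.mem_cenU⟩

theorem Ad.hat_eq (h : Ad q u L L') {Y H A M : Subgroup G} (hY : Y = wA L ⊔ zpowers u) (hL : L ≤ H)
    {F : Type} [Field F] (D : NatData F ⊤ M Y (cen Y M)) (h1 : A ⊔ cen H Y ≤ M)
    (h2 : D.img A = upU F) (h3 : D.ker = cen H Y)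
    (h4 : ∀ C ≤ H, RootOn Y C → (∃ l ∈ M, conjS l A ⊔ cen H Y = C ⊔ cen H Y) ∨ ⁅⁅Y, M⁆, C⁆ = ⊥)
    (h5 : ∃ l ∈ M, conjS l A ⊔ cen H Y = Ug L L' ⊔ cen H Y) : L ⊔ cen H Y = M := by
  have in1 : ∀ {C : Subgroup G}, (∃ l ∈ M, conjS l A ⊔ cen H Y = C ⊔ cen H Y) → C ≤ M :=
    fun ⟨l, hl, e⟩ => (le_sup_left.trans e.ge).trans
      (sup_le (conjS_le_of_le_of_mem (le_sup_left.trans h1) hl) (le_sup_right.trans h1))
  obtain ⟨r1, r2⟩ := h.root
  rw [← hY] at r1 r2
  obtain ⟨l, hl, hl'⟩ := h.pair.exists_not_norm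
  have hU := in1 h5
  have nR : ∀ {X : Subgroup G}, conjS l (Ug L L') ≤ X → ¬ X ≤ centralizer (Rg L L' : Set G) :=
    fun a b => h.pair.not_R_le (le_centralizer_iff.1 ((h.pair.sup_conj hl hl').ge.trans
      (sup_le (le_centralizer_iff.1 h.pair.R_le_cen) (a.trans b))))
  have hLM : L ≤ M := by
    refine (h.pair.sup_conj hl hl').ge.trans (sup_le hU ?_)
    refine (h4 _ (conjS_le_of_le_of_mem (h.pair.U_le.trans hL) (hL hl))
      (r1.conj (hY ▸ h.normY hl))).elim in1 fun e => (nR le_rfl ?_).elim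
    exact le_centralizer_iff.1 ((r2.ge.trans (commutator_mono le_rfl hU)).trans
      (le_centralizer_of_commutator e))
  obtain ⟨m, hm, e⟩ := h5
  have e1 : D.img (Ug L L') = conjS (D.φ m) (upU F) := by
    have := congrArg D.img e
    rwa [D.img_sup (conjS_le_of_le_of_mem (le_sup_left.trans h1) hm) (le_sup_right.trans h1),
      D.img_sup hU (le_sup_right.trans h1), ← h3, D.img_ker, sup_bot_eq, sup_bot_eq, D.img_conjS hm,
      h2, eq_comm] at this
  have e2 : (D.φ m)⁻¹ * D.φ l * D.φ m ∉ borel F := fun hb => by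
    rw [← mem_conjS, ← normalizer_upU, conjS_normalizer, ← e1, mem_normalizer_iff_conjS,
      ← D.img_conjS (hLM hl)] at hb
    refine nR (D.le_of_img_le (Y' := Ug L L' ⊔ cen H Y) (conjS_le_of_le_of_mem hU (hLM hl))
      (h3.le.trans le_sup_right) (hb.le.trans (D.img_mono le_sup_left)))
      (sup_le (le_centralizer_iff.1 h.pair.R_le_cen) (inf_le_right.trans (centralizer_anti ?_)))
    exact hY ▸ inf_le_left.trans le_sup_left
  refine le_antisymm (sup_le hLM (le_sup_right.trans h1))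
    (D.le_of_img_le le_rfl (h3.le.trans le_sup_right) (le_top.trans ?_))
  have e3 := congrArg (conjS (D.φ m)) (upU_sup_conjS e2)
  rw [conjS_top, conjS_sup, ← conjS_mul, show D.φ m * ((D.φ m)⁻¹ * D.φ l * D.φ m) = D.φ l * D.φ m by
    group, conjS_mul, ← e1, ← D.img_conjS (hLM hl)] at e3
  exact e3.ge.trans (sup_le (D.img_mono (h.pair.U_le.trans le_sup_left))
    (D.img_mono ((conjS_le_of_le_of_mem h.pair.U_le hl).trans le_sup_left)))

theorem Ad.eq_E (hG : St G) (h1 : Ad q u L₁ L₁') (h2 : Ad q u L₂ L₂') (e : wA L₂ = wA L₁) :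
    eA L₂ = eA L₁ := by
  obtain ⟨F₁, _, _, -, ⟨hh₁⟩⟩ := h1.pair.exists_half
  obtain ⟨F₂, _, _, -, ⟨hh₂⟩⟩ := h2.pair.exists_half
  obtain ⟨v, S, v1, v2, v3, v4⟩ := hG.exists_mh0 h1.pair.elem (h1.pg_two h2)
    ((le_sup_left.trans le_sup_left).trans le_sup_left)
    (sup_le (sup_le (h1.pair.U_le.trans h1.pair.normW) (h2.pair.U_le.trans (e ▸ h2.pair.normW)))
      (zpowers_le.2 (centralizer_le_normalizer _ h1.mem_cenW)))
  have hu : u ∈ S := v3 (mem_sup_right (mem_zpowers u))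
  have a1 := h1.transfer_of hG v1 v2 ((le_sup_left.trans le_sup_left).trans v3) hu
  have a2 := h2.transfer_of hG v1 v2 ((le_sup_right.trans le_sup_left).trans v3) hu
  set Y := wA L₁ ⊔ zpowers v with hY
  set H := normalizer (wA L₁ : Set G) ⊓ normalizer (Y : Set G)
  have hY2 : Y = wA L₂ ⊔ zpowers v := by rw [e]
  have l1 : L₁ ≤ H := le_inf a1.pair.normW a1.normY
  have l2 : L₂ ≤ H := le_inf (e ▸ a2.pair.normW) (hY2 ▸ a2.normY)
  have hv : v ∈ cen Y S := ⟨mem_sup_right (mem_zpowers v), v2⟩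
  have m : MH H S Y := ⟨v4, sup_le (a1.gen (le_nclIn _ _ hv) fun x hx =>
    conjS_le_nclIn (l1 (pResOf_le _ hx)) (conj_mem_conjS.2 hv)) (zpowers_le.2 (le_nclIn _ _ hv))⟩
  obtain ⟨M, -, F, _, _, _, D, d1, d2, d3, -, -, d4⟩ := m.comp a1.root.1 (a1.pair.U_le.trans l1)
  have d5 := fun C a b => (d4 C a b).imp_right fun c => c.2.1
  have b1 := a1.hat_eq hY l1 D d1 d2 d3 d5 ⟨1, one_mem _, by rw [conjS_one]⟩
  have b2 := a2.hat_eq hY2 l2 D d1 d2 d3 d5 ((d5 _ (a2.pair.U_le.trans l2)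
    (hY2 ▸ a2.root.1)).resolve_right fun c => hh₂.a.not_W_le_C (e.le.trans (hh₁.a.comm_WE.ge.trans
      ((commutator_mono le_sup_left ((pResOf_le _).trans (le_sup_left.trans b1.le))).trans
        (le_centralizer_of_commutator c)))))
  have c : cen H Y = centralizer (Y : Set G) := inf_eq_right.2 (le_inf
    ((centralizer_anti le_sup_left).trans (centralizer_le_normalizer _)) (centralizer_le_normalizer _))
  rw [c] at b1 b2
  exact a1.nx_eq hG a2 e (b2.trans b1.symm)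

theorem Ad.nt (hG : St G) (h : Ad q u L L') (ht : Commute u t) (hn : t ∈ normalizer (wA L : Set G)) :
    t ∈ normalizer (eA L : Set G) := by
  rw [mem_normalizer_iff_conjS, conjS_eA]
  exact h.eq_E hG (h.conj_of_comm ht) (by rw [← conjS_wA, mem_normalizer_iff_conjS.1 hn])

theorem Ad.eq_L (hG : St G) (h1 : Ad q u L₁ L₁') (h2 : Ad q u L₂ L₂') (e : wA L₂ = wA L₁)
    (e' : wA L₂' = wA L₁') : L₂ = L₁ := by
  rw [← h1.pair.E_sup, ← h2.pair.E_sup, h1.eq_E hG h2 e, Ug, Ug, e, e']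

theorem Ad.eq_of_U (hG : St G) (h1 : Ad q u L₁ L₁') (h2 : Ad q u L₂ L₂')
    (e : Ug L₂ L₂' = Ug L₁ L₁') : (L₂ = L₁ ∧ L₂' = L₁') ∨ (L₂ = L₁' ∧ L₂' = L₁) :=
  (h1.pair.W_cases h2.pair e).imp
    (fun a => ⟨h1.eq_L hG h2 a.1 a.2, h1.symm.eq_L hG h2.symm a.2 a.1⟩)
    fun a => ⟨h1.symm.eq_L hG h2 a.1 a.2, h1.eq_L hG h2.symm a.2 a.1⟩

/-- `L` normalizes `V` and `V ⟨u⟩` if `W ≤ V ≤ C_T(W)`. -/
theorem Ad.le_norm (h : Ad q u L L') {V : Subgroup G} (h1 : wA L ≤ V) (h2 : V ≤ cen (Tt u) (wA L)) :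
    eA L ≤ normalizer (V : Set G) ⊓ normalizer ((V ⊔ zpowers u : Subgroup G) : Set G) := by
  intro x hx
  have c : ∀ o ∈ cen (Tt u) (wA L), x * o * x⁻¹ * o⁻¹ ∈ V := fun o ho => by
    have := inv_mem (h.comm_mem ho.1 ho.2 hx)
    rw [commutatorElement_inv] at this
    exact h1 this
  have n : x ∈ normalizer (V : Set G) := mem_normalizer_of_conjS_le (conjS_le_iff_forall.2 fun o ho => by
    simpa using mul_mem (c o (h2 ho)) ho)
  exact ⟨n, norm_sup_zp n (c u ⟨h.cl.mem, h.mem_cenW⟩)⟩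

theorem Ad.samew (hG : St G) (h1 : Ad q u L₁ L₁') (h2 : Ad q u L₂ L₂')
    (hc : wA L₂ ≤ centralizer (wA L₁ : Set G)) (hR : Rg L₂ L₂' = Rg L₁ L₁')
    (hs : ∀ w ∈ wA L₂, ∃ a ∈ wA L₁, a * w ∈ centralizer (wA L₁' : Set G))
    (hn : ¬ wA L₂ ≤ centralizer (wA L₁' : Set G))
    (hN : wA L₂' ≤ normalizer ((wA L₁ ⊔ wA L₂ : Subgroup G) : Set G)) : wA L₂ = wA L₁ := by
  obtain ⟨F₁, _, _, -, ⟨hh₁⟩⟩ := h1.pair.exists_half
  have nW : wA L₁' ≤ normalizer (wA L₁ : Set G) := (le_sup_right.trans h1.pair.U_le).trans h1.pair.normW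
  have n1 : wA L₁' ≤ normalizer ((wA L₁ ⊔ wA L₂ : Subgroup G) : Set G) := fun b hb => by
    refine mem_normalizer_of_conjS_le ?_
    rw [conjS_sup, mem_normalizer_iff_conjS.1 (nW hb)]
    refine sup_le le_sup_left (conjS_le_iff_forall.2 fun w hw => ?_)
    obtain ⟨a, ha, e⟩ := hs w hw
    have : b * w * b⁻¹ = (b * a * b⁻¹)⁻¹ * (a * w) := by
      calc _ = (b * a * b⁻¹)⁻¹ * (b * (a * w) * b⁻¹) := by group
        _ = _ := by rw [e b hb, mul_inv_cancel_right]
    rw [this]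
    exact mul_mem (mem_sup_left (inv_mem (Cf.cjm (nW hb) ha))) (mul_mem (mem_sup_left ha) (mem_sup_right hw))
  obtain ⟨v, S, v1, v2, v3, v4⟩ := hG.exists_mh0
    (elemAb_sup h1.pair.elem h2.pair.elem (le_centralizer_iff.1 hc)) (h1.pg_two h2)
    ((sup_le_sup le_sup_left le_sup_left).trans le_sup_left)
    (sup_le (sup_le (sup_le (le_sup_left.trans le_normalizer) n1)
      (sup_le (le_sup_right.trans le_normalizer) hN)) (zpowers_le.2 (centralizer_le_normalizer _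
        (by rw [centralizer_sup]; exact ⟨h1.mem_cenW, h2.mem_cenW⟩))))
  have hu : u ∈ S := v3 (mem_sup_right (mem_zpowers u))
  have s1 : Ug L₁ L₁' ≤ S := (le_sup_left.trans le_sup_left).trans v3
  have s2 : Ug L₂ L₂' ≤ S := (le_sup_right.trans le_sup_left).trans v3
  have a1 := h1.transfer_of hG v1 v2 s1 hu
  have a2 := h2.transfer_of hG v1 v2 s2 hu
  set Y := wA L₁ ⊔ wA L₂ ⊔ zpowers v with hY
  set H := normalizer ((wA L₁ ⊔ wA L₂ : Subgroup G) : Set G) ⊓ normalizer (Y : Set G)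
  have l1 : L₁ ≤ H := a1.pair.E_sup.ge.trans (sup_le (a1.le_norm le_sup_left
    (sup_le a1.W_le_Q (le_inf a2.W_le_T hc))) (s1.trans v4.syl.le))
  have l2 : L₂ ≤ H := a2.pair.E_sup.ge.trans (sup_le (a2.le_norm le_sup_right
    (sup_le (le_inf a1.W_le_T (le_centralizer_iff.1 hc)) a2.W_le_Q)) (s2.trans v4.syl.le))
  obtain ⟨r1, r2⟩ := rootOn_of_atom hh₁.a (A := wA L₁') (Y := Y)
    (by rw [h1.pair.cenW, sup_comm]) v4.elem (le_sup_left.trans le_sup_left) (fun y hy => by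
      obtain ⟨x, hx, z, hz, rfl⟩ := (mem_sup_iff_of_right_le_normalizer (zpowers_le.2
        (centralizer_le_normalizer _ (centralizer_anti ((sup_le_sup le_sup_left le_sup_left).trans
          (le_sup_left.trans v3)) v2)))).1 hy
      obtain ⟨w, hw, w', hw', rfl⟩ := (mem_sup_iff_of_right_le_normalizer
        (hc.trans (centralizer_le_normalizer _))).1 hx
      obtain ⟨a, ha, e⟩ := hs w' hw'
      refine ⟨a * w⁻¹, mul_mem ha (inv_mem hw), ?_⟩
      rw [show a * w⁻¹ * (w * w' * z) = a * w' * z by group]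
      exact mul_mem e (zpowers_le.2 a1.symm.mem_cenW hz))
    (((inf_le_inf_right _ le_sup_right).trans h1.pair.cenW.le).trans
      ((le_sup_left.trans le_sup_left).trans (elemAb_le_centralizer v4.elem)))
  rw [h1.pair.R_eq] at r2
  have r3 : ∀ l ∈ H, ⁅Y, conjS l (wA L₁')⁆ = conjS l (Rg L₁ L₁') := fun l hl => by
    rw [← r2, conjS_commutator, mem_normalizer_iff_conjS.1 hl.2]
  obtain ⟨x, x1, x2⟩ := h1.pair.exists_not_norm
  obtain ⟨y, y1, y2⟩ := h2.pair.exists_not_norm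
  have := v4.same r1 ((le_sup_right.trans h1.pair.U_le).trans l1) (l1 x1) (l2 y1)
    (atom_not_pg hh₁.a le_sup_right h1.pair.symm.not_le x1 x2 (conjS_mono le_sup_right) fun c =>
      h1.pair.symm.not_le (by
        rwa [← mem_normalizer_iff_conjS.1 (le_normalizer_centralizer h1.pair.normW x1),
          conjS_le_conjS_iff] at c))
  rw [r2, r3 x (l1 x1), r3 y (l2 y1), h1.pair.R_sup_conj x1 x2] at this
  rcases this with c | c
  · refine eq_of_le_of_card_ge ((h2.pair.R_sup_conj y1 y2).ge.trans ?_) ?_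
    · rw [hR]; exact sup_le inf_le_left c
    · rw [h1.pair.card_W, h2.pair.card_W, hR]
  · refine (hn ((h2.pair.R_sup_conj (inv_mem y1) fun d => y2 (inv_mem_iff.1 d)).ge.trans ?_)).elim
    rw [hR]
    refine sup_le (h1.pair.R_le_cen.trans (centralizer_anti le_sup_right)) ?_
    rw [← le_conjS_iff, conjS_centralizer]
    exact inf_le_left.trans (le_centralizer_of_commutator c)

theorem Ad.comm_aux (hG : St G) (h1 : Ad q u L₁ L₁') (h2 : Ad q u L₂ L₂')
    (hc : Ug L₂ L₂' ≤ centralizer (Ug L₁ L₁' : Set G)) :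
    eA L₁ ≤ normalizer (eA L₂ : Set G) ⊓ centralizer (wA L₂ : Set G) := by
  have c1 : Ug L₂ L₂' ≤ centralizer (wA L₁ : Set G) := hc.trans (centralizer_anti le_sup_left)
  have c2 : wA L₁ ≤ centralizer (Ug L₂ L₂' : Set G) := le_centralizer_iff.1 c1
  have c3 : ⁅Ug L₂ L₂', eA L₁⁆ ≤ wA L₁ := (commutator_mono (le_inf h2.le_T c1) le_rfl).trans h1.uq
  have c4 : Rg L₂ L₂' ≤ centralizer (eA L₁ : Set G) := by
    rw [← h2.pair.commU]
    exact commutator_le.2 fun x hx y hy =>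
      Atom.comm_cen_of c3 c1 (elemAb_le_centralizer h1.pair.elem) hx hy
  have key : ∀ e ∈ eA L₁, e ∈ normalizer (wA L₂ : Set G) ∧ e ∈ normalizer (eA L₂ : Set G) := by
    intro e he
    have hw := h1.conj_mul_mem (pResOf_le _ he)
    have ev : e * u * e⁻¹ = e * u * e⁻¹ * u * u := by rw [mul_assoc _ u u, h1.cl.sq, mul_one]
    have a2 : Ad q (e * u * e⁻¹) L₂ L₂' := h2.transfer hG (h1.cl.conj e)
      (by rw [ev]; exact (h1.comm_U (mem_sup_left hw)).mul_right rfl)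
      fun b hb => mem_cen1.2 (by rw [ev]; exact Commute.mul_left (c2 hw b hb).symm (h2.comm_U hb))
    have b2 := h2.conj e
    have cm : ∀ w ∈ Ug L₂ L₂', w⁻¹ * (e * w * e⁻¹) ∈ wA L₁ := fun w hw => by
      simpa [commutatorElement_def, mul_assoc] using c3 (commutator_mem_commutator (inv_mem hw) he)
    have le : ∀ {X Z : Subgroup G}, X ≤ Ug L₂ L₂' → X ≤ Z → wA L₁ ≤ Z → conjS e X ≤ Z :=
      fun a b c => conjS_le_iff_forall.2 fun w hw => by simpa using mul_mem (b hw) (c (cm w (a hw)))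
    have e1 : wA (conjS e L₂) = wA L₂ := by
      refine a2.samew hG b2 ?_ ?_ ?_ ?_ ?_ <;> simp only [← conjS_wA, ← conjS_Rg]
      · exact le le_sup_left (elemAb_le_centralizer h2.pair.elem) (c2.trans (centralizer_anti le_sup_left))
      · exact mem_normalizer_iff_conjS.1 (centralizer_le_normalizer _ (le_centralizer_iff.1 c4 he))
      · intro w' hw'
        obtain ⟨w, hw, rfl⟩ := exists_of_mem_conjS hw'
        exact ⟨_, inv_mem hw, centralizer_anti le_sup_right (c2 (cm w (mem_sup_left hw)))⟩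
      · refine fun c => h2.pair.not_le fun w hw => ?_
        rw [show w = e * w * e⁻¹ * (w⁻¹ * (e * w * e⁻¹))⁻¹ by group]
        exact mul_mem (c (conj_mem_conjS.2 hw))
          (inv_mem (centralizer_anti le_sup_right (c2 (cm w (mem_sup_left hw)))))
      · have n : wA L₂' ≤ normalizer (wA L₂ : Set G) :=
          (le_sup_right.trans h2.pair.U_le).trans h2.pair.normW
        refine le_normalizer_sup (le le_sup_right n ((c2.trans (centralizer_anti le_sup_left)).trans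
          (centralizer_le_normalizer _))) ?_
        rw [← conjS_normalizer]
        exact conjS_mono n
    rw [mem_normalizer_iff_conjS, mem_normalizer_iff_conjS, conjS_wA, conjS_eA]
    exact ⟨e1, a2.eq_E hG b2 e1⟩
  refine le_inf (fun e he => (key e he).2) ?_
  have n : eA L₁ ≤ normalizer (wA L₂ : Set G) := fun e he => (key e he).1
  have := pResOf_le_centralizer_of_le (X := Rg L₂ L₂') (elemAb_isPGroup h2.pair.elem) n
  rw [pResOf_pResOf] at this
  refine this ?_ (le_centralizer_iff.1 c4)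
  rw [← h2.pair.R_eq]
  exact le_inf (commutator_le_left_of_le_normalizer n)
    (((commutator_mono le_sup_left le_rfl).trans c3).trans c2)

theorem Ad.comm_aux' (hG : St G) (h1 : Ad q u L₁ L₁') (h2 : Ad q u L₂ L₂')
    (hc : Ug L₂ L₂' ≤ centralizer (Ug L₁ L₁' : Set G)) : eA L₁ ≤ centralizer (Kg L₂ L₂' : Set G) := by
  have a := h1.comm_aux hG h2 hc
  have b := h1.comm_aux hG h2.symm (by rwa [Ug_comm])
  have c : eA L₁ ≤ centralizer (Ug L₂ L₂' : Set G) := by
    rw [centralizer_sup]; exact le_inf (a.trans inf_le_right) (b.trans inf_le_right)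
  have d := h2.pair.res_le_cen (a.trans inf_le_left) c
  have e := h2.pair.symm.res_le_cen (b.trans inf_le_left) (by rwa [Ug_comm])
  rw [pResOf_pResOf] at d e
  rw [centralizer_sup]
  exact le_inf (d.trans (centralizer_anti (pResOf_le _))) (e.trans (centralizer_anti (pResOf_le _)))

theorem Ad.comm (hG : St G) (h1 : Ad q u L₁ L₁') (h2 : Ad q u L₂ L₂')
    (hc : ⁅Ug L₁ L₁', Ug L₂ L₂'⁆ = ⊥) : ⁅Kg L₁ L₁', Kg L₂ L₂'⁆ = ⊥ := by
  have c := le_centralizer_iff.1 (le_centralizer_of_commutator hc)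
  exact commutator_eq_bot_iff_le_centralizer.2
    (sup_le (h1.comm_aux' hG h2 c) (h1.symm.comm_aux' hG h2 (by rwa [Ug_comm L₁'])))

end CfsgLib.Baum
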