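import Mathlib
import Cfsg.Agent.Lib.Baum.PairB
import Cfsg.Agent.Lib.Baum.Tr2

/-! Large fields: field automorphisms. -/

set_option autoImplicit false

namespace CfsgLib.Baum

open Subgroup Cfsg CfsgLib.LAE CfsgLib.PLocal CfsgLib.Push CfsgLib.BHS CfsgLib.ZJ CfsgLib.SL2
  CfsgLib.Blocks CfsgLib.LocStr CfsgLib.CGT2
open scoped commutatorElement


variable {G : Type*} [Group G] [Finite G]

variable {q : ℕ} {u y t : G} {L L' : Subgroup G}

omit [Finite G] in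
theorem b1_pg (hy : y * y = 1) : IsPGroup 2 (zpowers y) := isPGroup_iff_forall_mem.2 (by
  rintro _ ⟨n, rfl⟩
  exact ⟨1, by rw [← zpow_natCast, ← zpow_mul, mul_comm, zpow_mul, zpow_natCast, pow_one, sq, hy, one_zpow]⟩)

theorem IsPair.norm_W (h : IsPair q L L') (ht : t ∈ normalizer (L : Set G)) : t ∈ normalizer (wA L : Set G) := by
  obtain ⟨F, _, _, -, ⟨H⟩⟩ := h.exists_half
  exact H.a.norm_W (H.a.norm_E ht)

theorem IsPair.comm_le (h : IsPair q L L') (h2 : 2 < q) (h3 : t ∈ normalizer (L : Set G))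
    (h5 : t ∈ centralizer (wA L : Set G)) {l : G} (hl : l ∈ L) : ⁅l, t⁆ ∈ wA L := by
  obtain ⟨F, _, _, -, ⟨H⟩⟩ := h.exists_half
  exact H.a.comm_le_of_cen (zpowers_le.2 (H.a.norm_E h3)) (zpowers_le.2 h5)
    (commutator_mem_commutator ((h.big h2).ge hl) (mem_zpowers t))


theorem IsPair.cenW_split (h : IsPair q L L') (h2 : 2 < q) (hp : IsPGroup 2 (zpowers t))
    (h3 : t ∈ normalizer (L : Set G)) (h4 : t ∈ normalizer (L' : Set G))
    (h5 : t ∈ centralizer (wA L : Set G)) :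
    ∃ w ∈ wA L, t * w ∈ centralizer (Ug L L' : Set G) := by
  obtain ⟨F, _, _, -, ⟨H⟩⟩ := h.symm.exists_half
  obtain ⟨c⟩ := H.exists_coord
  have hN := PB.mem_NN H h4 (h.symm.norm_U (h.symm.norm_W h4) (h.norm_W h3))
  obtain ⟨b, hb, m⟩ := PB.of_lin H c hN hp (c.σ_eq_of_α hN fun a ha => (PB.α_eq H c
    (LAE.conj_mem_of_mem_normalizer hN.2 ha) ha).2 ⟨mul_mem (LAE.conj_mem_of_mem_normalizer hN.2 ha) ha, by
      have := inv_mem (h.comm_le h2 h3 h5 (h.U_le (mem_sup_right ha)))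
      rwa [commutatorElement_inv, commutatorElement_def, inv_eq_of_mul_eq_one_right (PB.sq_W H ha)] at this⟩)
  obtain ⟨w, hw, w', hw', rfl⟩ := h.exists_mul (Ug_comm L' L ▸ hb)
  refine ⟨w, hw, (centralizer_sup _ _).ge ⟨mul_mem h5 fun x hx => (elemAb_iff.1 h.elem).1 x hx w hw, ?_⟩⟩
  rw [← mul_assoc] at m
  exact (Subgroup.mul_mem_cancel_right _ (show w' ∈ centralizer (wA L' : Set G) from
    fun x hx => PB.comm_W H hx hw')).1 m

theorem b1_card_le_sq {X : Subgroup G} (he : IsElementaryAbelian 2 X) (hy : y * y = 1)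
    (hn : y ∈ normalizer (X : Set G)) : Nat.card X ≤ Nat.card (cen X (zpowers y)) ^ 2 := by
  have cm := (elemAb_iff.1 he).1
  have hi : y⁻¹ = y := inv_eq_of_mul_eq_one_right hy
  have mem : ∀ x ∈ X, x ∈ cen X (zpowers y) ↔ y * x * y⁻¹ = x := fun x hx =>
    ⟨fun h => by rw [h.2 y (mem_zpowers y), mul_inv_cancel_right], fun h => ⟨hx, by
      rintro _ ⟨n, rfl⟩
      exact ((show Commute y x from mul_inv_eq_iff_eq_mul.1 h).zpow_left n).eq⟩⟩
  let φ : X →* cen X (zpowers y) := MonoidHom.mk' (fun x => ⟨x * (y * x * y⁻¹),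
      (mem _ (mul_mem x.2 (LAE.conj_mem_of_mem_normalizer hn x.2))).2 (by
        rw [← conj_mul, cm _ x.2 _ (LAE.conj_mem_of_mem_normalizer hn x.2), hi, ← mul_assoc y, ← mul_assoc y, hy,
          one_mul, mul_assoc (x : G) y y, hy, mul_one])⟩) fun a b => Subtype.ext (by
    simp only [coe_mul]
    rw [← conj_mul, mul_assoc, mul_assoc (a : G), ← mul_assoc (b : G),
      cm _ b.2 _ (LAE.conj_mem_of_mem_normalizer hn a.2), mul_assoc (y * a * y⁻¹)])
  have h1 : Nat.card φ.ker ≤ Nat.card (cen X (zpowers y)) :=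
    Nat.card_le_card_of_injective (fun x => ⟨x.1.1, (mem _ x.1.2).2 (by
      have e : (x.1 : G) * (y * x.1 * y⁻¹) = 1 := congrArg Subtype.val x.2
      exact mul_left_cancel (e.trans (comm_of_elem he x.1.2).symm))⟩)
      fun a b e => Subtype.ext (Subtype.ext (congrArg (fun z : cen X (zpowers y) => (z : G)) e))
  rw [← φ.ker.card_mul_index, index_ker, sq]
  exact Nat.mul_le_mul h1 (card_le_card_group _)

theorem b1_fix {F : Type} [Field F] [Fintype F] {U W W' : Subgroup G} (h : Half F U L W W W')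
    (h2 : 2 < Fintype.card F) (hy : y * y = 1) (h3 : y ∈ normalizer (L : Set G))
    (h4 : y ∈ normalizer (U : Set G)) (h5 : ∀ b ∈ U, y * b ∉ centralizer (W : Set G)) {X : Subgroup G}
    (he : IsElementaryAbelian 2 X) (hn : y ∈ normalizer (X : Set G)) (hc : Nat.card X = Nat.card W) :
    ∃ a ∈ X, a ∉ W ⊓ W' ∧ Commute y a := by
  by_contra hne
  have hle : cen X (zpowers y) ≤ W ⊓ W' := fun a ha => by_contra fun h' =>
    hne ⟨a, ha.1, h', ha.2 y (mem_zpowers y)⟩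
  obtain ⟨c⟩ := h.exists_coord
  have hN := PB.mem_NN h h3 h4
  have hσ : ∃ t, c.σ y t ≠ t := by_contra fun e => by
    obtain ⟨b, hb, m⟩ := PB.of_lin h c hN (b1_pg hy) (by simpa using e)
    exact h5 b hb m
  have a1 := b1_card_le_sq he hy hn
  have a2 := half_card_le_coord c.δ c.δ_mul c.δ_zero hle (P := fun t => c.γ y * c.ε y * c.σ y t = t) fun d hd => by
    rw [← c.δ_conj y hN d (hle hd), hd.2 y (mem_zpowers y), mul_inv_cancel_right]
  have a3 := card_fix_sq_le hσ (c.γ y * c.ε y)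
  have a4 : Nat.card (cen W L ⊓ cen X (zpowers y) : Subgroup G) ≤ Nat.card (cen (cen W L) (zpowers y)) :=
    card_le_of_le fun x hx => ⟨hx.1, hx.2.2⟩
  have a5 := half_card_fix h h2 hy h3 h4 h5
  have a6 : Nat.card (cen (cen W L) (zpowers y)) ≤ Nat.card (cen W L) := card_le_of_le inf_le_left
  have a7 : 0 < Nat.card (cen W L) := Nat.card_pos
  rw [hc, h.card_A] at a1
  generalize Nat.card (cen X (zpowers y)) = m at *
  generalize Nat.card {t : F // c.γ y * c.ε y * c.σ y t = t} = f at *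
  generalize Nat.card (cen W L ⊓ cen X (zpowers y) : Subgroup G) = k at *
  generalize Nat.card (cen (cen W L) (zpowers y)) = k' at *
  generalize Nat.card (cen W L) = z at *
  generalize Fintype.card F = q at *
  have b1 : m ^ 2 ≤ q * (k' * k') := by
    calc m ^ 2 ≤ (f * k') ^ 2 := Nat.pow_le_pow_left (a2.trans (Nat.mul_le_mul_left _ a4)) 2
      _ = f ^ 2 * (k' * k') := by ring
      _ ≤ _ := Nat.mul_le_mul_right _ a3
  have b2 : k' * k' < q * z := lt_of_le_of_lt (Nat.mul_le_mul_left _ a6) (Nat.mul_lt_mul_of_pos_right a5 a7)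
  have b3 : q * (k' * k') < q * (q * z) := Nat.mul_lt_mul_of_pos_left b2 (by omega)
  have : q ^ 2 * z = q * (q * z) := by ring
  omega


theorem half_fld {F : Type} [Field F] [Fintype F] {U W W' : Subgroup G} (h : Half F U L W W W')
    (h2 : 2 < Fintype.card F) (hy : y * y = 1) (h3 : y ∈ normalizer (L : Set G))
    (h4 : y ∈ normalizer (U : Set G)) (h5 : ∀ b ∈ U, y * b ∉ centralizer (W : Set G)) :
    (∃ a ∈ W', a ∉ W ∧ Commute y a) ∧
      ∃ e ∈ L, e ∉ normalizer (U : Set G) ∧ y ∈ normalizer (conjS e U : Set G) := by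
  have hW := (PB.mem_NN h h3 h4).2
  obtain ⟨a, ha, ha', hc⟩ := b1_fix h h2 hy h3 h4 h5 h.elemA' (h.norm_A' h4 hW) h.card_eq
  refine ⟨⟨a, ha, fun e => ha' ⟨e, ha⟩, hc⟩, ?_⟩
  obtain ⟨w, hw, hw', hc⟩ := b1_fix h h2 hy h3 h4 h5 h.elemA hW rfl
  obtain ⟨e, he, m⟩ := h.exists_conj hw
  have he := h.a.EL he
  refine ⟨e⁻¹, inv_mem he, fun hn => hw' ?_, ?_⟩
  · simpa [mul_assoc] using LAE.conj_mem_of_mem_normalizer (h.norm_D hn) m
  have hl : e * (y * e⁻¹ * y⁻¹) ∈ L := mul_mem he (LAE.conj_mem_of_mem_normalizer h3 (inv_mem he))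
  have hn : e * (y * e⁻¹ * y⁻¹) ∈ normalizer (U : Set G) := by_contra fun hn => by
    have m1 : e * w * e⁻¹ ∈ cen W L := (h.inf_conj hl hn).le ⟨m, mem_conjS.2 (by
      have := LAE.conj_mem_of_mem_normalizer (h.norm_D h4) m
      rwa [show y * (e * w * e⁻¹) * y⁻¹ = y * e * y⁻¹ * (y * w) * y⁻¹ * (y * e⁻¹ * y⁻¹) by group, hc.eq,
        show y * e * y⁻¹ * (w * y) * y⁻¹ * (y * e⁻¹ * y⁻¹) =
          (e * (y * e⁻¹ * y⁻¹))⁻¹ * (e * w * e⁻¹) * (e * (y * e⁻¹ * y⁻¹)) by group] at this)⟩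
    have := PB.fix_of (PB.L_cen (inv_mem he)) m1
    rw [show e⁻¹ * (e * w * e⁻¹) * e⁻¹⁻¹ = w by group] at this
    exact hw' (this ▸ h.Z_le m1)
  rw [← conjS_normalizer, mem_conjS, show e⁻¹⁻¹ * y * e⁻¹ = e * (y * e⁻¹ * y⁻¹) * y by group]
  exact mul_mem hn h4

theorem Ad.mem_of_lin (hG : St G) (h : Ad q u L L') (h2 : 2 < q) (ht : t ∈ Tt u)
    (h3 : t ∈ normalizer (wA L' : Set G)) {b : G} (hb : b ∈ Ug L L')
    (h4 : t * b ∈ centralizer (wA L : Set G)) : t ∈ Ug L L' ⊔ centralizer (Kg L L' : Set G) := by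
  have p := h.pair
  have hs := mul_mem ht (h.le_T hb)
  have hc := comm_of_mem_Tt hs
  have n1 := h.nt hG hc (centralizer_le_normalizer _ h4)
  have n2 := h.symm.nt hG hc (mul_mem h3 (p.symm.normW (p.symm.U_le (Ug_comm L L' ▸ hb))))
  rw [p.big h2] at n1
  rw [p.symm.big h2] at n2
  obtain ⟨w, hw, m⟩ := p.cenW_split h2 ((pg_Tt u).to_le (zpowers_le.2 hs)) n1 n2 h4
  obtain ⟨r, hr, m'⟩ := h.cen_split h2 (mul_mem hs (h.le_T (mem_sup_left hw))) m
  rw [show t = t * b * w * r * (b * w * r)⁻¹ by group]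
  exact mul_mem (mem_sup_right m') (mem_sup_left (inv_mem (mul_mem (mul_mem hb (mem_sup_left hw)) (mem_sup_left hr.1))))

theorem Ad.bstar (hG : St G) (h : Ad q u L L') (h2 : 2 < q) (hy : Cl y)
    (h3 : y ∈ normalizer (wA L : Set G)) (h4 : y ∈ normalizer (wA L' : Set G))
    (hp : IsPGroup 2 (Ug L L' ⊔ zpowers u ⊔ zpowers y : Subgroup G)) :
    y ∈ Ug L L' ⊔ centralizer (Kg L L' : Set G) := by
  obtain ⟨v, hv, hle⟩ := hG.exists_le hp
  have hU : Ug L L' ≤ Tt v := (le_sup_left.trans le_sup_left).trans hle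
  have hyv : y ∈ Tt v := hle (mem_sup_right (mem_zpowers y))
  have h' := h.transfer hG hv (comm_of_mem_Tt (hle (mem_sup_left (mem_sup_right (mem_zpowers u))))).symm
    (hU.trans (Tt_le v))
  by_contra hne
  have h5 : ∀ b ∈ Ug L L', y * b ∉ centralizer (wA L : Set G) := fun b hb m => hne (h'.mem_of_lin hG h2 hyv h4 hb m)
  have p := h.pair
  have nL := h'.nt hG (comm_of_mem_Tt hyv) h3
  rw [p.big h2] at nL
  have nU := p.norm_U h3 h4
  obtain ⟨F, _, _, hF, ⟨H⟩⟩ := p.exists_half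
  obtain ⟨⟨a, ha, ha', hc⟩, e, he, he', hn⟩ := half_fld H (hF ▸ h2) hy.sq nL nU h5
  obtain ⟨H'⟩ := H.nonempty_conj e
  rw [conjS_eq_of_mem he, mem_normalizer_iff_conjS.1 (p.normW he)] at H'
  obtain ⟨⟨a₂, ha₂, ha₂', hc₂⟩, -⟩ := half_fld H' (hF ▸ h2) hy.sq nL hn fun b hb m => by
    have hbL := H'.a.le hb
    have n1 : y * b ∈ normalizer (Ug L L' : Set G) := mem_normalizer_fintype fun x hx => by
      have := mul_mem (inv_mem (mem_sup_left (p.comm_le h2 (mul_mem nL (le_normalizer hbL)) m (p.U_le hx)) :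
        _ ∈ Ug L L')) hx
      rwa [commutatorElement_inv, commutatorElement_def, inv_mul_cancel_right] at this
    have n2 := (Subgroup.mul_mem_cancel_left _ nU).1 n1
    by_cases hb' : b ∈ centralizer (wA L : Set G)
    · exact h5 1 (one_mem _) (by rw [mul_one]; exact (Subgroup.mul_mem_cancel_right _ hb').1 m)
    · exact atom_not_pg H.a le_rfl H.a.not_B_le he he' (zpowers_le.2 hb) (fun e => hb' (zpowers_le.1 e))
        (sup_comm (zpowers b) _ ▸ isPGroup_sup (H'.a.two.to_le (zpowers_le.2 hb)) p.pg (zpowers_le.2 n2))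
  exact atom_not_pg H.a (zpowers_le.2 (H.A'_le ha)) (fun e => ha' (H.mem_A (H.A'_le ha) (zpowers_le.1 e))) he he'
    (zpowers_le.2 (H'.A'_le ha₂)) (fun e => ha₂' (H'.mem_A (H'.A'_le ha₂) (zpowers_le.1 e)))
    ((pg_Tt y).to_le (sup_le (zpowers_le.2 (hy.mem_Tt_of_sq (comm_of_elem H.elemA' ha) hc))
      (zpowers_le.2 (hy.mem_Tt_of_sq (comm_of_elem H'.elemA' ha₂) hc₂))))

theorem Ad.adj_aux (hG : St G) (h : Ad q u L L') (hy : Cl y) {b c : G} (hb : b ∈ wA L)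
    (hc : c ∈ centralizer (Kg L L' : Set G)) (hc2 : c * c = 1) (e : y = b * c)
    (hp : IsPGroup 2 (zpowers u ⊔ zpowers y : Subgroup G)) : ∃ L₅', Ad q y L L₅' ∧ Kg L L₅' = Kg L L' := by
  have p := h.pair
  obtain ⟨k, hk, m⟩ := p.exists_conj hb
  obtain ⟨r, hr, hcu⟩ := h.exists_c
  have rU : ∀ x ∈ Rg L L', x ∈ Ug L L' := fun x hx => mem_sup_left hx.1
  have cu := h.comm_U (rU r hr)
  have r2 := comm_of_elem p.elem hr.1
  have eu : u = r * (u * r) := by rw [cu.eq, ← mul_assoc, r2, one_mul]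
  have kK : k ∈ Kg L L' := mem_sup_left hk
  have ey : k * y * k⁻¹ = k * b * k⁻¹ * c := by rw [e, ← conj_mul, hc k kK, mul_inv_cancel_right]
  have p1 := pg_cpart (p.U_le_K (rU r hr)) (p.U_le_K (mem_sup_left hb)) hcu hc
    (by rw [mul_assoc, ← eu, h.cl.sq]) hc2 (by rwa [← eu, ← e])
  have p2 := isPGroup_sup p1 (p.pg.to_le rU) (le_trans (sup_le (zpowers_le.2 hcu) (zpowers_le.2 hc))
    ((centralizer_anti fun x hx => p.U_le_K (rU x hx)).trans (centralizer_le_normalizer _)))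
  have h1 := h.chain hG (hy.conj k) (p2.to_le (sup_le (zpowers_le.2 ?_) (zpowers_le.2 ?_))) fun x hx => ?_
  · have h2 := h1.conj k⁻¹
    have kL : k⁻¹ ∈ L := inv_mem (p.E_sup.le (mem_sup_left hk))
    have := conjS_Kg k⁻¹ L L'
    rw [conjS_eq_of_mem (inv_mem kK), conjS_eq_of_mem kL] at this
    rw [show k⁻¹ * (k * y * k⁻¹) * k⁻¹⁻¹ = y by group, conjS_eq_of_mem kL] at h2
    exact ⟨_, h2, this.symm⟩
  · have := mul_mem (mem_sup_right hr : r ∈ zpowers (u * r) ⊔ zpowers c ⊔ Rg L L')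
      (mem_sup_left (mem_sup_left (mem_zpowers (u * r))))
    rwa [← eu] at this
  · rw [ey]
    exact mul_mem (mem_sup_right m) (mem_sup_left (mem_sup_right (mem_zpowers _)))
  · rw [mem_centralizer_singleton_iff, ey, ← mul_assoc, p.R_le_cen m x hx, mul_assoc, hc x (p.U_le_K hx), mul_assoc _ c x]


theorem Ad.adj (hG : St G) (h : Ad q u L L') (hy : Cl y)
    (h3 : y ∈ Ug L L' ⊔ centralizer (Kg L L' : Set G))
    (hp : IsPGroup 2 (zpowers u ⊔ zpowers y : Subgroup G)) :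
    ∃ L₅ L₅', Ad q y L₅ L₅' ∧ Kg L₅ L₅' = Kg L L' ∧ (wA L₅ = wA L ∨ wA L₅' = wA L') := by
  obtain ⟨b, hb | hb, c, hc, hc2, e⟩ := h.pair.invol h3 hy.sq
  · obtain ⟨L₅', h1, h2⟩ := h.adj_aux hG hy hb hc hc2 e hp
    exact ⟨L, L₅', h1, h2, .inl rfl⟩
  · obtain ⟨L₅, h1, h2⟩ := h.symm.adj_aux hG hy hb (Kg_comm L L' ▸ hc) hc2 e hp
    exact ⟨L₅, L', h1.symm, by rw [Kg_comm, h2, Kg_comm], .inr rfl⟩

end CfsgLib.Baum
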