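import Mathlib
import Cfsg.Agent.Lib.Baum.Big1

/-! Large fields: pairs normalizing each other. -/

set_option autoImplicit false

namespace CfsgLib.Baum

open Subgroup Cfsg CfsgLib.LAE CfsgLib.PLocal CfsgLib.Push CfsgLib.BHS CfsgLib.ZJ CfsgLib.SL2
  CfsgLib.Blocks CfsgLib.LocStr CfsgLib.CGT2
open scoped commutatorElement


variable {G : Type*} [Group G] [Finite G]

variable {q : ℕ} {u : G} {L₁ L₁' L₂ L₂' : Subgroup G}

theorem b2_noswap (h1 : IsPair q L₁ L₁') (h2 : IsPair q L₂ L₂') (hq : 2 < q)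
    (n1 : Ug L₁ L₁' ≤ normalizer (Ug L₂ L₂' : Set G))
    (n2 : Ug L₂ L₂' ≤ normalizer (Ug L₁ L₁' : Set G)) : wA L₂ ≤ normalizer (wA L₁ : Set G) := fun a ha => by
  refine ((h1.conj_cases (n2 (mem_sup_left ha))).resolve_right fun hs => ?_).1
  have hc := half_card_le_two (H := normalizer (wA L₂ : Set G)) (K := wA L₁) fun x hx y hy hx' hy' => by
    have e1 := (h2.conj_cases (n1 (mem_sup_left hx))).resolve_left fun e => hx' e.1
    have e2 := (h2.conj_cases (n1 (mem_sup_left hy))).resolve_left fun e => hy' e.1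
    rw [mem_normalizer_iff_conjS, conjS_mul, e2.1, e1.2]
  have hn : ¬ normalizer (wA L₂ : Set G) ⊓ wA L₁ ≤ Rg L₁ L₁' := fun hle => by
    have := card_le_of_le hle
    have h0 : 0 < Nat.card (Rg L₁ L₁') := Nat.card_pos
    rw [h1.card_W] at hc
    nlinarith
  obtain ⟨w, ⟨hw, hw1⟩, hw'⟩ := SetLike.not_le_iff_exists.1 hn
  have m : a * w * a⁻¹ ∈ wA L₁' := hs.1 ▸ conj_mem_conjS.2 hw1
  have w2 := comm_of_elem h1.elem hw1
  have m2 : w * (a * w * a⁻¹) ∈ wA L₂ := by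
    have := mul_mem (LAE.conj_mem_of_mem_normalizer hw ha) (inv_mem ha)
    rwa [inv_eq_of_mul_eq_one_right w2, mul_assoc, mul_assoc, ← mul_assoc a] at this
  have e := comm_of_elem h2.elem m2
  have w3 := comm_of_elem h1.symm.elem m
  have hcm : Commute w (a * w * a⁻¹) := by
    generalize a * w * a⁻¹ = v at e w3
    rw [Commute, SemiconjBy, eq_inv_of_mul_eq_one_left e, mul_inv_rev, inv_eq_of_mul_eq_one_right w2,
      inv_eq_of_mul_eq_one_right w3]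
  have m3 := h1.mem_of_commute hw1 hw' (mem_sup_right m) hcm
  exact hw' ⟨hw1, conj_mem_conjS.1 (hs.2.symm ▸ m3)⟩


theorem IsPair.noswap (h1 : IsPair q L₁ L₁') (h2 : IsPair q L₂ L₂') (hq : 2 < q)
    (n1 : Ug L₁ L₁' ≤ normalizer (Ug L₂ L₂' : Set G))
    (n2 : Ug L₂ L₂' ≤ normalizer (Ug L₁ L₁' : Set G)) :
    Ug L₂ L₂' ≤ normalizer (wA L₁ : Set G) :=   sup_le (b2_noswap h1 h2 hq n1 n2)
    (b2_noswap h1 h2.symm hq (Ug_comm L₂ L₂' ▸ n1) (Ug_comm L₂ L₂' ▸ n2))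

theorem Ad.le_sup_cen (hG : St G) (h1 : Ad q u L₁ L₁') (h2 : Ad q u L₂ L₂') (hq : 2 < q)
    (n1 : Ug L₁ L₁' ≤ normalizer (Ug L₂ L₂' : Set G))
    (n2 : Ug L₂ L₂' ≤ normalizer (Ug L₁ L₁' : Set G)) :
    Ug L₂ L₂' ≤ Ug L₁ L₁' ⊔ centralizer (Kg L₁ L₁' : Set G) := h2.gen' fun y hy hc => by
  have a1 := h1.pair.noswap h2.pair hq n1 n2
  have a2 := h1.pair.symm.noswap h2.pair hq (Ug_comm L₁ L₁' ▸ n1) (Ug_comm L₁ L₁' ▸ n2)
  have cu : u ∈ centralizer (Ug L₁ L₁' : Set G) := fun b hb => (h1.comm_U hb).eq.symm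
  exact h1.bstar hG hq hc
    (sup_le a1 (zpowers_le.2 (centralizer_le_normalizer _ (centralizer_anti le_sup_left cu))) hy)
    (sup_le a2 (zpowers_le.2 (centralizer_le_normalizer _ (centralizer_anti le_sup_right cu))) hy)
    ((pg_Tt u).to_le (sup_le (sup_le h1.le_T (zpowers_le.2 h1.cl.mem))
      (zpowers_le.2 (sup_le h2.le_T (zpowers_le.2 h1.cl.mem) hy))))

/-- Every element of `X` is a product of an element of `W` and an element of `C(K)`. -/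
def B2Sub (X W K : Subgroup G) : Prop := ∀ x ∈ X, ∃ b ∈ W, ∃ c ∈ centralizer (K : Set G), x = b * c

theorem b2_cases (h : IsPair q L₁ L₁') {X : Subgroup G} (he : IsElementaryAbelian 2 X)
    (hX : X ≤ Ug L₁ L₁' ⊔ centralizer (Kg L₁ L₁' : Set G)) :
    B2Sub X (wA L₁) (Kg L₁ L₁') ∨ B2Sub X (wA L₁') (Kg L₁ L₁') := by
  have hn : ∀ W ≤ Ug L₁ L₁', W ≤ normalizer ((centralizer (Kg L₁ L₁' : Set G) : Subgroup G) : Set G) := fun W hW =>
    le_normalizer_centralizer ((hW.trans h.U_le_K).trans le_normalizer)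
  by_contra hne
  rw [not_or] at hne
  obtain ⟨x, hx, h1, h2⟩ := exists_not_mem_two (A := X) (X := wA L₁ ⊔ centralizer (Kg L₁ L₁' : Set G))
    (Y := wA L₁' ⊔ centralizer (Kg L₁ L₁' : Set G))
    (fun e => hne.1 fun x hx => (mem_sup_iff_of_left_le_normalizer (hn _ le_sup_left)).1 (e hx))
    (fun e => hne.2 fun x hx => (mem_sup_iff_of_left_le_normalizer (hn _ le_sup_right)).1 (e hx))
  obtain ⟨b, hb | hb, c, hc, -, rfl⟩ := h.invol (hX hx) (comm_of_elem he hx)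
  exacts [h1 (mul_mem_sup hb hc), h2 (mul_mem_sup hb hc)]

theorem B2Sub.cen (h : IsPair q L₁ L₁') {X : Subgroup G} (s : B2Sub X (wA L₁) (Kg L₁ L₁')) :
    X ≤ centralizer (wA L₁ : Set G) := fun x hx => by
  obtain ⟨b, hb, c, hc, rfl⟩ := s x hx
  exact mul_mem (fun y hy => (elemAb_iff.1 h.elem).1 y hy b hb)
    (centralizer_anti (le_sup_left.trans h.U_le_K) hc)

omit [Finite G] in
theorem b2_comm_le {V A B : Subgroup G} (hB : B ≤ normalizer (V : Set G)) (h : A ≤ B ⊔ centralizer (V : Set G)) :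
    ⁅V, A⁆ ≤ ⁅V, B⁆ := commutator_le.2 fun v hv a ha => by
  obtain ⟨b, hb, c, hc, rfl⟩ := (mem_sup_iff_of_left_le_normalizer (le_normalizer_centralizer hB)).1 (h ha)
  rw [show ⁅v, b * c⁆ = v * b * (v⁻¹ * c) * c⁻¹ * b⁻¹ by rw [hc _ (inv_mem hv), commutatorElement_def]; group,
    show v * b * (v⁻¹ * c) * c⁻¹ * b⁻¹ = ⁅v, b⁆ by rw [commutatorElement_def]; group]
  exact commutator_mem_commutator hv hb

theorem b2_R (h1 : IsPair q L₁ L₁') (h2 : IsPair q L₂ L₂') (s1 : B2Sub (wA L₂) (wA L₁) (Kg L₁ L₁'))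
    (s2 : B2Sub (wA L₁') (wA L₂') (Kg L₂ L₂')) (hn : ¬ wA L₂ ≤ centralizer (wA L₁' : Set G))
    (n : wA L₁' ≤ normalizer (wA L₂ : Set G)) : ⁅wA L₂, wA L₁'⁆ = Rg L₂ L₂' := by
  have n' : wA L₂' ≤ normalizer (wA L₂ : Set G) := (le_sup_right.trans h2.U_le).trans h2.normW
  have hle : wA L₁' ≤ wA L₂' ⊔ centralizer (wA L₂ : Set G) := fun x hx => by
    obtain ⟨b, hb, c, hc, rfl⟩ := s2 x hx
    exact mul_mem_sup hb (centralizer_anti (le_sup_left.trans h2.U_le_K) hc)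
  have e1 : centralizer (wA L₂ : Set G) ⊓ wA L₁' = Rg L₁' L₁ := by
    refine le_antisymm (fun x hx => ⟨hx.2, ?_⟩) fun x hx => ⟨fun y hy => (s1.cen h1 hy x hx.2).symm, hx.1⟩
    · obtain ⟨w₂, hw₂, hw₂'⟩ := SetLike.not_le_iff_exists.1 hn
      obtain ⟨w, hw, c, hc, rfl⟩ := s1 _ hw₂
      have hc' : c ∈ centralizer (wA L₁' : Set G) := centralizer_anti (le_sup_right.trans h1.U_le_K) hc
      refine h1.mem_of_commute hw (fun e => hw₂' (mul_mem (centralizer_anti le_sup_right (h1.R_le_cen e)) hc'))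
        (mem_sup_right hx.2) (mul_right_cancel (b := c) ?_)
      rw [mul_assoc, hc' x hx.2, ← mul_assoc, hx.1 _ hw₂, mul_assoc]
  have e2 : centralizer (wA L₂ : Set G) ⊓ wA L₂' = Rg L₂' L₂ :=
    le_antisymm (fun x hx => ⟨hx.2, h2.cenW.le ⟨mem_sup_right hx.2, hx.1⟩⟩) fun x hx =>
      ⟨fun y hy => (elemAb_iff.1 h2.elem).1 y hy x hx.2, hx.1⟩
  have e3 : wA L₁' ⊔ centralizer (wA L₂ : Set G) = wA L₂' ⊔ centralizer (wA L₂ : Set G) :=
    eq_of_le_of_card_ge (sup_le hle le_sup_right) (by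
      rw [card_sup_of (le_normalizer_centralizer n), card_sup_of (le_normalizer_centralizer n'),
        ← inf_relIndex_right _ (wA L₁'), ← inf_relIndex_right _ (wA L₂'), e1, e2, h1.symm.idx, h2.symm.idx])
  rw [← h2.comm_eq]
  exact le_antisymm (b2_comm_le n' hle) (b2_comm_le n (le_sup_left.trans e3.ge))

theorem b2_core (hG : St G) (h1 : Ad q u L₁ L₁') (h2 : Ad q u L₂ L₂') (hq : 2 < q)
    (n1 : Ug L₁ L₁' ≤ normalizer (Ug L₂ L₂' : Set G)) (n2 : Ug L₂ L₂' ≤ normalizer (Ug L₁ L₁' : Set G))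
    (s1 : B2Sub (wA L₂) (wA L₁) (Kg L₁ L₁')) (hn : ¬ wA L₂ ≤ centralizer (wA L₁' : Set G)) :
    Ug L₂ L₂' = Ug L₁ L₁' := by
  have p1 := h1.pair
  have p2 := h2.pair
  have hn' : ¬ wA L₁' ≤ centralizer (wA L₂ : Set G) := fun e => hn (le_centralizer_iff.1 e)
  have s2 : B2Sub (wA L₁') (wA L₂') (Kg L₂ L₂') := (b2_cases p2 p1.symm.elem
    (le_sup_right.trans (h2.le_sup_cen hG h1 hq n2 n1))).resolve_left fun s => hn' (s.cen p2)
  have a1 := p1.noswap p2 hq n1 n2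
  have a2 := p1.symm.noswap p2 hq (Ug_comm L₁ L₁' ▸ n1) (Ug_comm L₁ L₁' ▸ n2)
  have a3 := p2.noswap p1 hq n2 n1
  have a4 := p2.symm.noswap p1 hq (Ug_comm L₂ L₂' ▸ n2) (Ug_comm L₂ L₂' ▸ n1)
  have s1' : B2Sub (wA L₂) (wA L₁) (Kg L₁' L₁) := Kg_comm L₁ L₁' ▸ s1
  have s2' : B2Sub (wA L₁') (wA L₂') (Kg L₂' L₂) := Kg_comm L₂ L₂' ▸ s2
  have r1 := b2_R p1 p2 s1 s2 hn (le_sup_right.trans a3)
  have r2 := b2_R p2.symm p1.symm s2' s1' hn' (le_sup_left.trans a2)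
  have hR : Rg L₂ L₂' = Rg L₁ L₁' := by rw [← r1, commutator_comm, r2, Rg_comm]
  have e1 := h1.samew hG h2 (s1.cen p1) hR (fun w hw => by
      obtain ⟨b, hb, c, hc, rfl⟩ := s1 w hw
      exact ⟨b⁻¹, inv_mem hb, by
        rw [inv_mul_cancel_left]; exact centralizer_anti (le_sup_right.trans p1.U_le_K) hc⟩) hn
    (le_normalizer_sup (le_sup_right.trans a1) ((le_sup_right.trans p2.U_le).trans p2.normW))
  have e2 := h2.symm.samew hG h1.symm (s2'.cen p2.symm) (by rw [Rg_comm, ← hR, Rg_comm]) (fun w hw => by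
      obtain ⟨b, hb, c, hc, rfl⟩ := s2 w hw
      exact ⟨b⁻¹, inv_mem hb, by
        rw [inv_mul_cancel_left]; exact centralizer_anti (le_sup_left.trans p2.U_le_K) hc⟩) hn'
    (le_normalizer_sup (le_sup_left.trans a4) ((le_sup_right.trans p1.symm.U_le).trans p1.symm.normW))
  rw [Ug, Ug, e1, e2]

theorem b2_half (hG : St G) (h1 : Ad q u L₁ L₁') (h2 : Ad q u L₂ L₂') (hq : 2 < q)
    (n1 : Ug L₁ L₁' ≤ normalizer (Ug L₂ L₂' : Set G)) (n2 : Ug L₂ L₂' ≤ normalizer (Ug L₁ L₁' : Set G))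
    (hn : ¬ wA L₂ ≤ centralizer (Ug L₁ L₁' : Set G)) : Ug L₂ L₂' = Ug L₁ L₁' := by
  rcases b2_cases h1.pair h2.pair.elem (le_sup_left.trans (h1.le_sup_cen hG h2 hq n1 n2)) with s | s
  · exact b2_core hG h1 h2 hq n1 n2 s fun e => hn ((le_inf (s.cen h1.pair) e).trans (centralizer_sup _ _).ge)
  · have s' : B2Sub (wA L₂) (wA L₁') (Kg L₁' L₁) := Kg_comm L₁ L₁' ▸ s
    rw [Ug_comm L₁] at n1 n2 ⊢
    exact b2_core hG h1.symm h2 hq n1 n2 s' fun e =>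
      hn ((le_inf e (s'.cen h1.pair.symm)).trans (centralizer_sup _ _).ge)


theorem Ad.big_norm (hG : St G) (h1 : Ad q u L₁ L₁') (h2 : Ad q u L₂ L₂') (hq : 2 < q)
    (n1 : Ug L₁ L₁' ≤ normalizer (Ug L₂ L₂' : Set G))
    (n2 : Ug L₂ L₂' ≤ normalizer (Ug L₁ L₁' : Set G)) :
    Ug L₂ L₂' = Ug L₁ L₁' ∨ ⁅Ug L₁ L₁', Ug L₂ L₂'⁆ = ⊥ := by
  refine or_iff_not_imp_right.2 fun hne => ?_
  by_cases e : wA L₂ ≤ centralizer (Ug L₁ L₁' : Set G)
  · rw [Ug_comm L₂] at n1 n2 ⊢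
    refine b2_half hG h1 h2.symm hq n1 n2 fun e' => hne ?_
    rw [commutator_comm, commutator_eq_bot_iff_le_centralizer]
    exact sup_le e e'
  · exact b2_half hG h1 h2 hq n1 n2 e

end CfsgLib.Baum
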