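import Mathlib
import Cfsg.Agent.Lib.Baum.Big2

/-! Large fields: two pairs are equal or commute; swaps inside `K`. -/

set_option autoImplicit false

namespace CfsgLib.Baum

open Subgroup Cfsg CfsgLib.LAE CfsgLib.PLocal CfsgLib.Push CfsgLib.BHS CfsgLib.ZJ CfsgLib.SL2
  CfsgLib.Blocks CfsgLib.LocStr CfsgLib.CGT2
open scoped commutatorElement


variable {G : Type*} [Group G] [Finite G]

variable {q : ℕ} {u v a t z : G} {L L' L₁ L₁' L₂ L₂' L₃ L₃' : Subgroup G}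

theorem b3_diag (h : IsPair q L L') (ha : Cl a) :
    ⁅Kg L L', Kg (conjS a L) (conjS a L')⁆ ≠ ⊥ := fun e =>
  ha.diag h.atom (le_bot_iff.1 ((commutator_mono h.L_le_K (h.conj a).L_le_K).trans e.le))

omit [Finite G] in
theorem b3_U (e : (L₂ = L₁ ∧ L₂' = L₁') ∨ (L₂ = L₁' ∧ L₂' = L₁)) : Ug L₂ L₂' = Ug L₁ L₁' := by
  rcases e with ⟨rfl, rfl⟩ | ⟨rfl, rfl⟩
  exacts [rfl, Ug_comm _ _]

theorem b3_norm (hG : St G) (h1 : Ad q u L₁ L₁') (h2 : Ad q u L₂ L₂') (hq : 2 < q) :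
    Ug L₁ L₁' ≤ normalizer (Ug L₂ L₂' : Set G) := by
  refine delta (pg_Tt u) (𝒰 := {U | ∃ L L', Ad q u L L' ∧ Ug L L' = U}) ?_ ?_ ?_ ⟨_, _, h1, rfl⟩
    ⟨_, _, h2, rfl⟩
  · rintro _ ⟨L, L', h, rfl⟩
    exact h.le_T
  · rintro _ ⟨L, L', h, rfl⟩ t ht
    exact ⟨_, _, h.conj_of_comm (comm_of_mem_Tt ht), (conjS_Ug _ _ _).symm⟩
  rintro Δ hΔ hn inv _ ⟨L, L', h, rfl⟩ hU V hV
  obtain ⟨M, M', hM, rfl⟩ := hΔ hV
  refine h.gen' fun y hy hc => ?_
  have hT : y ∈ Tt u := sup_le h.le_T (zpowers_le.2 h.cl.mem) hy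
  have hu : u ∈ centralizer ((sSup Δ : Subgroup G) : Set G) :=
    zpowers_le.1 (le_centralizer_iff.1 (sSup_le fun X hX => by
      obtain ⟨N, N', hN, rfl⟩ := hΔ hX
      exact le_centralizer_iff.1 (zpowers_le.2 hN.mem_cen_U)))
  have h3 := inv _ hV y hT (sup_le hU (zpowers_le.2 (centralizer_le_normalizer _ hu)) hy)
  have h4 := hM.conj_of_comm (comm_of_mem_Tt hT)
  rw [conjS_Ug] at h3
  rcases hM.big_norm hG h4 hq (hn _ hV _ h3) (hn _ h3 _ hV) with e | e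
  · exact mem_normalizer_iff_conjS.2 ((conjS_Ug _ _ _).trans e)
  · exact absurd (hM.comm hG h4 e) (b3_diag hM.pair hc)

theorem Ad.dich (hG : St G) (h1 : Ad q u L₁ L₁') (h2 : Ad q u L₂ L₂') (hq : 2 < q) :
    (L₂ = L₁ ∧ L₂' = L₁') ∨ (L₂ = L₁' ∧ L₂' = L₁) ∨ ⁅Kg L₁ L₁', Kg L₂ L₂'⁆ = ⊥ :=
  or_assoc.1 ((h1.big_norm hG h2 hq (b3_norm hG h1 h2 hq) (b3_norm hG h2 h1 hq)).imp
    (h1.eq_of_U hG h2) (h1.comm hG h2))

theorem Ad.eq_of_K (hG : St G) (h1 : Ad q u L₁ L₁') (h2 : Ad q u L₂ L₂') (hq : 2 < q)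
    (e : Kg L₂ L₂' = Kg L₁ L₁') : (L₂ = L₁ ∧ L₂' = L₁') ∨ (L₂ = L₁' ∧ L₂' = L₁) :=
  (or_assoc.2 (h1.dich hG h2 hq)).resolve_right (by rw [e]; exact h1.pair.comm_ne)

theorem mut_big (hG : St G) (hq : 2 < q) : Mut G q := fun _ _ _ _ _ h1 h2 hn => by
  rcases h1.dich hG h2 hq with ⟨rfl, rfl⟩ | ⟨rfl, rfl⟩ | e
  exacts [absurd rfl hn, absurd (Rg_comm _ _) hn, e]

theorem Ad.Kr_eq (hG : St G) (h : Ad q u L L') (hq : 2 < q) : Kr q u (Rg L L') = Kg L L' := by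
  refine le_antisymm (Kr_le_iff.2 fun M M' hM e => ?_) (h.le_Kr rfl)
  rcases h.dich hG hM hq with ⟨rfl, rfl⟩ | ⟨rfl, rfl⟩ | e'
  exacts [le_rfl, (Kg_comm _ _).le, absurd (e.ge.trans (((inf_le_left.trans le_sup_left).trans
    hM.pair.U_le_K).trans ((le_centralizer_iff.1 (commutator_eq_bot_iff_le_centralizer.1 e')).trans
      (centralizer_anti h.pair.L_le_K)))) h.pair.not_R_le]

theorem Ad.norm_of_cl (hG : St G) (h : Ad q u L L') (hq : 2 < q) (ha : Cl a) (hc : Commute u a) :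
    a ∈ normalizer (Ug L L' : Set G) :=
  mem_normalizer_iff_conjS.2 ((conjS_Ug _ _ _).trans (b3_U
    ((or_assoc.2 (h.dich hG (h.conj_of_comm hc) hq)).resolve_right (b3_diag h.pair ha))))

theorem Ad.nz (hG : St G) (h : Ad q v L L') (hq : 2 < q) (ht : t ∈ normalizer (Kg L L' : Set G))
    (hz : z ∈ centralizer (Kg L L' : Set G)) (hc : Commute v z) (e : t * v * t⁻¹ = v * z) :
    t ∈ normalizer (Ug L L' : Set G) := by
  have h1 := h.conj t
  have h2 := h.transfer hG h1.cl (e ▸ (Commute.refl v).mul_right hc) fun x hx => mem_cen1.2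
    (e ▸ (h.comm_U hx).mul_left (hz x (h.pair.U_le_K hx)).symm)
  exact mem_normalizer_iff_conjS.2 ((conjS_Ug _ _ _).trans (b3_U (h2.eq_of_K hG h1 hq
    ((conjS_Kg _ _ _).symm.trans (mem_normalizer_iff_conjS.1 ht)))))

theorem b3_adj (hG : St G) (hq : 2 < q) (ha : Ad q a L₃ L₃') (hv : Ad q v L L')
    (hK : Kg L₃ L₃' = Kg L L') (h1 : a ∈ normalizer (wA L : Set G)) (h2 : a ∈ normalizer (wA L' : Set G))
    (hp : IsPGroup 2 (Ug L L' ⊔ zpowers v ⊔ zpowers a : Subgroup G)) :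
    (wA L = wA L₃ ∨ wA L = wA L₃') ∨ (wA L' = wA L₃ ∨ wA L' = wA L₃') := by
  obtain ⟨M, M', h3, h4, h5⟩ := hv.adj hG ha.cl (hv.bstar hG hq ha.cl h1 h2 hp)
    (hp.to_le (sup_le_sup_right le_sup_right _))
  rcases ha.eq_of_K hG h3 hq (h4.trans hK.symm) with ⟨rfl, rfl⟩ | ⟨rfl, rfl⟩
  exacts [h5.imp (fun e => .inl e.symm) fun e => .inr e.symm,
    h5.imp (fun e => .inr e.symm) fun e => .inl e.symm]

theorem b3_R_sq (h : IsPair q L L') {r : G} (hr : r ∈ Rg L L') : r * r = 1 := comm_of_elem h.elem hr.1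

theorem b3_R_le_K (h : IsPair q L L') : Rg L L' ≤ Kg L L' := (inf_le_left.trans le_sup_left).trans h.U_le_K

omit [Finite G] in
theorem b3_swp_R (hs : Swp v L L') {r : G} (hr : r ∈ Rg L L') : v * r * v⁻¹ ∈ Rg L L' :=
  ⟨hs.2.le (conj_mem_conjS.2 hr.2), hs.1.le (conj_mem_conjS.2 hr.1)⟩

omit [Finite G] in
theorem b3_cc (hv : v * v = 1) (w : G) : v * (v * w * v⁻¹) * v⁻¹ = w := by
  rw [← mul_assoc, ← mul_assoc, hv, one_mul, mul_assoc, ← mul_inv_rev, hv, inv_one, mul_one]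

/-- A good element centralized by a swap. -/
theorem b3_good (h : IsPair q L L') (hv : v * v = 1) (hs : Swp v L L') :
    ∃ w ∈ wA L, Gd L L' ⁅w, v * w * v⁻¹⁆ ∧ Commute v ⁅w, v * w * v⁻¹⁆ := by
  obtain ⟨w, hw, hw'⟩ := SetLike.not_le_iff_exists.1 h.not_le
  have h1 : w ∉ Rg L L' := fun k => hw' (centralizer_anti le_sup_right (h.R_le_cen k))
  have h2 : v * w * v⁻¹ ∈ wA L' := hs.1.le (conj_mem_conjS.2 hw)
  have e := b3_cc hv w
  have h3 : v * w * v⁻¹ ∉ Rg L L' := fun k => h1 (e ▸ b3_swp_R hs k)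
  have h4 : ⁅w, v * w * v⁻¹⁆ ∈ Rg L L' := h.comm_eq.le (commutator_mem_commutator hw h2)
  refine ⟨w, hw, ⟨h4, fun k => (h.mem_of_comm hw h2 k).elim h1 h3, fun k => ?_⟩, ?_⟩
  · refine (h.symm.mem_of_comm h2 hw ?_).elim (fun k => h3 ⟨k.2, k.1⟩) fun k => h1 ⟨k.2, k.1⟩
    rw [← commutatorElement_inv]
    exact inv_mem k
  · refine mul_inv_eq_iff_eq_mul.1 ?_
    rw [conjugate_commutatorElement, e, ← commutatorElement_inv, inv_eq_of_mul_eq_one_right (b3_R_sq h h4)]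

/-- A good element normalizing both modules of a second pair. -/
theorem b3_exists (h : IsPair q L L') (hq : 2 < q) (hv : v * v = 1) (hs : Swp v L L')
    (hL : conjS v L = L') (hL' : conjS v L' = L) (h2 : IsPair q L₂ L₂')
    (hn : ∀ t ∈ Ug L L', t * v * t⁻¹ * v⁻¹ ∈ Zg L L' → t ∈ normalizer (Ug L₂ L₂' : Set G)) :
    ∃ r, Gd L L' r ∧ r ∈ normalizer (wA L₂ : Set G) ∧ r ∈ normalizer (wA L₂' : Set G) := by
  have sq : ∀ {a b : G}, Swp a L₂ L₂' → Swp b L₂ L₂' →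
      a * b ∈ normalizer (wA L₂ : Set G) ∧ a * b ∈ normalizer (wA L₂' : Set G) := fun ha hb =>
    ⟨mem_normalizer_iff_conjS.2 (by rw [conjS_mul, hb.1, ha.2]),
      mem_normalizer_iff_conjS.2 (by rw [conjS_mul, hb.2, ha.1])⟩
  have RU : Rg L L' ≤ Ug L L' := inf_le_left.trans le_sup_left
  have three : ∀ {a b : G}, Gd L L' a → Gd L L' b → Gd L L' (a * b) → a * v * a⁻¹ * v⁻¹ ∈ Zg L L' →
      b * v * b⁻¹ * v⁻¹ ∈ Zg L L' →
      ∃ r, Gd L L' r ∧ r ∈ normalizer (wA L₂ : Set G) ∧ r ∈ normalizer (wA L₂' : Set G) :=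
    fun ha hb hab ha' hb' => (h2.conj_cases (hn _ (RU ha.mem) ha')).elim (fun k => ⟨_, ha, k⟩) fun k =>
      (h2.conj_cases (hn _ (RU hb.mem) hb')).elim (fun k => ⟨_, hb, k⟩) fun k' => ⟨_, hab, sq k k'⟩
  have cz : ∀ {a : G}, Commute v a → a * v * a⁻¹ * v⁻¹ ∈ Zg L L' := fun ha => by
    rw [← ha.eq, mul_inv_cancel_right, mul_inv_cancel]; exact one_mem _
  have ri : ∀ {r : G}, r ∈ Rg L L' → r⁻¹ = r := fun hr => inv_eq_of_mul_eq_one_right (b3_R_sq h hr)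
  obtain ⟨w, hw, hg, hc⟩ := b3_good h hv hs
  set s := ⁅w, v * w * v⁻¹⁆ with hs'
  have hw' : v * w * v⁻¹ ∈ wA L' := hs.1.le (conj_mem_conjS.2 hw)
  have hww : w * (v * w * v⁻¹) ∈ Ug L L' := mul_mem (mem_sup_left hw) (mem_sup_right hw')
  have e0 := b3_cc hv w
  by_cases hA : ∃ r ∈ Rg L L', s * (r * (v * r * v⁻¹)) ∈ Zg L L'
  · obtain ⟨r, hr, hA⟩ := hA
    have h3 := hn _ (mul_mem hww (RU hr)) (by
      have e1 : w * (v * w * v⁻¹) * r * v * (w * (v * w * v⁻¹) * r)⁻¹ * v⁻¹ =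
          w * (v * w * v⁻¹) * (r * (v * r * v⁻¹)⁻¹) * (v * (v * w * v⁻¹) * v⁻¹)⁻¹ * (v * w * v⁻¹)⁻¹ := by group
      have e2 := h.R_le_cen (mul_mem hr (b3_swp_R hs hr))
      rw [e1, e0, ri (b3_swp_R hs hr), mul_assoc _ _ w⁻¹, ← e2 _ (mem_sup_left (inv_mem hw)), ← mul_assoc,
        mul_assoc _ _ (v * w * v⁻¹)⁻¹, ← e2 _ (mem_sup_right (inv_mem hw')), ← mul_assoc]
      exact hA)
    have e3 : w * (v * w * v⁻¹) * r * (w * (v * w * v⁻¹) * r) = s := by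
      rw [mul_assoc _ r, ← mul_assoc r, ← h.R_le_cen hr _ hww, mul_assoc _ r, b3_R_sq h hr, mul_one, hs',
        commutatorElement_def, inv_eq_of_mul_eq_one_right (comm_of_elem h.elem hw),
        inv_eq_of_mul_eq_one_right (comm_of_elem h.symm.elem hw'), mul_assoc (w * _) w]
    exact ⟨s, hg, e3 ▸ (h2.conj_cases h3).elim (fun k => ⟨mul_mem k.1 k.1, mul_mem k.2 k.2⟩) fun k => sq k k⟩
  rcases h.dich hq with e | ⟨e1, e2⟩
  · have e1 : Zg L L' = cen (wA L) L := by rw [h.Zg_eq, ← e, inf_idem]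
    have gd : ∀ {r : G}, r ∈ Rg L L' → r ∉ Zg L L' → Gd L L' r := fun hr hz =>
      ⟨hr, fun k => hz (e1.ge ⟨hr.1, k⟩), fun k => hz (e1.ge (e.ge ⟨hr.2, k⟩))⟩
    by_cases hB : ∀ r ∈ Rg L L', r * v * r⁻¹ * v⁻¹ ∈ Zg L L'
    · by_contra hne
      have h3 : (Zg L L').relIndex (Rg L L') ∣ 2 := by
        obtain ⟨a, ha, ha'⟩ := SetLike.not_le_iff_exists.1 h.not_R_le
        refine relIndex_dvd_two_iff.2 ⟨a, ha, fun b hb => ?_⟩
        by_contra k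
        rw [not_or] at k
        exact hne (three (gd hb k.2) (gd ha fun k => ha' (e1.le k).2) (gd (mul_mem hb ha) k.1) (hB b hb) (hB a ha))
      rw [e1, h.idxZ] at h3
      exact absurd (Nat.le_of_dvd two_pos h3) (not_le.2 hq)
    · push Not at hB
      obtain ⟨r, hr, hB⟩ := hB
      rw [ri hr, mul_assoc, mul_assoc, ← mul_assoc v] at hB
      have h3 := mul_mem hr (b3_swp_R hs hr)
      refine three hg (gd h3 hB) (gd (mul_mem hg.mem h3) fun k => hA ⟨r, hr, k⟩) (cz hc) (cz ?_)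
      refine mul_inv_eq_iff_eq_mul.1 ?_
      rw [← conj_mul, b3_cc hv]
      exact h.R_le_cen hr _ (RU (b3_swp_R hs hr))
  · exfalso
    have c1 : cen (wA L) L ≤ normalizer (cen (wA L') L' : Set G) := (le_centralizer_iff.1
      ((h.symm.Z_le.trans (inf_le_right.trans le_sup_left)).trans (le_centralizer_iff.1
        (h.Z_le.trans h.R_le_cen)))).trans (centralizer_le_normalizer _)
    obtain ⟨x, hx, y, hy, e⟩ := (mem_sup_iff_of_left_le_normalizer c1).1 (e1.ge hg.mem)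
    have z1 : conjS v (cen (wA L) L) = cen (wA L') L' := by rw [conjS_inf, conjS_centralizer, hs.1, hL]
    have z2 : conjS v (cen (wA L') L') = cen (wA L) L := by rw [conjS_inf, conjS_centralizer, hs.2, hL']
    have hx' := z1.le (conj_mem_conjS.2 hx)
    have hy' := z2.le (conj_mem_conjS.2 hy)
    have e3 : v * x * v⁻¹ * (v * y * v⁻¹) = x * y := by rw [conj_mul, ← e, hc.eq, mul_inv_cancel_right]
    have e4 : x⁻¹ * (v * y * v⁻¹) = y * (v * x * v⁻¹)⁻¹ := by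
      rw [eq_mul_inv_iff_mul_eq, mul_assoc, ← h.R_le_cen (h.Z_le hy') _ (mem_sup_right hx'.1), e3,
        inv_mul_cancel_left]
    have e5 : y * (v * x * v⁻¹)⁻¹ = 1 :=
      mem_bot.1 (e2.le (mem_inf.2 ⟨e4 ▸ mul_mem (inv_mem hx) hy', mul_mem hy (inv_mem hx')⟩))
    refine hA ⟨x, h.Z_le hx, ?_⟩
    rw [← mul_inv_eq_one.1 e5, ← e, b3_R_sq h hg.mem]
    exact one_mem _

omit [Finite G] in
theorem b3_pg {K A B : Subgroup G} (hA : IsPGroup 2 A) (hB : IsPGroup 2 B) (h1 : A ≤ K)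
    (h2 : B ≤ centralizer (K : Set G)) : IsPGroup 2 (A ⊔ B : Subgroup G) :=
  isPGroup_sup hA hB ((le_centralizer_iff.1 (h2.trans (centralizer_anti h1))).trans
    (centralizer_le_normalizer _))

theorem Ad.b3_c (h : Ad q u L L') {r : G} (hr : r ∈ Rg L L') : u * r * (u * r) = 1 ∧ r * (u * r) = u := by
  have e : r * (u * r) = u := by
    rw [← mul_assoc, ← (h.comm_U (mem_sup_left hr.1)).eq, mul_assoc, b3_R_sq h.pair hr, mul_one]
  exact ⟨by rw [mul_assoc, e, h.cl.sq], e⟩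

theorem s3a (hG : St G) (hq : 2 < q) (ha : Ad q a L₃ L₃') (hv : Ad q v L L')
    (hK : Kg L₃ L₃' = Kg L L') (hp : IsPGroup 2 (zpowers a ⊔ zpowers v : Subgroup G)) :
    ¬ Swp v L₃ L₃' := fun hs => by
  have h1 := ha.conj v
  have e1 : Ug (conjS v L₃) (conjS v L₃') = Ug L₃ L₃' :=
    (conjS_Ug _ _ _).symm.trans (mem_normalizer_iff_conjS.1 (ha.pair.norm_of_swp hs))
  have h2 := ha.chain hG h1.cl (hp.to_le (sup_le le_sup_left (zpowers_le.2 (mul_mem (mul_mem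
    (mem_sup_right (mem_zpowers v)) (mem_sup_left (mem_zpowers a))) (inv_mem (mem_sup_right (mem_zpowers v)))))))
    (e1 ▸ h1.cU)
  obtain ⟨e2, e3⟩ := (h2.eq_of_U hG h1 e1).resolve_left fun k =>
    ha.pair.ne (by rw [← hs.1, conjS_wA, k.1])
  obtain ⟨r₃, a1, a2⟩ := ha.exists_c
  obtain ⟨r₁, v1, v2⟩ := hv.exists_c
  obtain ⟨a3, a4⟩ := ha.b3_c a1
  obtain ⟨v3, v4⟩ := hv.b3_c v1
  have ZK : Zg L₃ L₃' ≤ Kg L L' := hK ▸ inf_le_left.trans (b3_R_le_K ha.pair)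
  have ZC : Zg L₃ L₃' ≤ centralizer (Kg L L' : Set G) := hK ▸ inf_le_right
  obtain ⟨r, r1, r2, r3⟩ := b3_exists ha.pair hq hv.cl.sq hs e2 e3 hv.pair fun t ht hz => by
    have hc : Commute v (t * v * t⁻¹ * v⁻¹) := by
      nth_rewrite 1 [← v4]
      exact Commute.mul_left (ZC hz _ (b3_R_le_K hv.pair v1)) (v2 _ (ZK hz)).symm
    exact hv.nz hG hq (le_normalizer (hK ▸ ha.pair.U_le_K ht)) (ZC hz) hc
      (by rw [hc.eq, inv_mul_cancel_right])
  obtain ⟨z, z1, h3⟩ := ha.good hq a1 a2 r1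
  rw [hK] at a2
  have CW : centralizer (Kg L L' : Set G) ≤ normalizer (wA L : Set G) :=
    (centralizer_anti (le_sup_left.trans hv.pair.U_le_K)).trans (centralizer_le_normalizer _)
  have CW' : centralizer (Kg L L' : Set G) ≤ normalizer (wA L' : Set G) :=
    (centralizer_anti (le_sup_right.trans hv.pair.U_le_K)).trans (centralizer_le_normalizer _)
  have p1 := pg_cpart (hK ▸ b3_R_le_K ha.pair a1) (b3_R_le_K hv.pair v1) a2 v2 a3 v3 (by rwa [a4, v4])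
  have p2 : zpowers (a * r₃) ⊔ zpowers (v * r₁) ≤ centralizer (Kg L L' : Set G) :=
    sup_le (zpowers_le.2 a2) (zpowers_le.2 v2)
  have p3 := b3_pg (isPGroup_sup (Cf.pg_of_sq (b3_R_sq ha.pair r1.mem)) hv.pair.pg
    (zpowers_le.2 (hv.pair.norm_U r2 r3))) (b3_pg (Cf.pg_of_sq (b3_R_sq ha.pair z1.1)) p1
      (zpowers_le.2 (ZK z1)) p2) (sup_le (zpowers_le.2 (hK ▸ b3_R_le_K ha.pair r1.mem)) hv.pair.U_le_K)
    (sup_le (zpowers_le.2 (ZC z1)) p2)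
  have h4 := b3_adj hG hq h3 hv hK (mul_mem (mul_mem r2 (CW (ZC z1))) (CW a2))
    (mul_mem (mul_mem r3 (CW' (ZC z1))) (CW' a2)) (p3.to_le (sup_le (sup_le (le_sup_right.trans le_sup_left)
      (zpowers_le.2 (by
        nth_rewrite 2 [← v4]
        exact mul_mem (mem_sup_left (mem_sup_right (mem_sup_left v1.1)))
          (mem_sup_right (mem_sup_right (mem_sup_right (mem_zpowers _))))))) (zpowers_le.2
      (mul_mem (mul_mem (mem_sup_left (mem_sup_left (mem_zpowers _))) (mem_sup_right (mem_sup_left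
        (mem_zpowers _)))) (mem_sup_right (mem_sup_right (mem_sup_left (mem_zpowers _))))))))
  have n1 : v ∈ normalizer (wA L : Set G) :=
    centralizer_le_normalizer _ (centralizer_anti le_sup_left hv.mem_cen_U)
  have n2 : v ∈ normalizer (wA L' : Set G) :=
    centralizer_le_normalizer _ (centralizer_anti le_sup_right hv.mem_cen_U)
  have n3 := ha.pair.not_norm_of_swp hs
  have n4 := ha.pair.symm.not_norm_of_swp hs.symm
  rcases h4 with (e | e) | (e | e)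
  exacts [n3 (e ▸ n1), n4 (e ▸ n1), n3 (e ▸ n2), n4 (e ▸ n2)]

theorem s3c (hG : St G) (hq : 2 < q) (ha : Ad q a L₃ L₃') (hv : Ad q v L L')
    (hK : Kg L₃ L₃' = Kg L L') (hp : IsPGroup 2 (zpowers a ⊔ zpowers v : Subgroup G))
    (hn : a ∈ normalizer (Ug L L' : Set G)) :
    (wA L = wA L₃ ∨ wA L = wA L₃') ∨ (wA L' = wA L₃ ∨ wA L' = wA L₃') := by
  obtain ⟨h1, h2⟩ := (hv.pair.conj_cases hn).resolve_right (s3a hG hq hv ha hK.symm (by rwa [sup_comm]))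
  refine b3_adj hG hq ha hv hK h1 h2 ((isPGroup_sup hp hv.pair.pg (sup_le (zpowers_le.2 hn)
    (zpowers_le.2 (centralizer_le_normalizer _ hv.mem_cen_U)))).to_le ?_)
  exact sup_le (sup_le le_sup_right (le_sup_right.trans le_sup_left)) (le_sup_left.trans le_sup_left)

end CfsgLib.Baum
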