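import Mathlib
import Cfsg.Agent.Lib.Baum.Big3

/-! Large fields: no swaps. -/

set_option autoImplicit false

namespace CfsgLib.Baum

open Subgroup Cfsg CfsgLib.LAE CfsgLib.PLocal CfsgLib.Push CfsgLib.BHS CfsgLib.ZJ CfsgLib.SL2
  CfsgLib.Blocks CfsgLib.LocStr CfsgLib.CGT2
open scoped commutatorElement


variable {G : Type*} [Group G] [Finite G]

variable {q : ℕ} {u y a k : G} {L L' M M' : Subgroup G}

omit [Finite G] in
theorem b4_eq (hs : Swp y L L') (hs' : Swp y M M')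
    (h : (wA L = wA M ∨ wA L = wA M') ∨ (wA L' = wA M ∨ wA L' = wA M')) : Ug M M' = Ug L L' := by
  rcases h with (e | e) | (e | e)
  · rw [Ug, Ug, ← hs.1, ← hs'.1, e]
  · rw [Ug, Ug, ← hs.1, ← hs'.2, e, sup_comm]
  · rw [Ug, Ug, ← hs.2, ← hs'.1, e, sup_comm]
  · rw [Ug, Ug, ← hs.2, ← hs'.2, e]

theorem b4_K (hk : k ∈ Kg L L') : Kg (conjS k L) (conjS k L') = Kg L L' :=
  (conjS_Kg _ _ _).symm.trans (conjS_eq_of_mem hk)

section

variable (hG : St G) (h : Ad q u L L') (hq : 2 < q) (hy : Cl y) (hc : Commute u y) (hs : Swp y L L')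
include hG h hc hs

theorem b4_normK : y ∈ normalizer (Kg L L' : Set G) := by
  obtain ⟨e1, e2⟩ := (h.eq_of_U hG (h.conj_of_comm hc) ((conjS_Ug _ _ _).symm.trans
    (mem_normalizer_iff_conjS.1 (h.pair.norm_of_swp hs)))).resolve_left fun k =>
      h.pair.ne (by rw [← hs.1, conjS_wA, k.1])
  rw [mem_normalizer_iff_conjS, conjS_Kg, e1, e2, Kg_comm]

include hq hy

theorem b4_N (hk : k ∈ Kg L L') (h1 : y ∈ normalizer (wA (conjS k L) : Set G))
    (h2 : y ∈ normalizer (wA (conjS k L') : Set G)) : False := by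
  obtain ⟨r, r1, r2⟩ := h.exists_c
  obtain ⟨r3, r4⟩ := h.b3_c r1
  have h3 := h.conj k
  have e := b4_K hk
  have hT := h.cl.mem_Tt hy.pg hc
  have p1 := isPGroup_sup ((pg_Tt u).to_inf_left (K := normalizer (Ug (conjS k L) (conjS k L') : Set G)))
    h3.pair.pg inf_le_right
  have p2 : IsPGroup 2 (Ug (conjS k L) (conjS k L') ⊔ zpowers (k * u * k⁻¹) ⊔ zpowers y : Subgroup G) := by
    refine p1.to_le (sup_le (sup_le le_sup_right (zpowers_le.2 ?_))
      (zpowers_le.2 (mem_sup_left (mem_inf.2 ⟨hT, h3.pair.norm_U h1 h2⟩))))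
    rw [show k * u * k⁻¹ = k * r * k⁻¹ * (u * r) by
      conv_lhs => rw [← r4, ← conj_mul, r2 k hk, mul_inv_cancel_right]]
    refine mul_mem (mem_sup_right (conjS_Ug k L L' ▸ conj_mem_conjS.2 (mem_sup_left r1.1)))
      (mem_sup_left (mem_inf.2 ⟨mul_mem h.cl.mem (h.le_T (mem_sup_left r1.1)), centralizer_le_normalizer _
        (centralizer_anti (h3.pair.U_le_K.trans e.le) r2)⟩))
  obtain ⟨N, N', h4, h5, -⟩ := h3.adj hG hy (h3.bstar hG hq hy h1 h2 p2)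
    (p2.to_le (sup_le_sup_right le_sup_right _))
  exact s3a hG hq h h4 (h5.trans e).symm
    ((pg_Tt u).to_le (sup_le (zpowers_le.2 h.cl.mem) (zpowers_le.2 hT))) hs

theorem b4_S (hk : k ∈ Kg L L') (hs' : Swp y (conjS k L) (conjS k L')) :
    k ∈ normalizer (Ug L L' : Set G) := by
  obtain ⟨r, r1, r2⟩ := h.exists_c
  obtain ⟨r3, r4⟩ := h.b3_c r1
  have h3 := h.conj k
  have e := b4_K hk
  have hn := b4_normK hG h hc hs
  have ZK : Zg L L' ≤ Kg L L' := inf_le_left.trans (b3_R_le_K h.pair)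
  have eZ : Zg (conjS k L) (conjS k L') = Zg L L' := (conjS_Zg _ _ _).symm.trans
    (mem_normalizer_iff_conjS.1 (centralizer_le_normalizer _ (le_centralizer_iff.1 inf_le_right hk)))
  have yZ : ∀ {z : G}, z ∈ Zg L L' → y * z * y⁻¹ ∈ Zg L L' := fun hz =>
    ⟨b3_swp_R hs hz.1, Cf.cjm (normalizer_le_normalizer_centralizer _ hn) hz.2⟩
  obtain ⟨w, -, s1, s2⟩ := b3_good h3.pair hy.sq hs'
  generalize ⁅w, y * w * y⁻¹⁆ = s at s1 s2
  have e1 : k * u * k⁻¹ * (k * r * k⁻¹) = u * r := by rw [conj_mul, r2 k hk, mul_inv_cancel_right]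
  obtain ⟨z, z1, h4⟩ := h3.good hq (conjS_Rg k L L' ▸ conj_mem_conjS.2 r1) (by rwa [e1, e]) s1
  rw [e1] at h4
  rw [eZ] at z1
  have e2 : y * (u * r) * y⁻¹ = u * r * (r * (y * r * y⁻¹)) := by
    rw [← conj_mul, ← hc.eq, mul_inv_cancel_right, mul_assoc u, ← mul_assoc r, b3_R_sq h.pair r1, one_mul]
  have z2 : r * (y * r * y⁻¹) ∈ Zg L L' := ⟨mul_mem r1 (b3_swp_R hs r1), (mul_mem_cancel_left r2).1
    (e2 ▸ Cf.cjm (normalizer_le_normalizer_centralizer _ hn) r2)⟩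
  have z3 := mul_mem (mul_mem (inv_mem z1) (yZ z1)) z2
  have e3 : y * (s * z * (u * r)) * y⁻¹ = s * z * (u * r) * (z⁻¹ * (y * z * y⁻¹) * (r * (y * r * y⁻¹))) := by
    rw [← conj_mul, ← conj_mul, s2.eq, mul_inv_cancel_right, e2, ← mul_assoc (s * z * _), mul_assoc (s * z) (u * r),
      ← r2 _ (ZK (mul_mem (inv_mem z1) (yZ z1)))]
    group
  generalize z⁻¹ * (y * z * y⁻¹) * (r * (y * r * y⁻¹)) = z' at z3 e3
  have hua : u * (s * z * (u * r)) ∈ Kg L L' := by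
    have hsz := mul_mem (e.le (b3_R_le_K h3.pair s1.mem)) (ZK z1)
    rw [r2 _ hsz, ← mul_assoc, ← mul_assoc u u, h.cl.sq, one_mul]
    exact mul_mem (b3_R_le_K h.pair r1) hsz
  generalize s * z * (u * r) = a at h4 e3 hua
  have p1 := hy.pg_pair h.cl.sq h4.cl.sq hc.symm e3 (b3_R_sq h.pair z3.1)
    (h.comm_U (mem_sup_left z3.1.1)).symm (h4.comm_U (mem_sup_left (eZ.ge z3).1.1)).symm
  by_cases ha : a ∈ normalizer (Ug L L' : Set G)
  · exact mem_normalizer_iff_conjS.2 ((conjS_Ug _ _ _).trans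
      (b4_eq hs hs' (s3c hG hq h4 h e (by rwa [sup_comm]) ha)))
  obtain ⟨d, d1, d2, d3⟩ := two_step h.cl.sq h4.cl.sq p1 (centralizer_le_normalizer _ h.mem_cen_U) ha
  have d4 : d ∈ Kg L L' := zpowers_le.2 hua d1
  have d5 : d⁻¹ * (y * d * y⁻¹) ∈ centralizer (Kg L L' : Set G) := by
    obtain ⟨n, rfl⟩ := mem_zpowers_iff.1 d1
    rw [← conj_zpow, ← conj_mul, ← hc.eq, mul_inv_cancel_right, e3, ← mul_assoc u,
      Commute.mul_zpow (z3.2 _ hua), inv_mul_cancel_left]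
    exact zpow_mem (mem_inf.1 z3).2 n
  have d6 : ∀ X X' : Subgroup G, X' ≤ Kg L L' → conjS y X = X' → conjS y (conjS d X) = conjS d X' :=
    fun X X' h1 h2 => by
      rw [← conjS_mul, show y * d = d * (d⁻¹ * (y * d * y⁻¹)) * y by group, conjS_mul, conjS_mul, h2,
        mem_normalizer_iff_conjS.1 (centralizer_le_normalizer _ (centralizer_anti h1 d5))]
  have hd : Swp y (conjS d L) (conjS d L') :=
    ⟨by rw [← conjS_wA, ← conjS_wA, d6 _ _ (le_sup_right.trans h.pair.U_le_K) hs.1],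
      by rw [← conjS_wA, ← conjS_wA, d6 _ _ (le_sup_left.trans h.pair.U_le_K) hs.2]⟩
  have d7 : d ∈ zpowers u ⊔ zpowers a :=
    zpowers_le.2 (mul_mem (mem_sup_left (mem_zpowers u)) (mem_sup_right (mem_zpowers a))) d1
  exact absurd (mem_normalizer_iff_conjS.2 ((conjS_Ug _ _ _).trans (b4_eq hs hd (s3c hG hq (h.conj d) h
    (b4_K d4) (p1.to_le (sup_le (zpowers_le.2 (mul_mem (mul_mem d7 (mem_sup_left (mem_zpowers u)))
      (inv_mem d7))) le_sup_left)) d3)))) d2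

theorem b4_red (hk : k ∈ Kg L L' ⊔ zpowers y) (hn : y ∈ normalizer (conjS k (Ug L L') : Set G)) :
    y ∉ normalizer (conjS k (wA L) : Set G) ∧ k ∈ normalizer (Ug L L' : Set G) := by
  have key : ∀ k ∈ Kg L L', y ∈ normalizer (conjS k (Ug L L') : Set G) →
      Swp y (conjS k L) (conjS k L') ∧ k ∈ normalizer (Ug L L' : Set G) := fun k hk hn => by
    have := ((h.pair.conj k).conj_cases (conjS_Ug k L L' ▸ hn)).resolve_left fun e =>
      b4_N hG h hq hy hc hs hk e.1 e.2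
    exact ⟨this, b4_S hG h hq hy hc hs hk this⟩
  have hU := h.pair.norm_of_swp hs
  rcases mem_sup_zp hy.sq (b4_normK hG h hc hs) hk with h1 | h1
  · obtain ⟨h2, h3⟩ := key k h1 hn
    exact ⟨conjS_wA k L ▸ (h.pair.conj k).not_norm_of_swp h2, h3⟩
  · obtain ⟨h2, h3⟩ := key _ h1 (by rwa [conjS_mul, mem_normalizer_iff_conjS.1 hU])
    refine ⟨?_, (mul_mem_cancel_right hU).1 h3⟩
    rw [← hs.2, ← conjS_mul, conjS_wA]
    exact (h.pair.conj _).symm.not_norm_of_swp h2.symm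

end

theorem Ad.not_swp (hG : St G) (h : Ad q u L L') (hq : 2 < q) (hy : Cl y) (hc : Commute u y) :
    ¬ Swp y L L' := fun hs => by
  obtain ⟨n, n1, n2, n3⟩ := h.pair.exists_invol
  have key : ∀ {d : G} {X : Subgroup G}, y ∈ normalizer (conjS d X : Set G) ↔
      d⁻¹ * y * d ∈ normalizer (X : Set G) := by
    intro d X
    rw [← conjS_normalizer, mem_conjS]
  obtain ⟨d, d1, d2⟩ := dihedral_fix n2 hy.sq (h.pair.norm_of_swp hs) n3
  have d3 : d ∈ Kg L L' ⊔ zpowers y := sup_le_sup_right (zpowers_le.2 (h.pair.L_le_K n1)) _ d1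
  rcases d2 with ⟨d2, d4⟩ | d2
  · exact d2 (b4_red hG h hq hy hc hs d3 (key.2 d4)).2
  have e1 : d⁻¹ * y * d * (d⁻¹ * y * d) = 1 := by
    rw [show d⁻¹ * y * d * (d⁻¹ * y * d) = d⁻¹ * (y * y) * d by group, hy.sq, mul_one, inv_mul_cancel]
  have e2 := mem_normalizer_iff_conjS.1 d2
  rw [conjS_mul] at e2
  have h1 : d⁻¹ * y * d ∈ normalizer (L : Set G) := by
    rw [← h.pair.sup_conj n1 n3, mem_normalizer_iff_conjS, conjS_sup, e2, sup_comm]
    nth_rewrite 2 [← e2]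
    rw [← conjS_mul (d⁻¹ * y * d) (d⁻¹ * y * d), e1, conjS_one]
  obtain ⟨e, e3, e4⟩ := h.pair.exists_fix e1 h1
  refine (b4_red hG h hq hy hc hs (mul_mem d3 (mem_sup_left (mem_sup_left e3)))
    (by rwa [conjS_mul, key])).1 ?_
  rw [conjS_mul, key, mem_normalizer_iff_conjS.1 (h.pair.normW (pResOf_le L e3)), mem_normalizer_iff_conjS,
    conjS_wA, mem_normalizer_iff_conjS.1 h1]

theorem Ad.mem_of_cl (hG : St G) (h : Ad q u L L') (hq : 2 < q) (hy : Cl y) (hc : Commute u y) :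
    y ∈ Ug L L' ⊔ centralizer (Kg L L' : Set G) := by
  obtain ⟨h1, h2⟩ := (h.pair.conj_cases (h.norm_of_cl hG hq hy hc)).resolve_right (h.not_swp hG hq hy hc)
  exact h.bstar hG hq hy h1 h2 ((pg_Tt u).to_le (sup_le (sup_le h.le_T (zpowers_le.2 h.cl.mem))
    (zpowers_le.2 (h.cl.mem_Tt hy.pg hc))))

theorem inn_big (hG : St G) (hq : 2 < q) : Inn G q := fun u y L L' h hy hc => by
  rw [h.Kr_eq hG hq]
  obtain ⟨b, hb, c, c1, -, rfl⟩ := h.pair.invol (h.mem_of_cl hG hq hy hc) hy.sq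
  obtain ⟨e, e1, e2⟩ : ∃ e ∈ Kg L L', e * b * e⁻¹ ∈ Rg L L' := by
    rcases hb with hb | hb
    · obtain ⟨e, e1, e2⟩ := h.pair.exists_conj hb
      exact ⟨e, mem_sup_left e1, e2⟩
    · obtain ⟨e, e1, e2⟩ := h.pair.symm.exists_conj hb
      exact ⟨e, mem_sup_right e1, e2.symm⟩
  have h1 : Commute u c := by
    rw [← inv_mul_cancel_left b c]
    exact (h.comm_U (hb.elim mem_sup_left mem_sup_right)).inv_right.mul_right hc
  have e3 : e * (b * c) * e⁻¹ = e * b * e⁻¹ * c := by rw [← conj_mul, c1 e e1, mul_inv_cancel_right]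
  refine ⟨e, e1, e3 ▸ (h.comm_U (mem_sup_left e2.1)).mul_right h1, _, e2, ?_⟩
  rwa [e3, c1 _ (b3_R_le_K h.pair e2), mul_assoc, b3_R_sq h.pair e2, mul_one]

end CfsgLib.Baum
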