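import Mathlib
import Cfsg.Agent.Lib.Baum.Bas
import Cfsg.Agent.Lib.Holt.Wrap

/-! The application of Holt's theorem. -/

set_option autoImplicit false

namespace CfsgLib.Baum

open Subgroup Cfsg CfsgLib.LAE CfsgLib.PLocal CfsgLib.Push CfsgLib.BHS CfsgLib.ZJ CfsgLib.SL2
  CfsgLib.Blocks CfsgLib.LocStr CfsgLib.CGT2
open scoped commutatorElement


universe u

section perm
open Equiv

variable {Ω : Type*} [DecidableEq Ω] {ξ : Perm Ω}

theorem dbl_swap (hξ : ξ * ξ = 1) {a b : Ω} (h : [a, b, ξ a, ξ b].Nodup) :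
    swap a b * swap (ξ a) (ξ b) * (swap a b * swap (ξ a) (ξ b)) = 1 ∧
      Commute ξ (swap a b * swap (ξ a) (ξ b)) := by
  have h1 := (Perm.disjoint_swap_swap h).commute
  have h2 : ∀ z, ξ (ξ z) = z := fun z => by rw [← Perm.mul_apply, hξ, Perm.one_apply]
  refine ⟨by rw [← sq, h1.mul_pow]; simp [sq], ?_⟩
  rw [Commute, SemiconjBy, ← mul_assoc, mul_swap_eq_swap_mul ξ, mul_assoc, mul_swap_eq_swap_mul ξ, h2, h2,
    ← mul_assoc, h1.eq]

theorem dbl_conj {a b c a' b' c' : Ω} (h : [a, b, c, a', b', c'].Nodup) :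
    swap a b * swap a' b' * (swap a c * swap a' c') * (swap a b * swap a' b')⁻¹ = swap b c * swap b' c' ∧
      (swap a b * swap a' b') a = b := by
  simp only [List.nodup_cons, List.mem_cons, List.not_mem_nil, or_false, not_or] at h
  obtain ⟨⟨h1, h2, h3, h4, h5⟩, ⟨h6, h7, h8, h9⟩, ⟨h10, h11, h12⟩, ⟨h13, h14⟩, h15, -⟩ := h
  rw [← conj_mul, ← swap_apply_apply, ← swap_apply_apply]
  simp only [Perm.mul_apply, swap_apply_left, swap_apply_of_ne_of_ne h3 h4, swap_apply_of_ne_of_ne h10 h11,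
    swap_apply_of_ne_of_ne (Ne.symm h2) (Ne.symm h6), swap_apply_of_ne_of_ne (Ne.symm h4) (Ne.symm h8),
    swap_apply_of_ne_of_ne (Ne.symm h14) (Ne.symm h15), swap_apply_of_ne_of_ne (Ne.symm h5) (Ne.symm h9),
    and_self]

/-- Two even involutions which commute with `ξ` and have a product of order three. -/
theorem exists_three [Fintype Ω] (hξ : ξ * ξ = 1) (hu : ∃! a, ξ a = a) (h7 : 7 ≤ Fintype.card Ω) :
    ∃ σ ∈ alternatingGroup Ω, ∃ τ ∈ alternatingGroup Ω, σ * σ = 1 ∧ τ * τ = 1 ∧ Commute ξ σ ∧ Commute ξ τ ∧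
      (σ * τ) ^ 3 = 1 ∧ σ * τ ≠ 1 := by
  obtain ⟨p, -, hp⟩ := hu
  have h2 : ∀ z, ξ (ξ z) = z := fun z => by rw [← Perm.mul_apply, hξ, Perm.one_apply]
  have ex : ∀ l : List Ω, l.length < 7 → ∃ a, a ∉ l := fun l hl => by
    obtain ⟨a, -, ha⟩ := Finset.exists_mem_notMem_of_card_lt_card (s := l.toFinset) (t := Finset.univ)
      (l.toFinset_card_le.trans_lt (hl.trans_le h7))
    exact ⟨a, by simpa using ha⟩
  obtain ⟨a, ha⟩ := ex [p] (by simp)
  obtain ⟨b, hb⟩ := ex [p, a, ξ a] (by simp)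
  obtain ⟨c, hc⟩ := ex [p, a, ξ a, b, ξ b] (by simp)
  have h3 : ∀ z, z ≠ p → ξ z ≠ z := fun z hz e => hz (hp z e)
  have h4 : ∀ z w, z ≠ ξ w → ξ z ≠ w := fun z w h e => h (by rw [← e, h2])
  simp only [List.mem_cons, List.not_mem_nil, or_false, not_or] at ha hb hc
  have a1 := h3 a ha
  have a2 := h3 b hb.1
  have a3 := h3 c hc.1
  have a4 := h4 _ _ hb.2.2
  have a5 := h4 _ _ hc.2.2.1
  have a6 := h4 _ _ hc.2.2.2.2
  have a7 : ξ b ≠ ξ a := ξ.injective.ne hb.2.1
  have a8 : ξ c ≠ ξ a := ξ.injective.ne hc.2.1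
  have a9 : ξ c ≠ ξ b := ξ.injective.ne hc.2.2.2.1
  obtain ⟨s1, s2⟩ := dbl_swap hξ (a := a) (b := b) (by grind)
  obtain ⟨t1, t2⟩ := dbl_swap hξ (a := a) (b := c) (by grind)
  obtain ⟨u1, u2⟩ := dbl_conj (a := a) (b := b) (c := c) (a' := ξ a) (b' := ξ b) (c' := ξ c) (by grind)
  obtain ⟨v1, v2⟩ := dbl_conj (a := a) (b := c) (c := b) (a' := ξ a) (b' := ξ c) (c' := ξ b) (by grind)
  have hs : ∀ {x y z w : Ω}, x ≠ y → z ≠ w → swap x y * swap z w ∈ alternatingGroup Ω := fun h h' => by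
    simp [Perm.mem_alternatingGroup, h, h']
  refine ⟨_, hs (Ne.symm hb.2.1) a7.symm, _, hs (Ne.symm hc.2.1) a8.symm, s1, t1, s2, t2, ?_, fun e => ?_⟩
  · rw [swap_comm c, swap_comm (ξ c), ← u1, inv_eq_of_mul_eq_one_right s1, inv_eq_of_mul_eq_one_right t1] at v1
    generalize swap a b * swap (ξ a) (ξ b) = σ, swap a c * swap (ξ a) (ξ c) = τ at *
    calc (σ * τ) ^ 3 = σ * τ * σ * (τ * σ * τ) := by simp only [pow_succ, pow_zero, one_mul, mul_assoc]
      _ = σ * (τ * (σ * σ) * τ) * σ := by rw [v1]; simp only [mul_assoc]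
      _ = 1 := by rw [s1, mul_one, t1, mul_one, s1]
  · rw [eq_inv_of_mul_eq_one_left e, inv_eq_of_mul_eq_one_right t1, v2] at u2
    exact hc.2.2.2.1 u2

end perm

variable {G : Type u} [Group G] [Finite G]

variable {L P : Subgroup G} {x : G}

omit [Finite G] in
theorem AS.le_of_normal (h : AS L x) {N : Subgroup G} (hN : N.Normal) (h0 : N ≠ ⊥) : L ≤ N := by
  have := h.normal
  rcases h.simple.eq_bot_or_eq_top_of_normal (N.subgroupOf L) inferInstance with e | e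
  · refine absurd (le_bot_iff.1 (h.cent ▸ ?_)) h0
    rw [← commutator_eq_bot_iff_le_centralizer, ← le_bot_iff, ← disjoint_iff.1 (subgroupOf_eq_bot.1 e)]
    exact commutator_le_inf N L
  · exact subgroupOf_eq_top.1 e

theorem AS.two_eq_bot (h : AS L x) (X : Subgroup G) (hX : IsPGroup 2 X) (hN : X.Normal) : X = ⊥ := by
  by_contra h0
  have := (hX.to_le (h.le_of_normal hN h0)).isNilpotent
  have := h.simple
  exact h.ncomm ⟨⟨IsSimpleGroup.comm_iff_isSolvable.2 inferInstance⟩⟩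

theorem AS.res_le (h : AS L x) (E : Subgroup G) : pResOf 2 E ≤ L := by
  have := h.normal
  refine pResOf_le_of_forall_pow_mem fun g _ => ⟨1, ?_⟩
  obtain ⟨l, hl, _, ⟨n, rfl⟩, rfl⟩ := mem_sup_of_normal_left.1 (h.gen.ge (mem_top g))
  have e : x ^ n * x ^ n = 1 := by rw [← (Commute.refl x).mul_zpow, h.cl.sq, one_zpow]
  rw [pow_one, sq, show l * x ^ n * (l * x ^ n) = l * (x ^ n * l * (x ^ n)⁻¹) * (x ^ n * x ^ n) by group, e,
    mul_one]
  exact mul_mem hl (this.conj_mem l hl _)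

theorem AS.step0 (h : AS L x) (hG : ¬ St G) : ∃ P : Subgroup G, P ≠ ⊤ ∧ Ctl x P := by
  have hx := h.cl
  have h1 : ¬ centralizer (Tt x : Set G) ≤ Tt x := fun k => hG ⟨⟨x, hx⟩, fun y hy => by
    obtain ⟨g, -, e⟩ := hx.syl.exists_conj hy.syl
    rw [← e, ← conjS_centralizer]
    exact conjS_mono k⟩
  have h2 : centralizer (Tt x : Set G) ≤ centralizer ({x} : Set G) :=
    centralizer_le (Set.singleton_subset_iff.2 hx.mem)
  set D := pResOf 2 (centralizer (Tt x : Set G)) with hD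
  have h3 : D ≤ centralizer (Tt x : Set G) := pResOf_le _
  have h4 : normalizer (Tt x : Set G) ≤ normalizer (D : Set G) :=
    (normalizer_le_normalizer_centralizer _).trans (normalizer_le_normalizer_pResOf _)
  refine ⟨normalizer (D : Set G), fun e => ?_, (cen_le_norm_Tt x).trans h4, fun g hg => ⟨g, ?_, rfl⟩⟩
  · have h5 := (h.le_of_normal (normalizer_eq_top_iff.1 e) fun k =>
      h1 (hx.le_Tt (pResOf_eq_bot_iff.1 k) h2)).trans h3
    exact hx.ne_one (h.cent.le (le_centralizer_iff.1 h5 hx.mem))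
  obtain ⟨p, hp, h5⟩ := (hx.syl.mono (le_normalizer.trans h4) le_top).exists_conj_le (hx.conj g).pg
    (zpowers_le.2 hg)
  have h6 : p * g * x * (p * g)⁻¹ ∈ Tt x := by
    have := h5 (conj_mem_conjS.2 (mem_zpowers _))
    rwa [show p * (g * x * g⁻¹) * p⁻¹ = p * g * x * (p * g)⁻¹ by group] at this
  refine (mul_mem_cancel_left hp).1 ?_
  generalize p * g = k at h6
  have hy := hx.conj k
  have h7 : D ≤ centralizer ({k * x * k⁻¹} : Set G) :=
    h3.trans (centralizer_le (Set.singleton_subset_iff.2 h6))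
  have h8 : x ∈ Tt x ⊓ centralizer ({k * x * k⁻¹} : Set G) :=
    ⟨hx.mem, mem_centralizer_singleton_iff.2 (comm_of_mem_Tt h6).eq⟩
  have h9 := pq_lemma (p := 2) (V := Tt (k * x * k⁻¹)) (B := Tt x ⊓ centralizer ({k * x * k⁻¹} : Set G))
    (R := D) (pg_Tt _) (inf_le_right.trans (cen_le_norm_Tt _)) (h7.trans (cen_le_norm_Tt _))
    ((pResOf_eq_bot_of_isPGroup (pg_Tt x).to_inf_left).le.trans bot_le)
    ((commutator_eq_bot_iff_le_centralizer.2 (inf_le_left.trans
      (le_centralizer_iff.1 ((pResOf_le _).trans h3)))).le.trans bot_le)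
    (((pResOf_le _).trans h3).trans (centralizer_le (hx.le_Tt (pg_Tt _).to_inf_left
      (inf_le_right.trans (centralizer_le (Set.singleton_subset_iff.2 h8))))))
  rw [hD, pResOf_pResOf] at h9
  have h10 := pResOf_mono (p := 2) h9
  rw [pResOf_pResOf, ← conjS_Tt, ← conjS_centralizer, ← conjS_pResOf] at h10
  exact mem_normalizer_iff_conjS.2 (eq_of_le_of_card_ge h10 (card_conjS k _).le).symm

theorem AS.holt (h : AS L x) (hP : P ≠ ⊤) (hc : Ctl x P) : L = ⊤ ∧ Out G := by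
  have hx := h.cl
  have hn := h.normal
  have : Nontrivial (G ⧸ P) := QuotientGroup.nontrivial_iff.2 hP
  have xP : x ∈ P := hc.1 (mem_centralizer_singleton_iff.2 rfl)
  have hf := Holt.uf_quot xP hc.1 hc.2
  obtain ⟨S, hS⟩ := hx.syl.exists_sylow_top
  have hz : IsTwoCentralInvolution x :=
    ⟨hx.ord, S, show x ∈ (S : Subgroup G) from hS ▸ hx.mem, fun y hy =>
      (comm_of_mem_Tt (show y ∈ Tt x from hS ▸ hy)).symm.eq⟩
  have hj : Function.Injective (MulAction.toPermHom G (G ⧸ P)) := by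
    rw [← MonoidHom.ker_eq_bot_iff]
    by_contra h0
    refine hP (eq_top_iff.2 (h.gen.ge.trans (sup_le ?_ (zpowers_le.2 xP))))
    exact (h.le_of_normal inferInstance h0).trans (normalCore_eq_ker P ▸ normalCore_le P)
  have hA : Holt.AS (G ⧸ P) {d | IsConj x d} L :=
    ⟨Holt.ht_of_central hz hf, fun g hg => (injective_iff_map_eq_one _).1 hj g (Equiv.ext hg), inferInstance,
      fun d hd e he => IsConj.trans (IsConj.symm hd) he, hn, h.simple, h.ncomm, h.cent, fun d hd => by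
        obtain ⟨g, rfl⟩ := isConj_iff.1 hd
        rw [← conjS_eq_of_normal g L, ← conjS_top g, ← h.gen, conjS_sup]
        simp [conjS, MonoidHom.map_zpowers]⟩
  rcases hA.concl with ⟨h1, h2⟩ | h1
  · obtain rfl : L = ⊤ := h.gen.symm.trans (sup_eq_left.2 (zpowers_le.2 (h2 (IsConj.refl x)))) |>.symm
    have hb := h1.bt.of_equiv (topEquiv.symm.trans (equivMapOfInjective ⊤ _ hj))
    refine ⟨rfl, ?_, fun y z hy hz => ?_⟩
    · rcases Holt.bender_list hb with ⟨F, _, _, n, h3, h4, h5⟩ | h3 | h3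
      exacts [Or.inl ⟨F, _, _, n, h3, h4, Or.inl h5⟩, Or.inr (Or.inr (Or.inl h3)), Or.inr (Or.inl h3)]
    · have h3 := hb.isStronglyEmbedded S
      have := StrEmb.nontrivial_quotient h3.1
      exact (StrEmb.uniqueFix_of_isStronglyEmbedded h3).isConj hy.ord hz.ord
  · exfalso
    classical
    have := Fintype.ofFinite (G ⧸ P)
    obtain ⟨σ, s1, τ, t1, s2, t2, s3, t3, h3, h4⟩ := exists_three (ξ := MulAction.toPermHom G (G ⧸ P) x)
      (by rw [← map_mul, hx.sq, map_one]) hf (h1.seven.trans Nat.card_eq_fintype_card.le)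
    rw [← h1.alt] at s1 t1
    obtain ⟨l, -, rfl⟩ := s1
    obtain ⟨m, -, rfl⟩ := t1
    have key : ∀ l : G, MulAction.toPermHom G (G ⧸ P) l * MulAction.toPermHom G (G ⧸ P) l = 1 →
        Commute (MulAction.toPermHom G (G ⧸ P) x) (MulAction.toPermHom G (G ⧸ P) l) → l ∈ Tt x :=
      fun l a b => hx.mem_Tt_of_sq (hj (by rw [map_mul, a, map_one])) (hj (by rw [map_mul, map_mul, b.eq]))
    obtain ⟨k, hk⟩ := isPGroup_iff_forall_mem.1 (pg_Tt x) _ (mul_mem (key l s2 s3) (key m t2 t3))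
    have h5 : (l * m) ^ 3 = 1 := hj (by rw [map_pow, map_mul, h3, map_one])
    refine h4 (by
      rw [← map_mul, orderOf_eq_one_iff.1 (Nat.eq_one_of_dvd_coprimes (Nat.Coprime.pow_left k (by norm_num))
        (orderOf_dvd_of_pow_eq_one hk) (orderOf_dvd_of_pow_eq_one h5)), map_one])

end CfsgLib.Baum
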