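import Mathlib
import Cfsg.Agent.Lib.Baum.Tr1
import Cfsg.Agent.Lib.Baum.Holt

/-! Control of fusion, and the final configuration. -/

set_option autoImplicit false

namespace CfsgLib.Baum

open Subgroup Cfsg CfsgLib.LAE CfsgLib.PLocal CfsgLib.Push CfsgLib.BHS CfsgLib.ZJ CfsgLib.SL2
  CfsgLib.Blocks CfsgLib.LocStr CfsgLib.CGT2
open scoped commutatorElement


universe u

variable {G : Type u} [Group G] [Finite G]

variable {q : ℕ} {x : G} {L L₁ L₁' : Subgroup G}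

omit [Finite G] in
theorem Mut.cen_Kr (hM : Mut G q) (u : G) {R R' : Subgroup G} (h : R ≠ R') :
    Kr q u R ≤ centralizer (Kr q u R' : Set G) :=
  Kr_le_iff.2 fun _ _ a e => le_centralizer_iff.1 (Kr_le_iff.2 fun _ _ a' e' =>
    commutator_eq_bot_iff_le_centralizer.1 (hM u _ _ _ _ a' a (by rw [e, e']; exact h.symm)))

theorem Ad.R_le_Kr (ha : Ad q x L₁ L₁') : Rg L₁ L₁' ≤ Kr q x (Rg L₁ L₁') :=
  ((inf_le_left.trans le_sup_left).trans ha.pair.U_le_K).trans (ha.le_Kr rfl)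

theorem Ad.Kr_ne (ha : Ad q x L₁ L₁') : Kr q x (Rg L₁ L₁') ≠ ⊥ := fun e =>
  ha.pair.comm_ne (by rw [le_bot_iff.1 ((ha.le_Kr rfl).trans e.le), commutator_bot_left])

theorem exists_inn (hM : Mut G q) (hI : Inn G q) {y : G} (hy : Cl y) (hc : Commute x y)
    (s : Finset (Subgroup G)) (hs : ∀ R ∈ s, ∃ L L', Ad q x L L' ∧ Rg L L' = R) :
    ∃ k ∈ Kst q x, Commute x (k * y * k⁻¹) ∧
      ∀ R ∈ s, ∃ r ∈ R, k * y * k⁻¹ * r ∈ centralizer (Kr q x R : Set G) := by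
  classical
  induction s using Finset.induction_on with
  | empty => exact ⟨1, one_mem _, by simpa using hc, by simp⟩
  | insert R' s hR ih =>
    obtain ⟨k, h1, h2, h3⟩ := ih fun R h => hs R (Finset.mem_insert_of_mem h)
    obtain ⟨L, L', a, rfl⟩ := hs R' (Finset.mem_insert_self _ _)
    obtain ⟨k', h4, h5, h6⟩ := hI x _ L L' a (hy.conj k) h2
    rw [show k' * (k * y * k⁻¹) * k'⁻¹ = k' * k * y * (k' * k)⁻¹ by group] at h5 h6
    refine ⟨k' * k, mul_mem (Kr_le_Kst h4) h1, h5, fun R h => ?_⟩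
    rcases Finset.mem_insert.1 h with rfl | h
    · exact h6
    obtain ⟨r, h7, h8⟩ := h3 R h
    obtain ⟨L₂, L₂', a₂, rfl⟩ := hs R (Finset.mem_insert_of_mem h)
    have h9 := hM.cen_Kr x (R' := Rg L₂ L₂') (fun e => hR (by rwa [e])) h4
    refine ⟨r, h7, ?_⟩
    rw [show k' * k * y * (k' * k)⁻¹ * r = k' * (k * y * k⁻¹ * r) * k'⁻¹ * (k' * r⁻¹ * k'⁻¹ * r) by group,
      ← mem_centralizer_iff.1 h9 _ (inv_mem (a₂.R_le_Kr h7)), mul_inv_cancel_right, inv_mul_cancel, mul_one]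
    exact mul_mem (mul_mem h9 h8) (inv_mem h9)

theorem close (hG : St G) (hM : Mut G q) (hI : Inn G q) (hx : Cl x) :
    Ctl x (normalizer (Kst q x : Set G)) := by
  classical
  have h1 : centralizer ({x} : Set G) ≤ normalizer (Kst q x : Set G) := fun g hg =>
    mem_normalizer_iff_conjS.2 (by
      rw [conjS_Kst, mem_centralizer_singleton_iff.1 hg, mul_inv_cancel_right])
  refine ⟨h1, fun g hg => ⟨g, ?_, rfl⟩⟩
  obtain ⟨p, hp, h2⟩ := (hx.syl.mono ((Tt_le x).trans h1) le_top).exists_conj_le (hx.conj g).pg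
    (zpowers_le.2 hg)
  obtain ⟨k, h3, h4, h5⟩ := exists_inn hM hI ((hx.conj g).conj p)
    (comm_of_mem_Tt (h2 (conj_mem_conjS.2 (mem_zpowers _))))
    (Set.toFinite {R | ∃ L L', Ad q x L L' ∧ Rg L L' = R}).toFinset fun R h => by simpa using h
  rw [show k * (p * (g * x * g⁻¹) * p⁻¹) * k⁻¹ = k * p * g * x * (k * p * g)⁻¹ by group] at h4 h5
  refine (mul_mem_cancel_left (mul_mem (le_normalizer h3) hp)).1 ?_
  generalize k * p * g = m at h4 h5
  have h6 : Kst q x ≤ conjS m (Kst q x) := by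
    rw [conjS_Kst]
    refine Kst_le_iff.2 fun L L' a => (a.transfer hG (hx.conj m) h4 fun b hb => ?_).le_Kst
    obtain ⟨r, h7, h8⟩ := h5 (Rg L L') (by simpa using ⟨L, L', a, rfl⟩)
    have h9 := (mul_mem_cancel_right (a.pair.R_le_cen h7)).1
      (centralizer_le (a.pair.U_le_K.trans (a.le_Kr rfl)) h8)
    exact mem_centralizer_singleton_iff.2 (mem_centralizer_iff.1 h9 b hb)
  exact mem_normalizer_iff_conjS.2 (eq_of_le_of_card_ge h6 (card_conjS m _).le).symm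

theorem Mut.norm_Kr (hM : Mut G q) (u : G) (R : Subgroup G) :
    Kst q u ≤ normalizer (Kr q u R : Set G) := by
  refine Kst_le_iff.2 fun L L' a => ?_
  by_cases e : Rg L L' = R
  · exact (a.le_Kr e).trans le_normalizer
  · exact ((a.le_Kr rfl).trans (hM.cen_Kr u e)).trans (centralizer_le_normalizer _)

theorem AS.fin0 (h : AS L x) (hG : St G) (hM : Mut G q) (hI : Inn G q) (ha : Ad q x L₁ L₁')
    (hn : normalizer (Kst q x : Set G) = ⊤) : L = ⊤ ∧ ∃ r : G, ∃ L₂ L₂', Fn q r L₂ L₂' := by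
  have h1 : Kst q x = L := le_antisymm (Kst_le_iff.2 fun _ _ _ => sup_le (h.res_le _) (h.res_le _))
    (h.le_of_normal (normalizer_eq_top_iff.1 hn) fun e => ha.Kr_ne (le_bot_iff.1 (e ▸ Kr_le_Kst)))
  have h2 : Kr q x (Rg L₁ L₁') ≤ L := h1 ▸ Kr_le_Kst
  have h3 : Kr q x (Rg L₁ L₁') = L := le_antisymm h2 (subgroupOf_eq_top.1
    ((h.simple.eq_bot_or_eq_top_of_normal _ (normal_subgroupOf_of_le (h1 ▸ hM.norm_Kr x _))).resolve_left
      fun e => ha.Kr_ne (by rwa [subgroupOf_eq_bot, disjoint_iff, inf_eq_left.2 h2] at e)))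
  obtain ⟨k, h4, h5, r, h6, h7⟩ := hI x x _ _ ha h.cl (Commute.refl x)
  rw [h3, h.cent, mem_bot, mul_eq_one_iff_inv_eq, (h.cl.conj k).inv_eq] at h7
  subst h7
  obtain rfl : L = ⊤ := by
    have h8 := mul_mem (mul_mem (inv_mem h4) (ha.R_le_Kr h6)) h4
    rw [h3, show k⁻¹ * (k * x * k⁻¹) * k = x by group] at h8
    exact (sup_eq_left.2 (zpowers_le.2 h8)).symm.trans h.gen
  have hs := h.simple
  have hs' : IsSimpleGroup G := topEquiv.symm.isSimpleGroup
  have hc : ¬ IsMulCommutative G := fun _ => h.ncomm inferInstance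
  have h8 : Kst q (k * x * k⁻¹) = ⊤ := by rw [← conjS_Kst, h1, conjS_top]
  have h9 : ∀ {L₂ L₂'}, Ad q (k * x * k⁻¹) L₂ L₂' → Kr q (k * x * k⁻¹) (Rg L₂ L₂') = ⊤ := fun a =>
    (hs'.eq_bot_or_eq_top_of_normal _ (normalizer_eq_top_iff.1
      (eq_top_iff.2 (h8 ▸ hM.norm_Kr _ _)))).resolve_left a.Kr_ne
  have a := ha.transfer hG (h.cl.conj k) h5 fun b hb =>
    mem_centralizer_singleton_iff.2 (mem_centralizer_iff.1 (ha.pair.R_le_cen h6) b hb)
  refine ⟨rfl, _, L₁, L₁', hG, hs', hc, a, h6, h9 a, fun L₂ L₂' a₂ => by_contra fun e => hc ⟨⟨fun y z => ?_⟩⟩⟩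
  have := hM.cen_Kr (k * x * k⁻¹) e
  rw [h9 a, h9 a₂] at this
  exact mem_centralizer_iff.1 (this (mem_top z)) y (mem_top y)

end CfsgLib.Baum
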