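import Mathlib
import Cfsg.Agent.Lib.Baum.ModG
import Cfsg.Agent.Lib.Baum.Vz

/-! The local theorem, first part. -/

set_option autoImplicit false
set_option linter.unusedSectionVars false

namespace CfsgLib.Baum

open Subgroup Cfsg CfsgLib.LAE CfsgLib.PLocal CfsgLib.Push CfsgLib.BHS CfsgLib.ZJ CfsgLib.SL2
  CfsgLib.Blocks CfsgLib.LocStr CfsgLib.CGT2
open scoped commutatorElement


variable {G : Type*} [Group G] [Finite G]

variable {S H B L X Y A A' : Subgroup G}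

theorem VZ_eq_sup (hS : IsSylowIn 2 S L) : VZ L = omegaZ 2 S ⊔ WZ L := by
  refine le_antisymm ((VZ_eq_nclIn hS).le.trans ?_) (sup_le (omegaZ_le_VZ hS) WZ_le)
  rw [nclIn_eq_commutator_sup, sup_comm, Subgroup.commutator_comm]
  exact sup_le_sup_left (commutator_mono (omegaZ_le_VZ hS) le_rfl) _

theorem PA.notJ (h : PA B L) (hB : bau 2 B = B) : ¬ thompsonSubgroupOf 2 B ≤ pCoreOf 2 L := fun hJ =>
  h.not_le_normalizer (le_of_le_of_eq (h.pu.baumann_normal hJ fun hc => h.2 (by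
    rw [VZ_eq_nclIn h.syl]
    exact le_centralizer_nclIn (hc.trans (centralizer_anti (omegaZ_le_zj B))) (le_normalizer_pResOf L)))
    (congrArg (fun X : Subgroup G => normalizer (X : Set G)) hB))

theorem PA.le_core_of_cen (h : PA B L) (hX : X ≤ B) (hc : X ≤ centralizer (pResOf 2 L : Set G)) :
    X ≤ pCoreOf 2 L := by
  rcases h.pu.normal_cases (N := cen L (pResOf 2 L)) inf_le_left
    (le_normalizer_cen le_normalizer (le_normalizer_pResOf L)) with h1 | h1
  · exact absurd (pResOf_le_centralizer_of_le (isPGroup_pCoreOf L) (le_normalizer_pCoreOf L)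
      (commutator_le_right_of_le_normalizer ((pCoreOf_le L).trans (le_normalizer_pResOf L)))
      (h1.trans inf_le_right)) h.pu.not_pResOf_le_centralizer
  · exact (le_inf hX (le_inf (hX.trans h.le) hc)).trans h1.2

theorem nclIn_sup_le {C : Subgroup G} (h1 : L ≤ normalizer (C : Set G)) (h2 : C ≤ normalizer (X : Set G))
    (h3 : X ≤ L) : nclIn X (L ⊔ C) ≤ L := nclIn_le_iff.2 fun g hg => by
  obtain ⟨l, hl, c, hc, rfl⟩ := (mem_sup_iff_of_left_le_normalizer h1).1 hg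
  rw [conjS_mul, mem_normalizer_iff_conjS.1 (h2 hc)]
  exact conjS_le_of_le_of_mem h3 hl

/-- The subgroup generated by all roots and the kernel. -/
def RR (H Y : Subgroup G) : Subgroup G := sSup {A | A ≤ H ∧ RootOn Y A} ⊔ cen H Y

/-- The part of the normalizer of `L` that centralizes `[Y, L]`. -/
abbrev KK (H Y L : Subgroup G) : Subgroup G := cen (H ⊓ normalizer (L : Set G)) ⁅Y, L⁆

namespace MH

variable (h : MH H S Y)
include h

theorem normC : H ≤ normalizer (cen H Y : Set G) := le_normalizer_cen le_normalizer h.norm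

theorem norm_RR : H ≤ normalizer (RR H Y : Set G) :=
  LAE.le_normalizer_sup (fun _ hg => mem_normalizer_of_conjS_le (conjS_le_iff.2 (_root_.sSup_le fun _ hC =>
    conjS_le_iff.1 (le_sSup ⟨conjS_le_of_le_of_mem hC.1 hg, hC.2.conj (h.norm hg)⟩)))) h.normC

theorem conjS_sup_C {g : G} (hg : g ∈ H) : conjS g (A ⊔ cen H Y) = conjS g A ⊔ cen H Y := by
  rw [conjS_sup, mem_normalizer_iff_conjS.1 (h.normC hg)]

theorem le_core_sup (hA : IsPGroup 2 A) (hAH : A ≤ H) : A ≤ pCoreOf 2 (A ⊔ cen H Y) := by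
  obtain ⟨g, hg, h1⟩ := h.syl.exists_le_conj hA hAH
  exact (le_inf h1 le_sup_left).trans (le_pCoreOf ((isPGroup_conjS h.syl.isPGroup g).to_le inf_le_left)
    inf_le_right (le_normalizer_inf (sup_le (h1.trans le_normalizer) (h.cen_le hg)) le_normalizer))

theorem pg_sup_of_norm (hA : IsPGroup 2 A) (hAH : A ≤ H) (hA' : IsPGroup 2 A')
    (hn : A' ≤ normalizer ((A ⊔ cen H Y : Subgroup G) : Set G)) : IsPGroup 2 (A ⊔ A' : Subgroup G) :=
  (isPGroup_sup hA' (isPGroup_pCoreOf _) (le_normalizer_pCoreOf_of_le hn)).to_le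
    (sup_le ((h.le_core_sup hA hAH).trans le_sup_right) le_sup_left)

end MH

/-- The rank one group attached to a root. -/
structure Cmp {F : Type} [Field F] (H S Y A L : Subgroup G) (D : NatData F ⊤ L Y (cen Y L)) : Prop where
  mh : MH H S Y
  root : RootOn Y A
  le : L ≤ H
  AC_le : A ⊔ cen H Y ≤ L
  img : D.img A = upU F
  ker : D.ker = cen H Y
  sup : ⁅Y, L⁆ ⊔ cen Y L = Y
  dich : ∀ C ≤ H, RootOn Y C → (∃ l ∈ L, conjS l A ⊔ cen H Y = C ⊔ cen H Y) ∨ C ≤ KK H Y L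

theorem MH.exists_cmp (h : MH H S Y) (hA : RootOn Y A) (hAH : A ≤ H) :
    ∃ (L : Subgroup G) (F : Type) (_ : Field F) (_ : Fintype F) (_ : CharP F 2)
      (D : NatData F ⊤ L Y (cen Y L)), Cmp H S Y A L D := by
  obtain ⟨L, hL, F, _, _, _, D, d1, d2, d3, -, d5, d6⟩ := h.comp hA hAH
  exact ⟨L, F, _, inferInstance, inferInstance, D, h, hA, hL, d1, d2, d3, d5, fun C hC hR =>
    (d6 C hC hR).imp_right fun e => le_inf (le_inf hC (le_normalizer_iff_commutator_le_left.2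
      (e.1.trans (le_sup_right.trans d1)))) (comm_bot_iff'.1 e.2.1)⟩

namespace Cmp

variable {F : Type} [Field F] {D : NatData F ⊤ L Y (cen Y L)} (c : Cmp H S Y A L D)
include c

theorem A_le : A ≤ L := le_sup_left.trans c.AC_le

theorem C_le : cen H Y ≤ L := le_sup_right.trans c.AC_le

theorem V_le : ⁅Y, L⁆ ≤ Y := commutator_le_left_of_le_normalizer D.norm

theorem C_le_K : cen H Y ≤ KK H Y L :=
  le_inf (le_inf inf_le_left (c.C_le.trans le_normalizer)) (inf_le_right.trans (centralizer_anti c.V_le))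

theorem normV : H ⊓ normalizer (L : Set G) ≤ normalizer ((⁅Y, L⁆ : Subgroup G) : Set G) :=
  le_normalizer_commutator (inf_le_left.trans c.mh.norm) inf_le_right

theorem normK : H ⊓ normalizer (L : Set G) ≤ normalizer (KK H Y L : Set G) :=
  le_normalizer_cen le_normalizer c.normV

theorem L_le : L ≤ H ⊓ normalizer (L : Set G) := le_inf c.le le_normalizer

theorem comm_K : ⁅Y, KK H Y L⁆ ≤ cen Y L :=
  (commutator_mono c.sup.ge le_rfl).trans (commutator_sup_le
    (le_normalizer_of_le_comm c.mh.elem.1 c.V_le inf_le_left) le_normalizer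
    ((comm_bot_iff'.2 inf_le_right).le.trans bot_le) (commutator_le_left_of_le_normalizer
      (inf_le_left.trans (le_normalizer_cen (inf_le_left.trans c.mh.norm) inf_le_right))))

theorem inf_K : KK H Y L ⊓ L ≤ cen H Y :=
  (le_ker_of_commutator D inf_le_right ((commutator_mono le_rfl inf_le_left).trans c.comm_K)).trans c.ker.le

theorem not_le_K (hA' : RootOn Y A') (h1 : A' ≤ L) : ¬ A' ≤ KK H Y L := fun e =>
  hA'.ne (((le_inf e h1).trans c.inf_K).trans inf_le_right)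

theorem K_norm : KK H Y L ≤ normalizer ((A ⊔ cen H Y : Subgroup G) : Set G) :=
  le_normalizer_iff_commutator_le_right.2 ((commutator_mono le_rfl c.AC_le).trans
    (((le_inf (commutator_le_left_of_le_normalizer (c.L_le.trans c.normK))
      (commutator_le_right_of_le_normalizer (inf_le_left.trans inf_le_right))).trans c.inf_K).trans
        le_sup_right))

theorem RR_le : RR H Y ≤ H ⊓ normalizer (L : Set G) :=
  sup_le (_root_.sSup_le fun C hC => (c.dich C hC.1 hC.2).elim (fun ⟨_, hl, e⟩ =>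
    ((le_sup_left.trans e.ge).trans (sup_le (conjS_le_of_le_of_mem c.A_le hl) c.C_le)).trans c.L_le)
      fun e => e.trans inf_le_left) (c.C_le.trans c.L_le)

theorem not_le_cen : ¬ L ≤ centralizer ((⁅Y, A⁆ : Subgroup G) : Set G) := fun e =>
  c.root.ne (((le_ker_of_commutator D c.A_le (le_inf (commutator_le_left_of_le_normalizer c.root.norm)
    (le_centralizer_iff.1 e))).trans c.ker.le).trans inf_le_right)

theorem img_sup_C (hX : X ≤ L) : D.img (X ⊔ cen H Y) = D.img X := by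
  rw [D.img_sup hX c.C_le, ← c.ker, D.img_ker, sup_bot_eq]

theorem eq_sup {l : G} (hl : l ∈ H) (hn : ¬ IsPGroup 2 (A ⊔ conjS l A : Subgroup G)) :
    L = A ⊔ conjS l A ⊔ cen H Y := by
  have hAH := c.A_le.trans c.le
  have h1 := mt (c.mh.pg_sup_of_norm c.root.two hAH (isPGroup_conjS c.root.two l)) hn
  obtain ⟨x, hx, e⟩ := (c.dich _ (conjS_le_of_le_of_mem hAH hl) (c.root.conj (c.mh.norm hl))).resolve_right
    fun e => h1 (e.trans c.K_norm)
  have h2 := conjS_le_of_le_of_mem c.A_le hx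
  rw [sup_assoc, ← e, ← sup_assoc]
  refine le_antisymm (D.le_of_img_le le_rfl (c.ker.le.trans le_sup_right) (le_top.trans ?_))
    (sup_le (sup_le c.A_le h2) c.C_le)
  rw [c.img_sup_C (sup_le c.A_le h2), D.img_sup c.A_le h2, D.img_conjS hx, c.img]
  refine (upU_sup_conjS fun hb => h1 (((le_sup_left.trans e.ge).trans (sup_le
    (D.le_of_img_le h2 (c.ker.le.trans le_sup_right) ?_) le_sup_right)).trans le_normalizer)).ge
  rw [c.img_sup_C c.A_le, D.img_conjS hx, c.img, mem_normalizer_iff_conjS.1 (borel_le_normalizer hb)]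

theorem comm_eq {l : G} (hl : l ∈ H) (hn : ¬ IsPGroup 2 (A ⊔ conjS l A : Subgroup G)) :
    ⁅Y, L⁆ = ⁅Y, A ⊔ conjS l A⁆ := by
  have h1 := c.eq_sup hl hn
  rw [← commutator_sup_of_le_centralizer (C := cen H Y) inf_le_right
    ((le_sup_left.trans (h1.ge.trans c.le)).trans c.mh.normC), sup_comm, ← h1]

variable [Fintype F] [CharP F 2]

theorem eq_or_le (hA' : RootOn Y A') (hH : A' ≤ H) (hp : IsPGroup 2 (A ⊔ A' : Subgroup G)) :
    A' ⊔ cen H Y = A ⊔ cen H Y ∨ A' ≤ KK H Y L := (c.dich _ hH hA').imp_left fun ⟨l, hl, e⟩ => by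
  have h1 : A' ≤ L := (le_sup_left.trans e.ge).trans (sup_le (conjS_le_of_le_of_mem c.A_le hl) c.C_le)
  refine eq_of_le_of_card_ge (sup_le (D.le_of_img_le h1 (c.ker.le.trans le_sup_right) ?_) le_sup_right)
    (by rw [← e, ← c.mh.conjS_sup_C (c.le hl), card_conjS])
  rw [c.img_sup_C c.A_le, c.img, ← img_eq_upU D hp (c.img.ge.trans (D.img_mono le_sup_left))]
  exact D.img_mono le_sup_right

theorem mem_normalizer {g : G} (hg : g ∈ H ⊓ normalizer (L : Set G))
    (hp : IsPGroup 2 (A ⊔ conjS g A : Subgroup G)) : g ∈ normalizer ((A ⊔ cen H Y : Subgroup G) : Set G) := by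
  rw [mem_normalizer_iff_conjS, c.mh.conjS_sup_C hg.1]
  have h1 : conjS g A ≤ L := (conjS_mono c.A_le).trans (mem_normalizer_iff_conjS.1 hg.2).le
  exact (c.eq_or_le (c.root.conj (c.mh.norm hg.1)) (h1.trans c.le) hp).resolve_right
    (c.not_le_K (c.root.conj (c.mh.norm hg.1)) h1)

theorem exists_not_pg : ∃ l ∈ L, ¬ IsPGroup 2 (A ⊔ conjS l A : Subgroup G) := by
  obtain ⟨l, hl, e⟩ := D.φ_surj ww (mem_top _)
  refine ⟨l, hl, fun hp => borel_ne_top (F := F) (top_le_iff.1 (le_trans ?_ upU_le_borel))⟩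
  rw [← img_eq_upU D hp (c.img.ge.trans (D.img_mono le_sup_left)),
    D.img_sup c.A_le (conjS_le_of_le_of_mem c.A_le hl), D.img_conjS hl, c.img, e,
    upU_sup_conjS ww_not_mem_borel]

end Cmp

theorem LH.mh (h : LH S H) : MH H S (VZ H) where
  elem := elemAb_VZ h.char
  le := VZ_le
  norm := le_normalizer_VZ
  syl := h.syl
  cS := by rw [cen_VZ h.char h.syl]; exact h.cz
  gen := by rw [cen_VZ h.char h.syl, VZ_eq_nclIn h.syl]

theorem LH.VS (h : LH S H) : VZ H ≤ S := (VZ_le_Q h.char).trans h.syl.pCoreOf_le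

theorem LH.BH (h : LH S H) : bau 2 S ≤ H := (bau_le S).trans h.syl.le

theorem LH.JH (h : LH S H) : thompsonSubgroupOf 2 S ≤ H := (thompsonSubgroupOf_le S).trans h.syl.le

theorem LH.pB (h : LH S H) : IsPGroup 2 (bau 2 S) := h.syl.isPGroup.to_le (bau_le S)

theorem LH.V_le (h : LH S H) : VZ H ≤ thompsonSubgroupOf 2 S := by
  obtain ⟨A, hA⟩ := maxElemIn_nonempty (p := 2) S
  exact le_sup_right.trans (le_thompsonSubgroupOf (inf_sup_mem_maxElemIn hA h.mh.elem h.VS
    (VZ_le_centralizer h.char) le_rfl (h.mh.nov ((mem_maxElemIn.1 hA).1.trans h.syl.le)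
      (mem_maxElemIn.1 hA).2.1)))

theorem LH.C_norm (h : LH S H) : cen H (VZ H) ≤ normalizer (S : Set G) := by
  simpa only [conjS_one] using h.mh.cen_le (one_mem H)

theorem LH.cen_le (h : LH S H) : cen H (VZ H) ≤ normalizer (bau 2 S : Set G) :=
  h.C_norm.trans (normalizer_le_normalizer_bau S)

/-- The Baumann subgroup is generated by roots modulo the kernel. -/
theorem LH.bau_le (h : LH S H) :
    bau 2 S ≤ sSup {A | A ≤ thompsonSubgroupOf 2 S ∧ RootOn (VZ H) A} ⊔ cen H (VZ H) := by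
  have h1 : thompsonSubgroupOf 2 S ≤ sSup {A | A ≤ thompsonSubgroupOf 2 S ∧ RootOn (VZ H) A} ⊔
      cen H (VZ H) := thompsonSubgroupOf_le_iff.2 fun A hA => by
    have hA' := mem_maxElemIn.1 hA
    exact (h.mh.off (hA'.1.trans h.syl.le) hA'.2.1 (relIndex_le_of_maxElemIn hA h.mh.elem h.VS
      (VZ_le_centralizer h.char) le_rfl)).trans (sup_le_sup (sSup_le_sSup fun C hC =>
        ⟨hC.1.trans (le_thompsonSubgroupOf hA), hC.2⟩) (inf_le_inf_right _ (hA'.1.trans h.syl.le)))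
  refine (h.mh.le_of_cen (thompsonSubgroupOf_le S) h1 (Blocks.bau_le S) ((bau_le_centralizer S).trans
    (centralizer_anti ?_))).trans (sup_le h1 le_sup_right)
  rw [← omegaOne_centralizer_thompson]
  exact le_omegaOne_of_elemAb (elemAb_mono h.mh.elem inf_le_left) (inf_le_inf_right _ h.VS)

theorem LH.bau_eq (h : LH S H) (hX : IsPGroup 2 X) (hH : X ≤ H) (hB : bau 2 S ≤ X) : bau 2 X = bau 2 S := by
  obtain ⟨T, hT, h1⟩ := exists_isSylowIn_ge hX hH
  have h2 := bau_eq_of_sylow h.syl hT (hB.trans h1)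
  exact (bau_eq_of_le (h2.le.trans hB) h1).trans h2

theorem LH.ncl_le (h : LH S H) : nclIn (bau 2 S) H ≤ RR H (VZ H) :=
  nclIn_le (h.bau_le.trans (sup_le_sup_right (sSup_le_sSup fun _ hC => And.intro (hC.1.trans h.JH) hC.2) _))
    h.mh.norm_RR

section

variable {F : Type} [Field F] [Fintype F] [CharP F 2] {D : NatData F ⊤ L (VZ H) (cen (VZ H) L)}

theorem LH.eq_or_le (h : LH S H) (c : Cmp H S (VZ H) A L D) (hJ : A ≤ thompsonSubgroupOf 2 S)
    (hA' : RootOn (VZ H) A') (hJ' : A' ≤ thompsonSubgroupOf 2 S) :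
    A' ⊔ cen H (VZ H) = A ⊔ cen H (VZ H) ∨ A' ≤ KK H (VZ H) L :=
  c.eq_or_le hA' (hJ'.trans h.JH) (h.syl.isPGroup.to_le ((sup_le hJ hJ').trans (thompsonSubgroupOf_le S)))

theorem LH.bau_le_K (h : LH S H) (c : Cmp H S (VZ H) A L D) (hJ : A ≤ thompsonSubgroupOf 2 S) :
    bau 2 S ≤ KK H (VZ H) L ⊔ A :=
  h.bau_le.trans (sup_le (_root_.sSup_le fun _ hC => (h.eq_or_le c hJ hC.2 hC.1).elim
    (fun e => (le_sup_left.trans e.le).trans (sup_le le_sup_right (c.C_le_K.trans le_sup_left)))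
    fun e => e.trans le_sup_left) (c.C_le_K.trans le_sup_left))

theorem LH.bau_norm (h : LH S H) (c : Cmp H S (VZ H) A L D) : bau 2 S ≤ H ⊓ normalizer (L : Set G) :=
  ((le_nclIn _ _).trans h.ncl_le).trans c.RR_le

theorem LH.bau_cen (h : LH S H) (c : Cmp H S (VZ H) A L D) (hJ : A ≤ thompsonSubgroupOf 2 S) :
    bau 2 S ≤ centralizer ((⁅VZ H, A⁆ : Subgroup G) : Set G) :=
  (h.bau_le_K c hJ).trans (sup_le (inf_le_right.trans (centralizer_anti (commutator_mono le_rfl c.A_le)))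
    (le_centralizer_iff.1 c.root.quad))

theorem LH.not_res_le (h : LH S H) (c : Cmp H S (VZ H) A L D) (hJ : A ≤ thompsonSubgroupOf 2 S)
    {P : Subgroup G} (hP : IsSylowIn 2 (bau 2 S) P) (hL : L ≤ P ⊔ cen H (VZ H)) :
    ¬ pResOf 2 P ≤ centralizer ((⁅VZ H, A⁆ : Subgroup G) : Set G) := fun e =>
  c.not_le_cen (hL.trans (sup_le (hP.le_of_pResOf_le e (h.bau_cen c hJ)) (inf_le_right.trans
    (centralizer_anti (commutator_le_left_of_le_normalizer c.root.norm)))))

theorem LH.exists_pa' (h : LH S H) (c : Cmp H S (VZ H) A L D) (hJ : A ≤ thompsonSubgroupOf 2 S) :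
    ∃ P ≤ H, PA (bau 2 S) P ∧ P ⊔ cen H (VZ H) = L ⊔ bau 2 S ∧ pCoreOf 2 P = cen (bau 2 S) ⁅VZ H, L⁆ := by
  have hAB := hJ.trans (J_le_bau S)
  set B' := bau 2 S ⊓ KK H (VZ H) L with hB'
  have h1 : B' ⊔ A = bau 2 S := by
    rw [← inf_sup_of_le_of_le_normalizer' ((c.A_le.trans c.L_le).trans c.normK) hAB,
      inf_of_le_left (h.bau_le_K c hJ)]
  have hX : L ⊔ B' = L ⊔ bau 2 S := by rw [← h1, sup_comm B', ← sup_assoc, sup_of_le_left c.A_le]
  have hn : B' ≤ H ⊓ normalizer (L : Set G) := inf_le_right.trans inf_le_left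
  have hXn := sup_le c.L_le hn
  obtain ⟨N, e1, e2⟩ := exists_enlarge D (Y := B') ((le_kl_iff (hn.trans (inf_le_left.trans h.mh.norm))).2
    ((commutator_mono le_rfl inf_le_right).trans c.comm_K))
  have hk : N.ker ≤ cen H (VZ H) ⊔ B' := fun x hx => by
    obtain ⟨hx1, hx2⟩ := N.mem_ker.1 hx
    obtain ⟨a, ha, b, hb, rfl⟩ := (mem_sup_iff_of_right_le_normalizer (hn.trans inf_le_right)).1 hx1
    rw [N.φ_mul (mem_sup_left ha) (mem_sup_right hb), e1 a ha, e2 b hb, mul_one] at hx2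
    exact mul_mem_sup (c.ker.le (D.mem_ker.2 ⟨ha, hx2⟩)) hb
  have hk1 : N.ker ≤ centralizer ((⁅VZ H, L⁆ : Subgroup G) : Set G) :=
    (hk.trans (sup_le c.C_le_K inf_le_right)).trans inf_le_right
  have hk2 : (L ⊔ B') ⊓ centralizer ((⁅VZ H, L⁆ : Subgroup G) : Set G) ≤ N.ker :=
    le_ker_of_commutator N inf_le_left ((commutator_mono le_rfl (inf_le_inf_right _ hXn)).trans c.comm_K)
  have hBX : bau 2 S ≤ L ⊔ B' := le_sup_right.trans hX.ge
  obtain ⟨T, hT, h2⟩ := exists_isSylowIn_ge h.pB hBX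
  have h3 := h.bau_eq hT.isPGroup (hT.le.trans (hXn.trans inf_le_left)) h2
  have hiA : upU F ≤ N.img A := fun g hg => by
    obtain ⟨y, hy, hy', rfl⟩ := D.mem_img.1 (c.img.ge hg)
    exact N.mem_img.2 ⟨y, mem_sup_left hy, hy', e1 y hy⟩
  have hVB := h.V_le.trans (J_le_bau S)
  obtain ⟨P, hP, M, k1, k2, k3⟩ := exists_PU_bau N (h.char.of_pCoreOf_le (hXn.trans inf_le_left)
    (((le_inf (pCoreOf_le H) Q_le_centralizer_VZ).trans c.C_le).trans le_sup_left)) hT
    (img_eq_upU N hT.isPGroup (hiA.trans (N.img_mono (hAB.trans h2)))) (elemAb_mono h.mh.elem c.V_le)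
    (hXn.trans c.normV) (c.V_le.trans (le_inf (hVB.trans h2) ((le_inf (hVB.trans hBX)
      ((VZ_le_centralizer h.char).trans (centralizer_anti c.V_le))).trans hk2)))
    (inf_le_right.trans hk1) hk2 fun e => upU_ne_bot (F := F) (le_bot_iff.1 (hiA.trans
      ((N.img_eq_bot_iff (c.A_le.trans le_sup_left)).2 (hJ.trans (le_trans (by
        rw [← J_bau T, h3, J_bau]) e))).le))
  rw [h3] at k1 k3
  have k4 : P ⊔ cen H (VZ H) = L ⊔ B' := le_antisymm (sup_le hP (c.C_le.trans le_sup_left))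
    (N.le_of_img_le le_rfl (hk.trans (sup_le le_sup_right ((inf_le_left.trans k1.SP).trans le_sup_left)))
      (le_top.trans (k2.ge.trans (N.img_mono le_sup_left))))
  refine ⟨P, hP.trans (hXn.trans inf_le_left), ⟨⟨M, k1⟩, fun e => h.not_res_le c hJ k1.syl
    (le_sup_left.trans k4.ge) (e.trans (centralizer_anti (le_trans ?_ (omegaZ_le_VZ k1.syl))))⟩,
    k4.trans hX, k3.trans (le_antisymm (inf_le_inf_left _ hk1)
      (le_inf inf_le_left ((inf_le_inf_right _ hBX).trans hk2)))⟩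
  have h4 := commutator_le_left_of_le_normalizer c.root.norm
  exact le_omegaZ (elemAb_mono h.mh.elem h4) (h4.trans hVB) (le_centralizer_iff.1 (h.bau_cen c hJ))

end

/-- Every root in `J(S)` gives a pre-atom. -/
theorem LH.exists_pa (h : LH S H) {A : Subgroup G} (hA : RootOn (VZ H) A)
    (hJ : A ≤ thompsonSubgroupOf 2 S) {l : G} (hl : l ∈ H)
    (hn : ¬ IsPGroup 2 (A ⊔ conjS l A : Subgroup G)) :
    ∃ L ≤ H, PA (bau 2 S) L ∧
      L ⊔ cen H (VZ H) = A ⊔ conjS l A ⊔ bau 2 S ⊔ cen H (VZ H) ∧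
      pCoreOf 2 L = cen (bau 2 S) ⁅VZ H, A ⊔ conjS l A⁆ := by
  obtain ⟨L, F, _, _, _, D, c⟩ := h.mh.exists_cmp hA (hJ.trans h.JH)
  obtain ⟨P, k1, k2, k3, k4⟩ := h.exists_pa' c hJ
  exact ⟨P, k1, k2, by rw [k3, sup_right_comm, ← c.eq_sup hl hn], by rw [k4, c.comm_eq hl hn]⟩

theorem LH.gen (h : LH S H) :
    H ≤ normalizer (bau 2 S : Set G) ⊔ sSup {L | L ≤ H ∧ PA (bau 2 S) L} := by
  have hN := nclIn_le_of_le h.BH
  have hS := h.syl.inf_of_normal hN (le_normalizer_nclIn _ _)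
  have h1 : normalizer ((S ⊓ nclIn (bau 2 S) H : Subgroup G) : Set G) ≤ normalizer (bau 2 S : Set G) := by
    have := normalizer_le_normalizer_bau (p := 2) (S ⊓ nclIn (bau 2 S) H)
    rwa [bau_eq_of_le (le_inf (Blocks.bau_le S) (le_nclIn _ _)) inf_le_left] at this
  refine (hS.frattini_sup hN (le_normalizer_nclIn _ _)).ge.trans
    (sup_le (nclIn_le_iff.2 fun g hg => ?_) ((inf_le_right.trans h1).trans le_sup_left))
  refine (conjS_mono h.bau_le).trans ((h.mh.conjS_sup_C hg).le.trans (sup_le (conjS_le_iff.2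
    (_root_.sSup_le fun A hA => conjS_le_iff.1 ?_)) (h.cen_le.trans le_sup_left)))
  obtain ⟨n, hn, y, hy, rfl⟩ := hS.frattini (le_normalizer_nclIn _ _ hg)
  have hJ : conjS y A ≤ thompsonSubgroupOf 2 S := (conjS_mono hA.1).trans (by
    rw [← J_bau S, conjS_J, mem_normalizer_iff_conjS.1 (h1 hy)])
  obtain ⟨L, F, _, _, _, D, c⟩ := h.mh.exists_cmp (hA.2.conj (h.mh.norm
    ((Subgroup.mul_mem_cancel_left _ (hN hn)).1 hg))) (hJ.trans h.JH)
  obtain ⟨P, k1, k2, k3, -⟩ := h.exists_pa' c hJ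
  rw [conjS_mul]
  exact ((conjS_mono c.A_le).trans (mem_normalizer_iff_conjS.1 (c.RR_le (h.ncl_le hn)).2).le).trans
    ((le_sup_left.trans k3.ge).trans (sup_le (le_trans (le_sSup (by exact ⟨k1, k2⟩)) le_sup_right)
      (h.cen_le.trans le_sup_left)))

theorem LH.le_core (h : LH S H) (hX : X ≤ bau 2 S)
    (hc : ∀ L ≤ H, PA (bau 2 S) L → X ≤ pCoreOf 2 L) : X ≤ pCoreOf 2 H := by
  obtain ⟨s, ⟨h1, h2⟩, hmin⟩ := (Set.toFinite {s : Set (Subgroup G) |
    (∀ A ∈ s, A ≤ thompsonSubgroupOf 2 S ∧ RootOn (VZ H) A) ∧ X ≤ sSup s ⊔ cen H (VZ H)}).exists_minimal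
      ⟨_, fun _ hA => hA, hX.trans h.bau_le⟩
  rcases s.eq_empty_or_nonempty with rfl | ⟨A, hA⟩
  · rw [sSup_empty, bot_sup_eq] at h2
    exact (le_inf (hX.trans (Blocks.bau_le S)) (h2.trans inf_le_right)).trans h.mh.core.le
  obtain ⟨L, F, _, _, _, D, c⟩ := h.mh.exists_cmp (h1 A hA).2 ((h1 A hA).1.trans h.JH)
  obtain ⟨P, k1, k2, -, k4⟩ := h.exists_pa' c (h1 A hA).1
  have h3 : sSup {C | C ∈ s ∧ C ≤ KK H (VZ H) L} ⊔ cen H (VZ H) ≤ KK H (VZ H) L :=
    sup_le (_root_.sSup_le fun _ hC => hC.2) c.C_le_K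
  refine absurd (hmin (y := {C | C ∈ s ∧ C ≤ KK H (VZ H) L}) ⟨fun C hC => h1 C hC.1, ?_⟩
    (fun _ hC => hC.1) hA).2 (c.not_le_K c.root c.A_le)
  refine (le_inf (((hc P k1 k2).trans k4.le).trans (inf_le_inf_right _ (h.bau_norm c))) (h2.trans (sup_le
    (_root_.sSup_le fun C hC => ?_) (le_sup_right.trans le_sup_left)))).trans
      ((inf_sup_of_le_of_le_normalizer' (h3.trans c.K_norm) h3).le.trans (sup_le
        (((inf_le_inf_left _ c.AC_le).trans c.inf_K).trans le_sup_right) le_rfl))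
  exact (h.eq_or_le c (h1 A hA).1 (h1 C hC).2 (h1 C hC).1).elim
    (fun e => (le_sup_left.trans e.le).trans le_sup_left)
    fun e => le_trans (le_trans (le_sSup (by exact ⟨hC, e⟩)) le_sup_left) le_sup_right

end CfsgLib.Baum
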