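import Mathlib
import Cfsg.Agent.Lib.Baum.Loc1
import Cfsg.Agent.Lib.CGT2.Good
import Cfsg.Agent.Lib.BHS.Rank1a

/-! Critical pairs over the same subgroup are atoms. -/

set_option autoImplicit false

namespace CfsgLib.Baum

open Subgroup Cfsg CfsgLib.LAE CfsgLib.PLocal CfsgLib.Push CfsgLib.BHS CfsgLib.ZJ CfsgLib.SL2
  CfsgLib.Blocks CfsgLib.LocStr CfsgLib.CGT2
open scoped commutatorElement


variable {G : Type*} [Group G] [Finite G]

variable {B L L' : Subgroup G}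

theorem VZ_eq_sup_res (hS : IsSylowIn 2 B L) : VZ L = omegaZ 2 B ⊔ ⁅VZ L, pResOf 2 L⁆ := by
  have h1 : ⁅VZ L, pResOf 2 L⁆ ≤ VZ L :=
    commutator_le_left_of_le_normalizer ((pResOf_le L).trans le_normalizer_VZ)
  refine le_antisymm ((VZ_eq_nclIn hS).le.trans (nclIn_le le_sup_left (hS.pResOf_sup.ge.trans (sup_le
    (le_normalizer_iff_commutator_le_left.2 ((commutator_mono (sup_le (omegaZ_le_VZ hS) h1) le_rfl).trans
      le_sup_right)) (LAE.le_normalizer_sup (le_normalizer_omegaZ_of_le le_normalizer) (hS.le.trans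
        (le_normalizer_commutator le_normalizer_VZ (le_normalizer_pResOf L))))))))
    (sup_le (omegaZ_le_VZ hS) h1)

theorem PA.WZ_eq_comm (h : PA B L) : WZ L = ⁅VZ L, pResOf 2 L⁆ := by
  have hn : L ≤ normalizer ((⁅VZ L, pResOf 2 L⁆ : Subgroup G) : Set G) :=
    le_normalizer_commutator le_normalizer_VZ (le_normalizer_pResOf L)
  refine le_antisymm ((le_kl_iff le_normalizer_VZ).1 (h.E_sup.ge.trans (sup_le
    ((le_kl_iff ((pResOf_le L).trans le_normalizer_VZ)).2 le_rfl)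
    ((le_kl_iff (h.le.trans le_normalizer_VZ)).2 ?_)))) (commutator_mono le_rfl (pResOf_le L))
  refine (commutator_mono (VZ_eq_sup_res h.syl).le le_rfl).trans (commutator_sup_le
    (((omegaZ_le B).trans h.le).trans hn) le_normalizer ?_ (commutator_le_left_of_le_normalizer (h.le.trans hn)))
  rw [comm_bot_iff.2 (omegaZ_le_centralizer B)]
  exact bot_le

theorem crit_symm (h : PA B L) (h' : PA B L') (hc : ¬ VZ L ≤ pCoreOf 2 L') :
    ¬ VZ L' ≤ pCoreOf 2 L := fun e => h.nn ((crit_sup h h' h.VS h'.VS hc).1.ge.trans (sup_le e le_rfl))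

theorem PA.cen_WZ (h : PA B L) : cen B (WZ L) = pCoreOf 2 L := by
  rw [← h.cen_S_V]
  conv_rhs => rw [VZ_eq_sup h.syl, cen_sup,
    inf_of_le_right (le_inf inf_le_left (inf_le_left.trans (le_centralizer_omegaZ B)))]

theorem crit_atom (h : PA B L) (h' : PA B L') (hc : ¬ VZ L ≤ pCoreOf 2 L') :
    IsAtom B L ∧ wA L = WZ L ∧ cen B (wA L) = pCoreOf 2 L := by
  obtain ⟨F, _, _, D, -, d2, d3, d4, d5, d6⟩ := crit_nat h h' h.VS h'.VS hc
  have h1 := (crit_sup h h' h.VS h'.VS hc).2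
  have h2 : ⁅VZ L', VZ L⁆ ≤ WZ L := (Subgroup.commutator_comm _ _).le.trans
    (commutator_mono le_rfl (h'.VS.trans h.le))
  have h3 : ⁅VZ L', pCoreOf 2 L⁆ ≤ WZ L :=
    (commutator_mono le_rfl h.QS).trans ((commutator_VZ_eq h'.le h1).le.trans h2)
  have h4 : ⁅pCoreOf 2 L, pResOf 2 L⁆ = WZ L := by
    refine le_antisymm ?_ (h.WZ_eq_comm.le.trans (commutator_mono h.VQ le_rfl))
    rw [Subgroup.commutator_comm]
    exact (commutator_mono (h.pu.pResOf_le_nclIn h'.VS (crit_symm h h' hc)) le_rfl).trans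
      (commutator_nclIn_le ((h'.VS.trans h.le).trans le_normalizer_WZ) (le_normalizer_pCoreOf L)
        le_normalizer_WZ h3)
  have h5 : wA L = WZ L := (core_res h.pu d5 (by rw [commutator_VZ_eq h'.le h1, h4]; exact h2)).trans h4
  have h6 : cen L (VZ L) = pCoreOf 2 L := le_antisymm (h.pu.cen_le_of_commutator_le inf_le_left
    (le_normalizer_cen le_normalizer le_normalizer_VZ) ((commutator_mono le_rfl (pResOf_mono inf_le_left)).trans
      (h4.le.trans WZ_le)) inf_le_right) (le_inf (pCoreOf_le L) Q_le_centralizer_VZ)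
  have := charP_of_relIndex h.two d6
  refine ⟨⟨F, inferInstance, inferInstance, ?_⟩, h5, by rw [h5, h.cen_WZ]⟩
  rw [h5]
  refine nonempty_atom (natSub D WZ_le (fun x hx => ?_) le_normalizer_WZ)
    (by rw [← inf_assoc, inf_of_le_left WZ_le]) h.two h.le (WZ_le.trans h.VS) (elemAb_mono h.elem WZ_le) d2
    (d3.trans (h6.trans h.cen_WZ.symm)) (Subgroup.ext fun x => ?_) (by rw [h.cen_WZ, h4]) h5
  · obtain ⟨a, ha, b, hb, rfl⟩ := exists_mul_of_sup_eq h.elem.1 (commutator_res_sup h.pu D d2) hx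
    rw [← h.WZ_eq_comm] at ha
    exact ⟨a, ha, by rw [D.π_mul _ (WZ_le ha) _ hb.1, D.π_of_mem hb, add_zero]⟩
  · rw [← h.cen_V] at d4
    exact and_congr_right fun hx => ⟨fun e => (d4.le ⟨WZ_le hx, e⟩).2, fun e => (d4.ge ⟨WZ_le hx, e⟩).2⟩

theorem crit_gen (h : PA B L) (h' : PA B L') (hc : ¬ VZ L ≤ pCoreOf 2 L') :
    wA L' ⊔ cen B (wA L) = B ∧ ¬ wA L ≤ centralizer (wA L' : Set G) := by
  obtain ⟨-, -, h1⟩ := crit_atom h h' hc
  obtain ⟨-, h2, -⟩ := crit_atom h' h (crit_symm h h' hc)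
  have h3 : wA L' ⊔ cen B (wA L) = B := by
    refine le_antisymm (sup_le (h2.le.trans (WZ_le.trans h'.VS)) inf_le_left)
      ((crit_sup h h' h.VS h'.VS hc).1.ge.trans ?_)
    rw [h1, h2]
    exact sup_le ((VZ_eq_sup h'.syl).le.trans (sup_le ((h.Z_le.trans h.VQ).trans le_sup_right) le_sup_left))
      le_sup_right
  exact ⟨h3, fun e => h.nn (h3.ge.trans (sup_le (le_trans (le_inf (le_sup_left.trans h3.le)
    (le_centralizer_iff.1 e)) h1.le) h1.le))⟩

/-- `O₂(L) = W C₀`, where `C₀ = C_B(O²(L))` centralizes both modules. -/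
theorem crit_split (h : PA B L) (h' : PA B L') (hc : ¬ VZ L ≤ pCoreOf 2 L') :
    wA L ⊔ cen B (eA L) = cen B (wA L) ∧ cen B (eA L) ≤ centralizer (wA L' : Set G) ∧
      wA L ⊓ wA L' = cen (wA L) B ∧ ⁅wA L, wA L'⁆ = cen (wA L) B := by
  obtain ⟨⟨F, _, _, ⟨a⟩⟩, -⟩ := crit_atom h h' hc
  obtain ⟨⟨F', _, _, ⟨a'⟩⟩, -⟩ := crit_atom h' h (crit_symm h h' hc)
  obtain ⟨h1, h2⟩ := crit_gen h h' hc
  obtain ⟨h3, h4⟩ := crit_gen h' h (crit_symm h h' hc)
  have h5 := a.cen_eq_of a'.W_le h4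
  have h6 := a.split h1 a.W_le_Q a.normQ inf_le_right (by
    rw [relIndex_cen, ← a.idxC, ← h5, relIndex_cen, a'.relIndex_eq h3]
    exact a'.relIndex_le inf_le_left)
  have h7 : cen B (eA L) ≤ cen B (wA L) := cen_anti a.W_le_E
  refine ⟨le_antisymm (sup_le a.W_le_Q h7) (h6.trans (sup_le_sup_left (inf_le_inf_right _
    (inf_le_left.trans inf_le_left)) _)), fun x hx => ?_, le_antisymm (h5 ▸ inf_le_inf_left _
      (elemAb_le_centralizer a'.elem)) (le_inf inf_le_left ((a.comm_WX h1).ge.trans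
        (commutator_le_right_of_le_normalizer (a.W_le.trans a'.BW)))), a.comm_WX h1⟩
  obtain ⟨w, hw, c, hc', rfl⟩ := (mem_sup_iff_of_right_le_normalizer ((inf_le_left.trans
    (inf_le_left.trans inf_le_left)).trans a.BW)).1 (h6 (h7 hx))
  exact mul_mem (centralizer_anti a'.W_le (a.Z_le_C (a.cen_E.le ⟨hw, (Subgroup.mul_mem_cancel_right _ hc'.2).1 hx.2⟩)).2)
    hc'.1.2

end CfsgLib.Baum
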