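import Mathlib
import Cfsg.Agent.Lib.Baum.Defs
import Cfsg.Agent.Lib.CGT2.Set
import Cfsg.Agent.Lib.DihSyl.Basic

/-! Dihedral 2-groups. -/

set_option autoImplicit false
set_option linter.unusedSectionVars false

namespace CfsgLib.Baum

open Subgroup Cfsg CfsgLib.LAE CfsgLib.PLocal CfsgLib.Push CfsgLib.BHS CfsgLib.ZJ CfsgLib.SL2
  CfsgLib.Blocks CfsgLib.LocStr CfsgLib.CGT2
open scoped commutatorElement

variable {G : Type*} [Group G] [Finite G]

variable {D Q N U : Subgroup G} {ρ w x t z a d o : G} {n : ℕ}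

omit [Finite G] in
theorem eq_of_mem_zpowers (hz : z * z = 1) (hx : x ∈ zpowers z) : x = 1 ∨ x = z := by
  obtain ⟨i, rfl⟩ := mem_zpowers_iff.1 hx
  have h2 : z ^ (2 : ℤ) = 1 := by rw [zpow_two, hz]
  obtain ⟨k, rfl | rfl⟩ := Int.even_or_odd' i
  · left; rw [zpow_mul, h2, one_zpow]
  · right; rw [zpow_add_one, zpow_mul, h2, one_zpow, one_mul]

theorem five_pow (m : ℕ) : ∃ u : ℤ, Odd u ∧ (5 : ℤ) ^ 2 ^ m = 1 + 2 ^ (m + 2) * u := by
  induction m with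
  | zero => exact ⟨1, odd_one, by norm_num⟩
  | succ m ih =>
    obtain ⟨u, hu, e⟩ := ih
    refine ⟨u + 2 * (2 ^ m * u ^ 2), hu.add_even (even_two_mul _), ?_⟩
    rw [pow_succ 2 m, pow_mul, e]; ring

theorem exists_five (m : ℕ) {k : ℤ} (hk : Odd k) :
    ∃ (i : ℕ) (ε : ℤ), (ε = 1 ∨ ε = -1) ∧ (2 : ℤ) ^ (m + 2) ∣ k - ε * 5 ^ i := by
  induction m with
  | zero =>
    obtain ⟨c, rfl⟩ := hk
    obtain ⟨b, rfl | rfl⟩ := Int.even_or_odd' c
    · exact ⟨0, 1, Or.inl rfl, b, by ring⟩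
    · exact ⟨0, -1, Or.inr rfl, b + 1, by ring⟩
  | succ m ih =>
    obtain ⟨i, ε, hε, c, e⟩ := ih
    rcases Int.even_or_odd c with ⟨b, rfl⟩ | hc
    · exact ⟨i, ε, hε, b, by rw [e]; ring⟩
    · obtain ⟨u, hu, e'⟩ := five_pow m
      have h1 : Odd (ε * 5 ^ i * u) :=
        ((by rcases hε with rfl | rfl <;> decide : Odd ε).mul (Odd.pow (by decide))).mul hu
      obtain ⟨b, hb⟩ := hc.sub_odd h1
      refine ⟨i + 2 ^ m, ε, hε, b, ?_⟩
      rw [pow_add 5, e']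
      linear_combination e + 2 ^ (m + 2) * hb

theorem dih_of {w₁ w₂ : G} (h1 : w₁ * w₁ = 1) (h2 : w₂ * w₂ = 1) (hc : ¬ Commute w₁ w₂)
    (hp : IsPGroup 2 (zpowers w₁ ⊔ zpowers w₂ : Subgroup G)) :
    ∃ n, Dih (zpowers w₁ ⊔ zpowers w₂) (w₁ * w₂) w₁ n := by
  have i1 : w₁⁻¹ = w₁ := inv_eq_of_mul_eq_one_right h1
  have i2 : w₂⁻¹ = w₂ := inv_eq_of_mul_eq_one_right h2
  obtain ⟨k, hk⟩ := isPGroup_iff_forall_mem.1 hp (w₁ * w₂)
    (mul_mem (mem_sup_left (mem_zpowers _)) (mem_sup_right (mem_zpowers _)))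
  obtain ⟨n, -, hn⟩ := (Nat.dvd_prime_pow Nat.prime_two).1 (orderOf_dvd_of_pow_eq_one hk)
  refine ⟨n, by_contra fun h3 => hc ?_, hn, h1, ?_, fun h3 => hc ?_, le_antisymm ?_ ?_⟩
  · have : (w₁ * w₂) ^ 2 ^ 1 = 1 :=
      orderOf_dvd_iff_pow_eq_one.1 (hn ▸ pow_dvd_pow 2 (by omega))
    rw [pow_one, pow_two, mul_eq_one_iff_eq_inv, mul_inv_rev, i1, i2] at this
    exact this
  · rw [← mul_assoc, h1, one_mul, mul_inv_rev, i2]
  · obtain ⟨i, hi⟩ := mem_zpowers_iff.1 h3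
    have : Commute w₁ (w₁ * w₂) := by
      have := (Commute.refl (w₁ * w₂)).zpow_left i
      rwa [hi] at this
    simpa using (Commute.refl w₁).inv_right.mul_right this
  · exact sup_le (zpowers_le.2 (mul_mem (mem_sup_left (mem_zpowers _)) (mem_sup_right (mem_zpowers _))))
      le_sup_left
  · exact sup_le le_sup_right (zpowers_le.2 ((mul_mem_cancel_left (mem_sup_right (mem_zpowers w₁))).1
      (mem_sup_left (mem_zpowers _))))

/-- An element normalizing but not centralizing a 2-group. -/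
theorem exists_conj_z (hD : IsPGroup 2 D) (ha : a ∈ normalizer (D : Set G))
    (ha' : a ∉ centralizer (D : Set G)) (hU : U ≤ D) (hc : a ∈ centralizer (U : Set G))
    (hz : z * z = 1) (h : cen D U ≤ zpowers z) : ∃ t ∈ D, t * a * t⁻¹ = z * a := by
  have hlt : D ⊓ centralizer (zpowers a : Set G) < D := lt_of_le_of_ne inf_le_left fun e =>
    ha' (zpowers_le.1 (le_centralizer_iff.1 (e.ge.trans inf_le_right)))
  obtain ⟨t, ht, hn, ht'⟩ := SetA.exists_norm hD hlt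
  have h1 : a ∈ centralizer ((D ⊓ centralizer (zpowers a : Set G) : Subgroup G) : Set G) :=
    zpowers_le.1 (le_centralizer_iff.1 inf_le_right)
  have h2 := mul_mem (LAE.conj_mem_of_mem_normalizer (normalizer_le_normalizer_centralizer _ hn) h1)
    (inv_mem h1)
  have h3 : t * a * t⁻¹ * a⁻¹ ∈ D := by
    rw [mul_assoc, mul_assoc, ← mul_assoc a]
    exact mul_mem ht (LAE.conj_mem_of_mem_normalizer ha (inv_mem ht))
  rcases eq_of_mem_zpowers hz (h ⟨h3, LAE.centralizer_anti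
    (le_inf hU (le_centralizer_iff.1 (zpowers_le.2 hc))) h2⟩) with e | e
  · refine (ht' ⟨ht, le_centralizer_iff.1 (zpowers_le.2 ?_) (mem_zpowers t)⟩).elim
    rw [zpowers_eq_closure, centralizer_closure, mem_centralizer_singleton_iff]
    exact (commutatorElement_eq_one_iff_mul_comm.1 e).symm
  · exact ⟨t, ht, mul_inv_eq_iff_eq_mul.1 e⟩

theorem odd_triv_of_cyc (hQ : IsPGroup 2 Q) (hN : N ≤ Q) (hn : Q ≤ normalizer (N : Set G))
    (hd : Odd (orderOf d)) (h1 : d ∈ normalizer (Q : Set G)) (h2 : d ∈ normalizer (N : Set G))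
    (ho : o ∈ Q) (h : Q ≤ zpowers o ⊔ N) : ⁅Q, zpowers d⁆ ≤ N := by
  have : (N.subgroupOf (normalizer (N : Set G))).Normal := normal_in_normalizer
  let π := QuotientGroup.mk' (N.subgroupOf (normalizer (N : Set G)))
  have key : ∀ q (hq : q ∈ Q), π ⟨q, hn hq⟩ ∈ zpowers (π ⟨o, hn ho⟩) := fun q hq => by
    obtain ⟨a, ha, b, hb, rfl⟩ := (mem_sup_iff_of_left_le_normalizer (zpowers_le.2 (hn ho))).1 (h hq)
    obtain ⟨i, rfl⟩ := mem_zpowers_iff.1 ha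
    have e : (⟨o ^ i * b, hn hq⟩ : normalizer (N : Set G)) = ⟨o, hn ho⟩ ^ i * ⟨b, le_normalizer hb⟩ := rfl
    have e' : π ⟨b, le_normalizer hb⟩ = 1 := (QuotientGroup.eq_one_iff _).2 hb
    rw [e, map_mul, e', mul_one, map_zpow]
    exact zpow_mem (mem_zpowers _) i
  obtain ⟨k, hk⟩ := isPGroup_iff_forall_mem.1 hQ o ho
  have hc : Commute (π ⟨d, h2⟩) (π ⟨o, hn ho⟩) := by
    refine mul_inv_eq_iff_eq_mul.1 (DihSyl.commute_of_odd_of_conj_mem_zpowers (k := k) ?_ ?_ ?_)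
    · exact hd.of_dvd_nat ((orderOf_map_dvd π _).trans (orderOf_mk d h2).dvd)
    · rw [← map_pow, show (⟨o, hn ho⟩ : normalizer (N : Set G)) ^ 2 ^ k = 1 from Subtype.ext hk, map_one]
    · rw [← map_inv, ← map_mul, ← map_mul]
      exact key _ (LAE.conj_mem_of_mem_normalizer h1 ho)
  refine commutator_le.2 fun q hq x hx => ?_
  obtain ⟨j, rfl⟩ := mem_zpowers_iff.1 hx
  obtain ⟨i, hi⟩ := mem_zpowers_iff.1 (key q hq)
  have : π ⁅(⟨q, hn hq⟩ : normalizer (N : Set G)), ⟨d, h2⟩ ^ j⁆ = 1 := by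
    rw [map_commutatorElement, ← hi, map_zpow]
    exact commutatorElement_eq_one_iff_commute.2 (hc.symm.zpow_zpow i j)
  exact mem_subgroupOf.1 ((QuotientGroup.eq_one_iff (N := N.subgroupOf (normalizer (N : Set G))) _).1 this)

namespace Dih

variable (h : Dih D ρ w n)
include h

theorem isDih : DihSyl.IsDih D (2 ^ n) ρ w := ⟨h.ord, h.sq, h.inv, h.nmem, fun _ => by
  rw [← h.eq]
  exact TwoGrp.mem_zpowers_sup_zpowers_iff (TwoGrp.mem_normalizer_zpowers_of_inv h.inv)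
    (by rw [h.sq]; exact one_mem _)⟩

theorem pow_eq : 2 ^ n = 2 * 2 ^ (n - 1) := by
  rw [← pow_succ', Nat.sub_add_cancel (by have := h.two; omega)]

theorem sq_ne : ρ * ρ ≠ 1 := fun e => by
  have h1 := Nat.le_of_dvd two_pos (orderOf_dvd_of_pow_eq_one ((pow_two ρ).trans e))
  have h2 := Nat.pow_le_pow_right two_pos h.two
  rw [h.ord] at h1
  omega

theorem ρ_mem : ρ ∈ D := h.isDih.r_mem

theorem w_mem : w ∈ D := h.isDih.s_mem

theorem refl_mem (i : ℤ) : ρ ^ i * w ∈ D := h.isDih.rpows_mem i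

theorem mem_iff : x ∈ D ↔ ∃ i : ℤ, x = ρ ^ i ∨ x = ρ ^ i * w := h.isDih.mem x

theorem w_mul (i : ℤ) : w * ρ ^ i = ρ ^ (-i) * w := h.isDih.s_mul i

theorem refl_sq (i : ℤ) : ρ ^ i * w * (ρ ^ i * w) = 1 := h.isDih.rpows_sq i

theorem refl (i : ℤ) : Dih D ρ (ρ ^ i * w) n := by
  refine ⟨h.two, h.ord, h.refl_sq i, by simpa using h.isDih.rpows_conj_rpow i 1,
    h.isDih.rpows_notMem i, le_antisymm (sup_le (zpowers_le.2 h.ρ_mem) (zpowers_le.2 (h.refl_mem i)))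
      (h.eq.ge.trans (sup_le le_sup_left (zpowers_le.2 ?_)))⟩
  exact (mul_mem_cancel_left (mem_sup_left (zpow_mem (mem_zpowers ρ) i))).1
    (mem_sup_right (mem_zpowers _))

theorem conj_refl (i j : ℤ) : ρ ^ j * (ρ ^ i * w) * (ρ ^ j)⁻¹ = ρ ^ (2 * j + i) * w := by
  rw [h.isDih.rpow_conj_rpows, add_comm]

theorem conj (g : G) : Dih (conjS g D) (g * ρ * g⁻¹) (g * w * g⁻¹) n := by
  refine ⟨h.two, ((MulAut.conj g).orderOf_eq ρ).trans h.ord, ?_, ?_, fun e => h.nmem ?_, ?_⟩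
  · rw [conj_mul, h.sq]; group
  · rw [conj_mul, conj_inv, conj_mul, h.inv, conj_inv]
  · rwa [← Blocks.conjS_zpowers, conj_mem_conjS] at e
  · rw [← Blocks.conjS_zpowers, ← Blocks.conjS_zpowers, ← conjS_sup, h.eq]

theorem card : Nat.card D = 2 ^ (n + 1) := by rw [h.isDih.card, pow_succ']

theorem pg : IsPGroup 2 D := IsPGroup.of_card h.card

theorem z_ne : ρ ^ 2 ^ (n - 1) ≠ 1 := by
  have := (h.isDih.half h.pow_eq (by positivity)).2
  rwa [zpow_natCast] at this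

theorem z_sq : ρ ^ 2 ^ (n - 1) * ρ ^ 2 ^ (n - 1) = 1 := by
  have := (h.isDih.half h.pow_eq (by positivity)).1
  rwa [zpow_natCast] at this

theorem z_cen : ρ ^ 2 ^ (n - 1) ∈ centralizer (D : Set G) := fun _ hg =>
  h.isDih.commute_of_sq (pow_mem (mem_zpowers ρ) _) h.z_sq hg

theorem eq_z (hx : x ∈ zpowers ρ) (h2 : x * x = 1) : x = 1 ∨ x = ρ ^ 2 ^ (n - 1) :=
  or_iff_not_imp_left.2 fun h1 =>
    h.isDih.eq_of_sq hx (pow_mem (mem_zpowers ρ) _) h2 h.z_sq h1 h.z_ne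

theorem mem_z (hx : x ∈ zpowers ρ) (h2 : x * x = 1) : x ∈ zpowers (ρ ^ 2 ^ (n - 1)) := by
  rcases h.eq_z hx h2 with rfl | rfl
  exacts [one_mem _, mem_zpowers _]

theorem cen_eq : cen D D = zpowers (ρ ^ 2 ^ (n - 1)) := by
  refine le_antisymm (fun x hx => ?_) (zpowers_le.2 ⟨pow_mem h.ρ_mem _, h.z_cen⟩)
  obtain ⟨i, rfl | rfl⟩ := h.mem_iff.1 hx.1
  · refine h.mem_z (zpow_mem (mem_zpowers ρ) i) ?_
    have := hx.2 w h.w_mem
    rw [h.w_mul, mul_left_inj, zpow_neg] at this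
    exact mul_eq_one_iff_eq_inv.2 this.symm
  · have h1 := (h.refl i).inv
    rw [← hx.2 ρ h.ρ_mem, mul_inv_cancel_right] at h1
    exact (h.sq_ne (mul_eq_one_iff_eq_inv.2 h1)).elim

theorem norm_z (ht : t ∈ normalizer (D : Set G)) : Commute t (ρ ^ 2 ^ (n - 1)) := by
  have h1 := LAE.conj_mem_of_mem_normalizer (le_normalizer_cen (zpowers_le.2 ht) (zpowers_le.2 ht)
    (mem_zpowers t)) (h.cen_eq.ge (mem_zpowers _))
  rcases eq_of_mem_zpowers h.z_sq (h.cen_eq.le h1) with e | e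
  · exact (h.z_ne (conj_eq_one_iff.1 e)).elim
  · exact mul_inv_eq_iff_eq_mul.1 e

theorem invol (hx : x ∈ D) (h2 : x * x = 1) :
    x = 1 ∨ x = ρ ^ 2 ^ (n - 1) ∨ ∃ i : ℤ, x = ρ ^ i * w := by
  obtain ⟨i, rfl | rfl⟩ := h.mem_iff.1 hx
  · exact (h.eq_z (zpow_mem (mem_zpowers ρ) i) h2).imp_right Or.inl
  · exact Or.inr (Or.inr ⟨i, rfl⟩)

theorem cen_w (hx : x ∈ D) (hc : Commute w x) : x ∈ zpowers (ρ ^ 2 ^ (n - 1)) ⊔ zpowers w := by
  obtain ⟨a, ha, h2, e⟩ := h.isDih.of_commute_rpows (i := 0) hx (by simpa using hc.symm.eq)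
  rw [zpow_zero, one_mul] at e
  rcases e with rfl | rfl
  · exact mem_sup_left (h.mem_z ha h2)
  · exact mul_mem (mem_sup_left (h.mem_z ha h2)) (mem_sup_right (mem_zpowers _))

theorem z_mem (hN : N ≤ D) (h0 : N ≠ ⊥) (hn : D ≤ normalizer (N : Set G)) : ρ ^ 2 ^ (n - 1) ∈ N := by
  obtain ⟨⟨x, hx⟩, h1⟩ := ne_bot_iff_exists_ne_one.1
    (inf_centralizer_ne_bot (h.pg.to_le hN) h.pg hn h0)
  rcases eq_of_mem_zpowers h.z_sq (h.cen_eq.le ⟨hN hx.1, hx.2⟩) with e | e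
  · exact (h1 (Subtype.ext e)).elim
  · exact e ▸ hx.1

theorem elem_four : IsElementaryAbelian 2 (zpowers (ρ ^ 2 ^ (n - 1)) ⊔ zpowers w : Subgroup G) ∧
    Nat.card (zpowers (ρ ^ 2 ^ (n - 1)) ⊔ zpowers w : Subgroup G) = 4 := by
  have hc : zpowers (ρ ^ 2 ^ (n - 1)) ≤ centralizer (zpowers w : Set G) :=
    zpowers_le.2 (LAE.centralizer_anti (zpowers_le.2 h.w_mem) h.z_cen)
  refine ⟨elemAb_sup (elemAb_zpowers (by rw [pow_two, h.z_sq])) (elemAb_zpowers (by rw [pow_two, h.sq])) hc,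
    ?_⟩
  rw [TwoGrp.card_sup_zpowers (centralizer_le_normalizer _ (le_centralizer_iff.1 hc (mem_zpowers w)))
    (by rw [h.sq]; exact one_mem _) fun e => h.nmem (zpowers_le.2 (pow_mem (mem_zpowers ρ) _) e),
    Nat.card_zpowers, orderOf_eq_prime (p := 2) (by rw [pow_two, h.z_sq]) h.z_ne]

theorem exists_conj_ρ (hn : t ∈ normalizer (D : Set G)) : ∃ k : ℤ, Odd k ∧ t * ρ * t⁻¹ = ρ ^ k := by
  obtain ⟨k, hk⟩ := mem_zpowers_iff.1 (h.isDih.mem_zpowers_of_sq_ne_one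
    (LAE.conj_mem_of_mem_normalizer hn h.ρ_mem) fun e => h.sq_ne (by rwa [conj_mul, conj_eq_one_iff] at e))
  refine ⟨k, Int.not_even_iff_odd.1 ?_, hk.symm⟩
  rintro ⟨c, rfl⟩
  refine h.z_ne (conj_eq_one_iff (a := t).1 ?_)
  rw [← conj_pow, ← hk, ← zpow_natCast, ← zpow_mul, h.isDih.eq_one_iff, h.pow_eq]
  exact ⟨c, by push_cast; ring⟩

theorem exists_conj_w (hn : t ∈ normalizer (D : Set G)) : ∃ j : ℤ, t * w * t⁻¹ = ρ ^ j * w := by
  obtain ⟨j, e | e⟩ := h.mem_iff.1 (LAE.conj_mem_of_mem_normalizer hn h.w_mem)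
  · obtain ⟨k, -, hk⟩ := h.exists_conj_ρ (inv_mem hn)
    refine (h.nmem (mem_zpowers_iff.2 ⟨k * j, ?_⟩)).elim
    rw [zpow_mul, ← hk, conj_zpow, ← e]; group
  · exact ⟨j, e⟩

/-- An involution normalizing `D` normalizes a four-group or extends `D`. -/
theorem aut (ht : t * t = 1) (hn : t ∈ normalizer (D : Set G)) :
    (∃ i : ℤ, t ∈ normalizer
      ((zpowers (ρ ^ 2 ^ (n - 1)) ⊔ zpowers (ρ ^ i * w) : Subgroup G) : Set G)) ∨
    (Dih (D ⊔ zpowers t) (t * w) t (n + 1) ∧ (t * w) ^ 2 ^ n = ρ ^ 2 ^ (n - 1) ∧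
      ∀ i : ℤ, ∃ s ∈ D ⊔ zpowers t, s * w * s⁻¹ = ρ ^ i * w) := by
  obtain ⟨k, -, hk⟩ := h.exists_conj_ρ hn
  obtain ⟨j, hj⟩ := h.exists_conj_w hn
  have it : t⁻¹ = t := inv_eq_of_mul_eq_one_right ht
  have c : ∀ i : ℤ, t * (ρ ^ i * w) * t⁻¹ = ρ ^ (k * i + j) * w := fun i => by
    rw [← conj_mul, ← conj_zpow, hk, hj, ← zpow_mul, zpow_add, mul_assoc]
  obtain ⟨m, rfl | rfl⟩ := Int.even_or_odd' j
  · have h1 : ρ ^ (k * (2 * m) + 2 * m) = 1 := by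
      have := c (2 * m)
      rw [← hj, it, mul_assoc t w, ← mul_assoc, ← mul_assoc, ht, one_mul, mul_assoc w, ht, mul_one] at this
      exact right_eq_mul.1 this
    refine Or.inl ⟨m, mem_normalizer_of_conjS_le ?_⟩
    rw [conjS_sup, Blocks.conjS_zpowers, Blocks.conjS_zpowers, (h.norm_z hn).eq, mul_inv_cancel_right, c]
    refine sup_le le_sup_left (zpowers_le.2 ?_)
    rw [show k * m + 2 * m = (k * m + m) + m by ring, zpow_add, mul_assoc]
    refine mul_mem (mem_sup_left (h.mem_z (zpow_mem (mem_zpowers ρ) _) ?_)) (mem_sup_right (mem_zpowers _))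
    rw [← zpow_add, ← h1]; congr 1; ring
  · have h1 : t * w * (t * w) = ρ ^ (2 * m + 1) := by
      rw [it] at hj
      rw [← mul_assoc, hj, mul_assoc, h.sq, mul_one]
    have h2 : (t * w) ^ 2 ^ n = ρ ^ 2 ^ (n - 1) := by
      rw [h.pow_eq, pow_mul, pow_two, h1, ← zpow_natCast, ← zpow_mul, mul_comm, zpow_mul, zpow_natCast,
        zpow_add_one, zpow_mul, zpow_two, h.z_sq, one_zpow, one_mul]
    have hρ : ρ ∈ zpowers (t * w) := by
      have h3 : ρ ^ (2 * m + 1) ∈ zpowers (t * w) := h1 ▸ mul_mem (mem_zpowers _) (mem_zpowers _)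
      refine mem_of_pow_mem_of_coprime (n := (2 * m + 1).natAbs) ?_ ?_
      · rw [h.ord]
        exact Nat.Coprime.pow_left _ (Nat.coprime_two_left.2 (Int.natAbs_odd.2 ⟨m, rfl⟩))
      · rw [← zpow_natCast]
        rcases Int.natAbs_eq (2 * m + 1) with e | e
        · rwa [← e]
        · rwa [e, zpow_neg, inv_mem_iff] at h3
    refine Or.inr ⟨⟨by have := h.two; omega, orderOf_eq_prime_pow (h2 ▸ h.z_ne)
      (by rw [pow_succ, pow_mul, h2, pow_two, h.z_sq]), ht, ?_, fun e => ?_, le_antisymm ?_ ?_⟩, h2,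
      fun i => ?_⟩
    · rw [← mul_assoc, ht, one_mul, mul_inv_rev, h.isDih.s_inv]
    · obtain ⟨a, ha⟩ := mem_zpowers_iff.1 e
      have h3 : Commute t (t * w) := by
        have := (Commute.refl (t * w)).zpow_left a
        rwa [ha] at this
      have h4 : Commute t w := by simpa using (Commute.refl t).inv_right.mul_right h3
      rw [h4.eq, mul_inv_cancel_right, right_eq_mul, h.isDih.eq_one_iff, h.pow_eq] at hj
      obtain ⟨b, hb⟩ := hj
      push_cast at hb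
      rw [mul_assoc] at hb
      omega
    · exact sup_le (zpowers_le.2 (mul_mem (mem_sup_right (mem_zpowers t)) (mem_sup_left h.w_mem)))
        le_sup_right
    · refine sup_le (h.eq.ge.trans (sup_le (zpowers_le.2 (mem_sup_left hρ)) (zpowers_le.2 ?_))) le_sup_right
      exact (mul_mem_cancel_left (mem_sup_right (mem_zpowers t))).1 (mem_sup_left (mem_zpowers _))
    · obtain ⟨a, rfl | rfl⟩ := Int.even_or_odd' i
      · exact ⟨ρ ^ a, mem_sup_left (zpow_mem h.ρ_mem a), by simpa using h.conj_refl 0 a⟩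
      · refine ⟨ρ ^ (a - m) * t, mul_mem (mem_sup_left (zpow_mem h.ρ_mem _))
          (mem_sup_right (mem_zpowers t)), ?_⟩
        rw [show 2 * a + 1 = 2 * (a - m) + (2 * m + 1) by ring, ← h.conj_refl, ← hj]; group

theorem odd_cen (hd : Odd (orderOf d)) (hn : d ∈ normalizer (D : Set G)) :
    d ∈ centralizer (D : Set G) := h.isDih.mem_centralizer_of_odd rfl le_rfl hd hn (Or.inr fun z hz h2 => by
    rcases h.eq_z hz h2 with rfl | rfl
    · group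
    · rw [(h.norm_z hn).eq, mul_inv_cancel_right])

theorem aut_cyc (h1 : Q ≤ normalizer (D : Set G)) (h2 : Q ≤ centralizer ({w} : Set G))
    (hw : w ∈ Q) : ∃ o ∈ Q, Q ≤ zpowers o ⊔ (zpowers w ⊔ cen Q D) := by
  classical
  obtain ⟨m, rfl⟩ := Nat.exists_eq_add_of_le' h.two
  have ex : ∃ i, 0 < i ∧ ∃ q ∈ Q, q * ρ * q⁻¹ = ρ ^ (5 ^ i : ℤ) := by
    obtain ⟨u, -, e⟩ := five_pow m
    refine ⟨2 ^ m, by positivity, 1, one_mem _, ?_⟩
    rw [e, zpow_add, zpow_one, (h.isDih.eq_one_iff.2 ⟨u, by push_cast; ring⟩ : ρ ^ (2 ^ (m + 2) * u) = 1)]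
    group
  obtain ⟨hs, o, ho, e⟩ := Nat.find_spec ex
  have e1 : ∀ a : ℕ, o ^ a * ρ * (o ^ a)⁻¹ = ρ ^ (5 ^ (Nat.find ex * a) : ℤ) := fun a => by
    induction a with
    | zero => simp
    | succ a ih =>
      rw [mul_add, mul_one, pow_add 5, zpow_mul, ← ih, conj_zpow, ← e, pow_succ]; group
  have key : ∀ q ∈ Q, ∀ i : ℕ, q * ρ * q⁻¹ = ρ ^ (5 ^ i : ℤ) → q ∈ zpowers o ⊔ (zpowers w ⊔ cen Q D) :=
    fun q hq i hi => by
    have h3 : (o ^ (i / Nat.find ex))⁻¹ * q ∈ Q := mul_mem (inv_mem (pow_mem ho _)) hq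
    have h4 : (o ^ (i / Nat.find ex))⁻¹ * q * ρ * ((o ^ (i / Nat.find ex))⁻¹ * q)⁻¹ =
        ρ ^ (5 ^ (i % Nat.find ex) : ℤ) := by
      rw [← Nat.div_add_mod i (Nat.find ex), pow_add 5, zpow_mul, ← e1, conj_zpow] at hi
      rw [mul_inv_rev, mul_assoc, mul_assoc, ← mul_assoc ρ, ← mul_assoc q, ← mul_assoc q, hi]; group
    have h5 : i % Nat.find ex = 0 := by_contra fun h5 =>
      Nat.find_min ex (Nat.mod_lt i hs) ⟨Nat.pos_of_ne_zero h5, _, h3, h4⟩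
    rw [h5, pow_zero, zpow_one, mul_inv_eq_iff_eq_mul] at h4
    refine (mul_mem_cancel_left (mem_sup_left (inv_mem (pow_mem (mem_zpowers o) (i / Nat.find ex))))).1
      (mem_sup_right (mem_sup_right ⟨h3, ?_⟩))
    rw [← h.eq, LAE.centralizer_sup, zpowers_eq_closure, zpowers_eq_closure, centralizer_closure,
      centralizer_closure]
    exact ⟨mem_centralizer_singleton_iff.2 h4, h2 h3⟩
  refine ⟨o, ho, fun q hq => ?_⟩
  obtain ⟨k, hk, e2⟩ := h.exists_conj_ρ (h1 hq)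
  obtain ⟨i, ε, rfl | rfl, hd⟩ := exists_five m hk
  · exact key q hq i (e2.trans (h.isDih.eq_iff.2 (by simpa using hd)))
  · refine (mul_mem_cancel_left (mem_sup_right (mem_sup_left (mem_zpowers w)))).1
      (key _ (mul_mem hw hq) i ?_)
    have e3 : ρ ^ k = ρ ^ (-(5 ^ i) : ℤ) := h.isDih.eq_iff.2 (by simpa using hd)
    rw [show w * q * ρ * (w * q)⁻¹ = w * (q * ρ * q⁻¹) * w⁻¹ by group, e2, e3, h.w_mul, neg_neg,
      mul_inv_cancel_right]

theorem iso : Nonempty (D ≃* DihedralGroup (2 ^ n)) := TwoGrp.nonempty_mulEquiv_dihedral h.ord h.sq h.inv h.nmem h.isDih.mem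

end Dih

end CfsgLib.Baum
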