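import Mathlib
import Cfsg.Agent.Lib.Baum.Loc1

/-! The local theorem, second part. -/

set_option autoImplicit false

namespace CfsgLib.Baum

open Subgroup Cfsg CfsgLib.LAE CfsgLib.PLocal CfsgLib.Push CfsgLib.BHS CfsgLib.ZJ CfsgLib.SL2
  CfsgLib.Blocks CfsgLib.LocStr CfsgLib.CGT2
open scoped commutatorElement


variable {G : Type*} [Group G] [Finite G]

variable {S H L L₁ L₂ A X : Subgroup G}

theorem LH.core_le (h : LH S H) (hA : A ≤ S) : pCoreOf 2 (A ⊔ cen H (VZ H)) ≤ S :=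
  h.syl.le_of_normalizes (isPGroup_pCoreOf _) ((pCoreOf_le _).trans (sup_le (hA.trans h.syl.le) inf_le_left))
    ((pCoreOf_le _).trans (sup_le (hA.trans le_normalizer) h.C_norm))

theorem LH.le_RR (h : LH S H) (hL : PA (bau 2 S) L) (hH : L ≤ H) : L ≤ RR H (VZ H) :=
  (hL.nclIn_eq.ge.trans (nclIn_mono le_rfl hH)).trans h.ncl_le

theorem LH.exists_root' (h : LH S H) (hL : PA (bau 2 S) L) (hH : L ≤ H) :
    ∃ A ≤ thompsonSubgroupOf 2 S, RootOn (VZ H) A ∧ ∃ l ∈ L,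
      ¬ IsPGroup 2 (A ⊔ conjS l A : Subgroup G) ∧ L = A ⊔ conjS l A ⊔ bau 2 S := by
  obtain ⟨A, hJ, hA, hn⟩ : ∃ A ≤ thompsonSubgroupOf 2 S, RootOn (VZ H) A ∧
      ¬ L ≤ normalizer ((A ⊔ cen H (VZ H) : Subgroup G) : Set G) := by
    by_contra hn
    push Not at hn
    set W := sSup {A | A ≤ thompsonSubgroupOf 2 S ∧ RootOn (VZ H) A} with hW
    have h1 : W ≤ bau 2 S := _root_.sSup_le fun _ hC => hC.1.trans (J_le_bau S)
    have h2 : bau 2 S ⊔ cen H (VZ H) = W ⊔ cen H (VZ H) :=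
      le_antisymm (sup_le h.bau_le le_sup_right) (sup_le_sup_right h1 _)
    have h3 : L ≤ normalizer ((bau 2 S ⊔ cen H (VZ H) : Subgroup G) : Set G) := fun g hg => by
      rw [h2]
      refine mem_normalizer_of_conjS_le ((h.mh.conjS_sup_C (hH hg)).le.trans (sup_le (conjS_le_iff.2
        (_root_.sSup_le fun C hC => conjS_le_iff.1 ?_)) le_sup_right))
      exact ((conjS_mono le_sup_left).trans (mem_normalizer_iff_conjS.1 (hn C hC.1 hC.2 hg)).le).trans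
        (sup_le_sup_right (le_sSup hC) _)
    have h4 := (le_normalizer_pCoreOf_of_le (p := 2) h3).trans (normalizer_le_normalizer_bau (p := 2) _)
    rw [bau_eq_of_le (h.mh.le_core_sup h.pB h.BH) (h.core_le (Blocks.bau_le S))] at h4
    exact hL.not_le_normalizer h4
  obtain ⟨l, hl, hl'⟩ := SetLike.not_le_iff_exists.1 hn
  obtain ⟨K, F, _, _, _, D, c⟩ := h.mh.exists_cmp hA (hJ.trans h.JH)
  have hK := (h.le_RR hL hH).trans c.RR_le
  have hp := mt (c.mem_normalizer (hK hl)) hl'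
  have hAL := (hJ.trans (J_le_bau S)).trans hL.le
  have h1 : A ⊔ conjS l A ≤ L := sup_le hAL (conjS_le_of_le_of_mem hAL hl)
  refine ⟨A, hJ, hA, l, hl, hp, ((hL.pu.uniq.eq_or_le le_sup_right (sup_le h1 hL.le)).resolve_right
    fun e1 => ?_).symm⟩
  refine (hL.pu.uniq.eq_or_le (K := L ⊓ normalizer ((A ⊔ cen H (VZ H) : Subgroup G) : Set G)) (le_inf hL.le
    ((h.bau_le_K c hJ).trans (sup_le c.K_norm (le_sup_left.trans le_normalizer)))) inf_le_left).elim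
      (fun e => hn (e.ge.trans inf_le_right)) fun e2 => hL.pu.not_le fun y hy => ?_
  have h2 : conjS y A ≤ K := (conjS_mono c.A_le).trans (mem_normalizer_iff_conjS.1 (hK hy).2).le
  have h3 := hA.conj (h.mh.norm (hH hy))
  obtain ⟨x, hx, e⟩ := (c.dich _ (h2.trans c.le) h3).resolve_right (c.not_le_K h3 h2)
  obtain ⟨a, ha, b, hb, rfl⟩ := (mem_sup_iff_of_left_le_normalizer ((h1.trans hH).trans h.mh.normC)).1
    ((c.eq_sup (hH hl) hp).le hx)
  rw [← h.mh.conjS_sup_C (c.le hx), ← h.mh.conjS_sup_C (hH hy), conjS_mul,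
    conjS_eq_of_mem (mem_sup_right hb)] at e
  refine (Subgroup.mul_mem_cancel_left _ (inv_mem (e1 (mem_sup_left ha)))).1
    (e2 (mem_inf.2 ⟨mul_mem (inv_mem (h1 ha)) hy, mem_normalizer_iff_conjS.2 ?_⟩))
  rw [conjS_mul, ← e, conjS_inv_conjS]

/-- Every pre-atom comes from a root. -/
theorem LH.exists_root (h : LH S H) (hL : PA (bau 2 S) L) (hH : L ≤ H) :
    ∃ A ≤ thompsonSubgroupOf 2 S, RootOn (VZ H) A ∧ ∃ l ∈ L,
      ¬ IsPGroup 2 (A ⊔ conjS l A : Subgroup G) ∧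
      L ⊔ cen H (VZ H) = A ⊔ conjS l A ⊔ bau 2 S ⊔ cen H (VZ H) := by
  obtain ⟨A, h1, h2, l, h3, h4, h5⟩ := h.exists_root' hL hH
  exact ⟨A, h1, h2, l, h3, h4, by rw [← h5]⟩

theorem LH.le_of_le_sup (h : LH S H) (h1 : PA (bau 2 S) L₁) (h2 : bau 2 S ≤ L₂) (hH2 : L₂ ≤ H)
    (hle : L₁ ≤ L₂ ⊔ cen H (VZ H)) : L₁ ≤ L₂ :=
  (h1.nclIn_eq.ge.trans (nclIn_mono le_rfl hle)).trans (nclIn_sup_le (hH2.trans h.mh.normC) h.cen_le h2)

theorem LH.zj_eq (h : LH S H) (hL : PA (bau 2 S) L) (hH : L ≤ H) {K : Subgroup G} {F : Type} [Field F]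
    [Fintype F] [CharP F 2] {D : NatData F ⊤ K (VZ H) (cen (VZ H) K)} (c : Cmp H S (VZ H) A K D)
    (hJ : A ≤ thompsonSubgroupOf 2 S) (e : L ⊔ cen H (VZ H) = K ⊔ bau 2 S) :
    zj 2 S ≤ ⁅VZ H, K⁆ ⊔ cen (zj 2 S) L := by
  obtain ⟨P, k1, k2, k3, k4⟩ := h.exists_pa' c hJ
  obtain rfl : P = L := le_antisymm (h.le_of_le_sup k2 hL.le hH (le_sup_left.trans (k3.trans e.symm).le))
    (h.le_of_le_sup hL k2.le k1 (le_sup_left.trans (e.trans k3.symm).le))
  have h1 := (hL.pu.baumann (e := 2) (le_trans (le_inf (c.V_le.trans (h.V_le.trans (J_le_bau S)))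
    (c.V_le.trans ((VZ_le_centralizer h.char).trans (centralizer_anti c.V_le)))) k4.ge)
    (((h.le_RR hL hH).trans c.RR_le).trans c.normV) (k4.le.trans inf_le_right)
    (fun e' => h.not_res_le c hJ hL.syl (le_sup_left.trans e.ge) (e'.trans (centralizer_anti
      (commutator_mono le_rfl c.A_le)))) (elemAb_mono h.mh.elem c.V_le) (hL.notJ (bau_bau S))).2
  rw [show cen (bau 2 S) (zj 2 (bau 2 S)) = bau 2 S from bau_bau S, hL.nclIn_eq, zj_bau] at h1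
  exact h1.ge.trans (sup_le_sup_right inf_le_left _)

theorem LH.comm (h : LH S H) (h1 : PA (bau 2 S) L₁) (h2 : PA (bau 2 S) L₂) (hH1 : L₁ ≤ H)
    (hH2 : L₂ ≤ H) (hne : L₁ ≠ L₂) :
    ⁅WZ L₁, pResOf 2 L₂⁆ = ⊥ ∧ L₂ ≤ normalizer (pResOf 2 L₁ : Set G) := by
  obtain ⟨A₁, j1, r1, l₁, m1, n1, e1⟩ := h.exists_root' h1 hH1
  obtain ⟨A₂, j2, r2, l₂, m2, n2, e2⟩ := h.exists_root' h2 hH2
  obtain ⟨K₁, F₁, _, _, _, D₁, c₁⟩ := h.mh.exists_cmp r1 (j1.trans h.JH)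
  obtain ⟨K₂, F₂, _, _, _, D₂, c₂⟩ := h.mh.exists_cmp r2 (j2.trans h.JH)
  have k1 := c₁.eq_sup (hH1 m1) n1
  have k2 := c₂.eq_sup (hH2 m2) n2
  have x1 : L₁ ⊔ cen H (VZ H) = K₁ ⊔ bau 2 S := by rw [k1, sup_right_comm, ← e1]
  have x2 : L₂ ⊔ cen H (VZ H) = K₂ ⊔ bau 2 S := by rw [k2, sup_right_comm, ← e2]
  have a11 := (h.le_RR h1 hH1).trans c₁.RR_le
  have a12 := (h.le_RR h1 hH1).trans c₂.RR_le
  have a21 := (h.le_RR h2 hH2).trans c₁.RR_le
  have hA : A₁ ⊔ cen H (VZ H) ≠ A₂ ⊔ cen H (VZ H) := fun e => by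
    have b1 : A₁ ≤ K₂ := (le_sup_left.trans e.le).trans c₂.AC_le
    have b2 : A₂ ≤ K₁ := (le_sup_left.trans e.ge).trans c₁.AC_le
    have b3 : K₁ = K₂ := le_antisymm (k1.le.trans (sup_le (sup_le b1 ((conjS_mono b1).trans
      (mem_normalizer_iff_conjS.1 (a12 m1).2).le)) c₂.C_le)) (k2.le.trans (sup_le (sup_le b2
        ((conjS_mono b2).trans (mem_normalizer_iff_conjS.1 (a21 m2).2).le)) c₁.C_le))
    rw [b3, ← x2] at x1
    exact hne (le_antisymm (h.le_of_le_sup h1 h2.le hH2 (le_sup_left.trans x1.le))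
      (h.le_of_le_sup h2 h1.le hH1 (le_sup_left.trans x1.ge)))
  have b1 := (h.eq_or_le c₂ j2 r1 j1).resolve_left hA
  have b2 := (h.eq_or_le c₁ j1 r2 j2).resolve_left hA.symm
  have b3 : K₂ ≤ KK H (VZ H) K₁ := k2.le.trans (sup_le (sup_le b2 ((conjS_mono b2).trans
    (mem_normalizer_iff_conjS.1 (c₁.normK (a21 m2))).le)) c₁.C_le_K)
  have z1 := h.zj_eq h1 hH1 c₁ j1 x1
  have z2 := h.zj_eq h2 hH2 c₂ j2 x2
  have hz := (zj_le_bau (p := 2) S).trans h1.le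
  constructor
  · have d1 : VZ L₁ ≤ ⁅VZ H, K₁⁆ ⊔ cen (zj 2 S) L₁ := (VZ_eq_nclIn h1.syl).le.trans (nclIn_le
      (((omegaZ_le_zj _).trans (zj_bau S).le).trans z1) (LAE.le_normalizer_sup (a11.trans c₁.normV)
        (le_normalizer_of_le_centralizer (le_centralizer_iff.1 inf_le_right))))
    have d2 : WZ L₁ ≤ ⁅VZ H, K₁⁆ := (commutator_mono d1 le_rfl).trans (commutator_sup_le le_normalizer
      (((inf_le_left.trans hz).trans a11).trans c₁.normV) (commutator_le_left_of_le_normalizer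
        (a11.trans c₁.normV)) ((comm_bot_iff.2 inf_le_right).le.trans bot_le))
    have d3 : pResOf 2 L₂ ≤ K₂ := (pResOf_mono ((le_sup_left.trans x2.le).trans (sup_comm _ _).le)).trans
      ((pResOf_sup_of_isPGroup h.pB ((h.bau_norm c₂).trans inf_le_right)).le.trans (pResOf_le _))
    exact comm_bot_iff'.2 (((d3.trans b3).trans inf_le_right).trans (centralizer_anti d2))
  have hAB := j1.trans (J_le_bau S)
  have d0 : bau 2 S ≤ normalizer ((A₁ ⊔ cen H (VZ H) : Subgroup G) : Set G) :=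
    (h.bau_le_K c₁ j1).trans (sup_le c₁.K_norm (le_sup_left.trans le_normalizer))
  have d1 : L₂ ≤ normalizer ((A₁ ⊔ cen H (VZ H) : Subgroup G) : Set G) :=
    (le_sup_left.trans x2.le).trans (sup_le (b3.trans c₁.K_norm) d0)
  set S₁ := pCoreOf 2 (A₁ ⊔ cen H (VZ H)) with hS₁
  have d2 : cen S₁ (zj 2 S) = cen S₁ (cen (zj 2 S) L₂) := le_antisymm (cen_anti inf_le_left)
    (le_inf inf_le_left (le_centralizer_iff.1 (z2.trans (sup_le (le_centralizer_iff.1 (inf_le_left.trans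
      (((pCoreOf_le _).trans (sup_le b1 c₂.C_le_K)).trans inf_le_right))) (le_centralizer_iff.1 inf_le_right)))))
  have d3 : L₂ ≤ normalizer (cen S₁ (zj 2 S) : Set G) := d2 ▸ le_normalizer_cen
    (le_normalizer_pCoreOf_of_le d1) (le_normalizer_of_le_centralizer (le_centralizer_iff.1 inf_le_right))
  have d4 : cen S₁ (zj 2 S) ≤ bau 2 S := inf_le_inf_right _ (h.core_le (hAB.trans (Blocks.bau_le S)))
  have d5 : ¬ cen S₁ (zj 2 S) ≤ pCoreOf 2 L₁ := fun e => by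
    have := (le_inf (h.mh.le_core_sup r1.two (j1.trans h.JH)) (hAB.trans (bau_le_centralizer S))).trans e
    exact n1 ((isPGroup_pCoreOf L₁).to_le (sup_le this ((conjS_mono this).trans
      (mem_normalizer_iff_conjS.1 (le_normalizer_pCoreOf L₁ m1)).le)))
  have d6 : pResOf 2 L₁ ≤ nclIn (cen S₁ (zj 2 S)) K₁ := (h1.pu.pResOf_le_nclIn d4 d5).trans
    (nclIn_le (le_nclIn _ _) ((le_sup_left.trans x1.le).trans (sup_le (le_normalizer_nclIn _ _)
      (le_normalizer_nclIn_of_le (h2.le.trans d3) ((h.bau_norm c₁).trans inf_le_right)))))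
  have d7 : nclIn (cen S₁ (zj 2 S)) K₁ ≤ L₁ := (nclIn_mono le_rfl (le_sup_left.trans x1.ge)).trans
    (nclIn_sup_le (hH1.trans h.mh.normC) (le_normalizer_cen (le_sup_right.trans (le_normalizer_pCoreOf _))
      (h.C_norm.trans (normalizer_le_normalizer_zj S))) (d4.trans h1.le))
  rw [← pResOf_eq_of_le d6 d7]
  exact le_normalizer_pResOf_of_le (le_normalizer_nclIn_of_le d3 (a21.trans inf_le_right))

end CfsgLib.Baum
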