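import Mathlib
import Cfsg.Agent.Lib.Baum.Loc1
import Cfsg.Agent.Lib.Baum.Crit
import Cfsg.Agent.Lib.Baum.Bas

/-! The shift, first part. -/

set_option autoImplicit false

namespace CfsgLib.Baum

open Subgroup Cfsg CfsgLib.LAE CfsgLib.PLocal CfsgLib.Push CfsgLib.BHS CfsgLib.ZJ CfsgLib.SL2
  CfsgLib.Blocks CfsgLib.LocStr CfsgLib.CGT2
open scoped commutatorElement


variable {G : Type*} [Group G] [Finite G]

variable {S T L₀ L₁ Q : Subgroup G}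

/-- Every pre-atom over a Baumann subgroup has a natural module. -/
theorem PA.nat (h : PA T L₀) (hT : bau 2 T = T) :
    ∃ (F : Type) (_ : Field F) (_ : Fintype F) (_ : CharP F 2)
      (D : NatData F ⊤ L₀ (VZ L₀) (cen (VZ L₀) L₀)),
      D.img T = upU F ∧ D.ker = cen L₀ (VZ L₀) ∧ D.fix = omegaZ 2 T ∧
        (pCoreOf 2 L₀).relIndex T = Fintype.card F := by
  have h1 := h.notJ hT
  rw [thompsonSubgroupOf_le_iff] at h1
  push Not at h1
  obtain ⟨A, hA, hAQ⟩ := h1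
  obtain ⟨F, _, _, D, -, d2, d3, d4, -, d6, -⟩ := h.exists_natData_of_maxElemIn hA hAQ
  exact ⟨F, inferInstance, inferInstance, charP_of_relIndex h.two d6, D, d2, d3, d4, d6⟩

theorem PA.comm_le (h : PA T L₀) (hT : bau 2 T = T) : ⁅VZ L₀, T⁆ ≤ omegaZ 2 T := by
  obtain ⟨F, _, _, _, D, d1, -, d3, -⟩ := h.nat hT
  exact d3 ▸ D.commutator_le_fix h.le d1.le

omit [Finite G] in
/-- The Borel subgroup is transitive on the nonzero vectors of the fixed line. -/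
theorem nat_trans {F : Type*} [Field F] {E U U₀ : Subgroup G} (D : NatData F ⊤ E U U₀) {x y : G}
    (hx : x ∈ D.fix) (hx' : x ∉ U₀) (hy : y ∈ D.fix) (hy' : y ∉ U₀) :
    ∃ h ∈ E, D.φ h ∈ borel F ∧ y⁻¹ * (h * x * h⁻¹) ∈ U₀ := by
  have h1 := D.mem_fix.1 hx
  have h2 := D.mem_fix.1 hy
  have h3 : D.π x ≠ 0 := fun e => hx' ((D.π_eq_zero x h1.1).1 e)
  obtain ⟨g, hg⟩ := exists_act_eq h3 fun e => hy' ((D.π_eq_zero y h2.1).1 e)
  obtain ⟨h, hh, rfl⟩ := D.φ_surj g (mem_top g)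
  exact ⟨h, hh, mem_borel_of_act h1.2 h3 (hg ▸ h2.2), (D.π_eq_iff h2.1
    (conj_mem_of_le_normalizer D.norm hh h1.1)).1 (by rw [D.π_conj h hh x h1.1, hg])⟩

/-- Two conjugates of a supplement to `O₂(L)` generate `L` modulo `O₂(L)`. -/
theorem PA.exists_opp (h : PA T L₀) (hs : pCoreOf 2 L₀ ⊔ Q = T) :
    ∃ l ∈ pResOf 2 L₀, l ∉ h.1.choose ∧ Q ⊔ conjS l Q ⊔ pCoreOf 2 L₀ = L₀ := by
  have h1 : ¬ pResOf 2 L₀ ≤ h.1.choose := fun e => h.pu.not_le (h.pu.le_of_pResOf_le e h.pu.SM)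
  obtain ⟨l, hl, hl'⟩ := SetLike.not_le_iff_exists.1 h1
  have hQ : Q ≤ T := le_sup_right.trans hs.le
  have hl0 := pResOf_le _ hl
  refine ⟨l, hl, hl', le_antisymm (sup_le (sup_le (hQ.trans h.le)
    (conjS_le_of_le_of_mem (hQ.trans h.le) hl0)) (pCoreOf_le _)) (h.pu.le_of_opp hl0 hl'
      (conjS_mono hQ) (fun e => h.nn (hs.ge.trans (sup_le le_rfl ?_)))
      (hs.ge.trans (sup_le le_sup_right (le_sup_left.trans le_sup_left)))
      (le_sup_right.trans le_sup_left))⟩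
  rwa [← mem_normalizer_iff_conjS.1 (le_normalizer_pCoreOf L₀ hl0), conjS_le_conjS_iff] at e

section
variable (hT : bau 2 T = T) (h0 : PA T L₀) (h1 : PA T L₁) (hV : VZ L₁ ≤ pCoreOf 2 L₀)
  (hs : pCoreOf 2 L₀ ⊔ pCoreOf 2 L₁ = T) (hn : ⁅VZ L₁, L₀⁆ ≤ VZ L₀)
include hT h0 h1 hs hn

theorem sh_R : ⁅VZ L₁, T⁆ ≤ cen (VZ L₀) L₀ := by
  obtain ⟨F, _, _, _, D, -, -, d3, -⟩ := h0.nat hT
  have n1 : L₀ ≤ normalizer ((VZ L₀ ⊔ VZ L₁ : Subgroup G) : Set G) :=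
    Core.le_normalizer_of_commutator_le (commutator_sup_le (le_sup_left.trans le_normalizer)
      (le_sup_right.trans le_normalizer)
      ((commutator_le_left_of_le_normalizer le_normalizer_VZ).trans le_sup_left)
      (hn.trans le_sup_left))
  have nZ : T ≤ normalizer (omegaZ 2 T : Set G) := le_normalizer_omegaZ_of_le le_normalizer
  have e1 : ⁅VZ L₀ ⊔ VZ L₁, pCoreOf 2 L₀⁆ ≤ D.fix := by
    rw [d3]
    exact commutator_sup_le (h0.VS.trans nZ) (h1.VS.trans nZ)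
      ((commutator_mono le_rfl h0.QS).trans (h0.comm_le hT))
      ((commutator_mono le_rfl h0.QS).trans (h1.comm_le hT))
  rw [commutator_VZ_eq h1.le hs]
  rcases D.irreducible D.img_self (Y := ⁅VZ L₀ ⊔ VZ L₁, pCoreOf 2 L₀⁆ ⊔ cen (VZ L₀) L₀) le_sup_right
    ((sup_le e1 D.le_fix).trans D.fix_le) (le_normalizer_sup
      (le_normalizer_commutator n1 (le_normalizer_pCoreOf _)) D.norm₀) with e | e
  · exact (commutator_mono le_sup_right le_rfl).trans (le_sup_left.trans e.le)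
  · obtain ⟨x, hx, hx'⟩ := D.exists_not_mem_fix
    exact (hx' (sup_le e1 D.le_fix (e.ge hx))).elim

theorem sh_Z : omegaZ 2 T = ⁅VZ L₁, T⁆ ⊔ cen (VZ L₁) L₁ := by
  obtain ⟨F, _, _, _, D, d1, -, d3, -⟩ := h1.nat hT
  rw [D.commutator_sup_eq_fix h1.le d1.le (d1 ▸ upU_ne_bot), d3]

include hV in
theorem sh_V : VZ L₁ ≤ omegaZ 2 T ⊔ cen (VZ L₁) (pResOf 2 L₀) := by
  obtain ⟨F, _, _, _, D, d1, -, d3, -⟩ := h0.nat hT
  obtain ⟨l, hl, hl', e⟩ := h0.exists_opp hs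
  have hl0 := pResOf_le _ hl
  set K := pCoreOf 2 L₁ ⊔ conjS l (pCoreOf 2 L₁)
  have c1 : ⁅cen (VZ L₁) K, L₀⁆ ≤ cen (VZ L₀) L₀ := by
    refine (commutator_mono le_rfl e.ge).trans (commutator_sup_le'
      ((le_sup_left.trans e.le).trans D.norm₀) ((pCoreOf_le _).trans D.norm₀)
      ((commutator_eq_bot_iff_le_centralizer.2 inf_le_right).le.trans bot_le) ?_)
    exact (commutator_mono inf_le_left h0.QS).trans (sh_R hT h0 h1 hs hn)
  have c2 : ⁅cen (VZ L₁) K ⊔ cen (VZ L₀) L₀, L₀⁆ ≤ cen (VZ L₀) L₀ :=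
    commutator_sup_le ((inf_le_left.trans (h1.VS.trans h0.le)).trans D.norm₀) le_normalizer c1
      ((commutator_eq_bot_iff_le_centralizer.2 inf_le_right).le.trans bot_le)
  have c3 : pResOf 2 L₀ ≤ centralizer ((cen (VZ L₁) K ⊔ cen (VZ L₀) L₀ : Subgroup G) : Set G) :=
    h0.pu.pResOf_le_of_commutator_le (h0.two.to_le (sup_le (inf_le_left.trans h1.VS)
      (inf_le_left.trans h0.VS))) (Core.le_normalizer_of_commutator_le (c2.trans le_sup_right))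
      ((commutator_mono le_rfl h0.le).trans (c2.trans inf_le_right))
  refine le_trans (fun u hu => ?_) (sup_le_sup_left (le_inf inf_le_left
    (le_sup_left.trans (le_centralizer_iff.1 c3))) (omegaZ 2 T) :
      omegaZ 2 T ⊔ cen (VZ L₁) K ≤ _)
  have hw : ⁅u, l⁆ ∈ VZ L₀ := hn (commutator_mem_commutator hu hl0)
  rw [← D.fix_sup_conjS hl0 (D.not_mem_borel h0.pu.uniq d1 hl0 hl'),
    mem_sup_iff_of_left_le_normalizer ((D.fix_le.trans (VZ_le_centralizer h0.charP)).trans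
      ((centralizer_anti (D.conjS_fix_le hl0)).trans (centralizer_le_normalizer _))), d3] at hw
  obtain ⟨a, ha, b, hb, hab⟩ := hw
  have e1 : a⁻¹ * u = b * (l * u * l⁻¹) := by
    rw [eq_mul_inv_of_mul_eq hab.symm, commutatorElement_def]; group
  have cZ : omegaZ 2 T ⊔ VZ L₁ ≤ centralizer (pCoreOf 2 L₁ : Set G) :=
    sup_le (h1.Z_le.trans (le_centralizer_iff.1 Q_le_centralizer_VZ))
      (le_centralizer_iff.1 Q_le_centralizer_VZ)
  rw [show u = a * (a⁻¹ * u) by group]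
  refine mul_mem (mem_sup_left ha) (mem_sup_right (mem_inf.2 ⟨mul_mem (inv_mem (h1.Z_le ha)) hu, ?_⟩))
  rw [centralizer_sup]
  refine mem_inf.2 ⟨cZ (mul_mem (inv_mem (mem_sup_left ha)) (mem_sup_right hu)), ?_⟩
  rw [e1, ← conjS_centralizer]
  exact conjS_mono cZ (mul_mem (conjS_mono le_sup_left hb)
    (conj_mem_conjS.2 (mem_sup_right hu)))

end

theorem sh_cen (hG : St G) (hS : IsSylowIn 2 S ⊤) (hT : bau 2 S = T) (h0 : PA T L₀) (h1 : PA T L₁)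
    (hV : VZ L₁ ≤ pCoreOf 2 L₀) (hV' : VZ L₀ ≤ pCoreOf 2 L₁)
    (hs : pCoreOf 2 L₀ ⊔ pCoreOf 2 L₁ = T) (hn : ⁅VZ L₁, L₀⁆ ≤ VZ L₀) :
    ⁅WZ L₁, pResOf 2 L₀⁆ = ⊥ := by
  have hB : bau 2 T = T := by rw [← hT, bau_bau]
  obtain ⟨F, _, _, _, D, -, -, d3, -⟩ := h0.nat hB
  obtain ⟨F', _, _, _, D', d1', d2', d3', -⟩ := h1.nat hB
  have hR := sh_R hB h0 h1 hs hn
  have hZ := sh_Z hB h0 h1 hs hn
  have z0 : cen (VZ L₀) L₀ ≤ centralizer (pResOf 2 L₀ : Set G) :=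
    inf_le_right.trans (centralizer_anti (pResOf_le _))
  have z1 : cen (VZ L₁) L₁ ≤ omegaZ 2 T := d3' ▸ D'.le_fix
  have cV := VZ_le_centralizer h1.charP
  have RV : ⁅VZ L₁, T⁆ ≤ VZ L₁ := h1.commutator_V_le
  have nZ : ∀ {X : Subgroup G}, X ≤ L₁ → X ≤ normalizer (cen (VZ L₁) L₁ : Set G) :=
    fun h => h.trans D'.norm₀
  rw [commutator_eq_bot_iff_le_centralizer, h1.WZ_eq, nclIn_le_iff]
  intro l hl x hx
  obtain ⟨r, hr, rfl⟩ := exists_of_mem_conjS hx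
  by_contra hc
  have hr' : r ∉ cen (VZ L₁) L₁ := fun e => hc (by
    rw [mem_centralizer_iff.1 (mem_inf.1 e).2 l hl, mul_inv_cancel_right]; exact z0 (hR hr))
  have hV1 : VZ L₁ ≤ cen (VZ L₁) (pResOf 2 L₀) ⊔ cen (VZ L₁) L₁ := (sh_V hB h0 h1 hV hs hn).trans
    (sup_le (hZ.le.trans (sup_le_sup_right (le_inf RV (hR.trans z0)) _)) le_sup_left)
  obtain ⟨c, hc1, z, hz, e⟩ := (mem_sup_iff_of_left_le_normalizer (nZ (inf_le_left.trans VZ_le))).1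
    (hV1 (LAE.conj_mem_of_mem_normalizer (le_normalizer_VZ hl) (RV hr)))
  have hz' : z ∉ cen (VZ L₀) L₀ := fun e' => hc (e ▸ mul_mem (mem_inf.1 hc1).2 (z0 e'))
  obtain ⟨u, hu, hu'⟩ := hG.exists_cl hS
  have uZ : u ∈ omegaZ 2 T := by
    have h2 : u ∈ omegaZ 2 S := mem_omegaZ.2 ⟨hu' ▸ hu.mem, fun s hs =>
      (comm_of_mem_Tt (hu' ▸ hs)).symm, by rw [sq, hu.sq]⟩
    exact mem_omegaZ.2 ⟨hT ▸ zj_le_bau S (omegaZ_le_zj S h2),
      centralizer_anti (hT ▸ bau_le S) (mem_omegaZ.1 h2).2.1, (mem_omegaZ.1 h2).2.2⟩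
  have ncl : ∀ {y : G} {L : Subgroup G}, Cl y → PA T L → y ∉ centralizer (L : Set G) :=
    fun hy hL e => hy.not_le_pa hL fun g hg => mem_cen1.2 (e g hg).symm
  obtain ⟨h, hh, -, e1⟩ := nat_trans D (d3 ▸ uZ) (fun e => ncl hu h0 (mem_inf.1 e).2)
    (d3 ▸ z1 hz) hz'
  have e2 := e1
  rw [← inf_eq_left.2 (D.le_fix.trans (d3.le.trans hZ.le)), sup_comm,
    inf_sup_of_le_of_le_normalizer' (nZ (RV.trans VZ_le)) hR,
    mem_sup_iff_of_right_le_normalizer (le_normalizer_inf ((RV.trans (h1.VS.trans h0.le)).trans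
      D.norm₀) (nZ (RV.trans VZ_le)))] at e2
  obtain ⟨a, ha, s, hs1, e2⟩ := e2
  have e3 : h * u * h⁻¹ = z * a * s := by rw [mul_assoc z, ← e2]; group
  have hs' : s ∉ cen (VZ L₁) L₁ := fun e => ncl (hu.conj h) h1
    (e3 ▸ mul_mem (mul_mem (mem_inf.1 hz).2 (mem_inf.1 (mem_inf.1 ha).2).2) (mem_inf.1 e).2)
  have RF : ⁅VZ L₁, T⁆ ≤ D'.fix := d3' ▸ h1.comm_le hB
  obtain ⟨k, hk, hk', e4⟩ := nat_trans D' (RF hs1) hs' (RF hr) hr'
  have nR : k ∈ normalizer ((⁅VZ L₁, T⁆ : Subgroup G) : Set G) := by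
    rw [← commutator_sup_of_le_centralizer (C := D'.ker) (d2'.le.trans inf_le_right)
      (h1.le.trans D'.le_normalizer_ker)]
    refine le_normalizer_commutator (L := zpowers k) (zpowers_le.2 (le_normalizer_VZ hk))
      (zpowers_le.2 (D'.mem_normalizer_of_borel (sup_le D'.ker_le h1.le) le_sup_left ?_ hk hk'))
      (mem_zpowers k)
    rw [D'.img_sup D'.ker_le h1.le, D'.img_ker, bot_sup_eq, d1']
  have e5 : r⁻¹ * (k * s * k⁻¹) ∈ cen (VZ L₀) L₀ :=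
    hR (mul_mem (inv_mem hr) (LAE.conj_mem_of_mem_normalizer nR hs1))
  generalize hb : r⁻¹ * (k * s * k⁻¹) = b at e4 e5
  have cl := (hu.conj h).conj (l * k)
  have za : z * a ∈ centralizer (L₁ : Set G) :=
    mul_mem (mem_inf.1 hz).2 (mem_inf.1 (mem_inf.1 ha).2).2
  have e6 : l * k * (h * u * h⁻¹) * (l * k)⁻¹ = a * c * b := by
    have i1 := mem_centralizer_iff.1 za _ (mul_mem hl hk)
    have i2 := mem_centralizer_iff.1 (mem_inf.1 e4).2 _ hl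
    have i3 := mem_centralizer_iff.1 (mem_inf.1 hz).2 (a * c)
      (VZ_le (mul_mem (mem_inf.1 (mem_inf.1 ha).2).1 (mem_inf.1 hc1).1))
    have i4 : z * z = 1 := by rw [← sq]; exact (mem_omegaZ.1 (z1 hz)).2.2
    calc l * k * (h * u * h⁻¹) * (l * k)⁻¹
        = l * k * (z * a) * (l * k)⁻¹ * (l * r * l⁻¹) * (l * b * l⁻¹) := by rw [e3, ← hb]; group
      _ = z * (a * c) * z * b := by rw [i1, i2, e]; group
      _ = a * c * (z * z) * b := by rw [← i3]; group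
      _ = a * c * b := by rw [i4, mul_one]
  rw [e6] at cl
  obtain ⟨g, hg, -, e7⟩ := h0.exists_opp hs
  have c1 : pResOf 2 L₀ ≤ centralizer ({a * c * b} : Set G) := (le_centralizer_iff.1
    (zpowers_le.2 (mul_mem (mul_mem (z0 (mem_inf.1 ha).1) (mem_inf.1 hc1).2) (z0 e5)))).trans
      (cen_le_cen1 (mem_zpowers _))
  have c2 : pCoreOf 2 L₁ ≤ Tt (a * c * b) := cl.le_Tt (isPGroup_pCoreOf _) (Q_le_centralizer_VZ.trans
    (cen_le_cen1 (mul_mem (mul_mem (mem_inf.1 (mem_inf.1 ha).2).1 (mem_inf.1 hc1).1)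
      (mem_inf.1 e4).1)))
  have c3 : pCoreOf 2 L₁ ⊔ conjS g (pCoreOf 2 L₁) ≤ Tt (a * c * b) := sup_le c2
    ((conjS_mono c2).trans (mem_normalizer_iff_conjS.1 (cen_le_norm_Tt _ (c1 hg))).le)
  have c4 : IsPGroup 2 L₀ := e7 ▸ isPGroup_sup ((pg_Tt _).to_le c3) (isPGroup_pCoreOf _)
    ((le_sup_left.trans e7.le).trans (le_normalizer_pCoreOf _))
  exact h0.nn (h0.le.trans (pCoreOf_eq_self c4).ge)

theorem PA.star (h : PA T L₀) (hQ : Q ≤ T) (hn : T ≤ normalizer (Q : Set G))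
    (hs : pCoreOf 2 L₀ ⊔ Q = T) (hE : pResOf 2 L₀ ⊓ T ≤ Q) (hZ : omegaZ 2 T ≤ Q) :
    PA Q (pResOf 2 L₀ ⊔ Q) ∧ pResOf 2 (pResOf 2 L₀ ⊔ Q) = pResOf 2 L₀ ∧
      pCoreOf 2 (pResOf 2 L₀ ⊔ Q : Subgroup G) = pCoreOf 2 L₀ ⊓ Q := by
  set E := pResOf 2 L₀
  have nE : L₀ ≤ normalizer (E : Set G) := le_normalizer_pResOf _
  have h1 : E ⊔ Q ≤ L₀ := sup_le (pResOf_le _) (hQ.trans h.le)
  have h2 : L₀ ≤ normalizer ((E ⊔ Q : Subgroup G) : Set G) := h.E_sup.ge.trans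
    (sup_le (le_sup_left.trans le_normalizer) (le_normalizer_sup (h.le.trans nE) hn))
  have h3 : T ⊓ (E ⊔ Q) = Q := by
    rw [inf_sup_of_le_of_le_normalizer' ((hQ.trans h.le).trans nE) hQ, sup_eq_right, inf_comm]
    exact hE
  have h4 : IsSylowIn 2 Q (E ⊔ Q) := by
    have := h.syl.inf_of_normal h1 h2
    rwa [h3] at this
  have h5 : pCoreOf 2 (E ⊔ Q : Subgroup G) = pCoreOf 2 L₀ ⊓ Q := by
    rw [(SubnormalIn.of_normal h1 h2).pCoreOf_eq, ← inf_eq_left.2 h.QS, inf_comm, inf_assoc, h3,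
      inf_eq_left.2 h.QS]
  have h6 : pResOf 2 (E ⊔ Q) = E := pResOf_eq_of_le le_sup_left h1
  have hp := h.pu
  refine ⟨⟨⟨h.1.choose ⊓ (E ⊔ Q), h4, h.charP.of_normal h1 h2, ⟨le_inf (hQ.trans hp.SM) le_sup_right,
    lt_of_le_of_ne inf_le_right fun e => hp.not_le (hp.le_of_pResOf_le
      (le_sup_left.trans (e.ge.trans inf_le_left)) hp.SM), fun K k1 k2 => le_inf ?_ k2.le⟩,
    fun e => h.nn (hs.ge.trans (sup_le le_rfl (e.trans (h5.le.trans inf_le_left)))),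
    h5 ▸ le_inf ((commutator_mono hQ hQ).trans h.ab)
      (commutator_le_left_of_le_normalizer le_normalizer),
    fun g hg t ht ht' hm => mem_inf.2 ⟨hp.se g (h1 hg) t (hQ ht)
      (fun e => ht' (h5 ▸ mem_inf.2 ⟨e, ht⟩)) (mem_inf.1 hm).1, hg⟩⟩, fun e => h.2 ?_⟩, h6, h5⟩
  · refine le_sup_right.trans (hp.uniq.2.2 (pCoreOf 2 L₀ ⊔ K) (hs.ge.trans (sup_le_sup_left k1 _))
      (lt_of_le_of_ne (sup_le (pCoreOf_le _) (k2.le.trans h1)) fun e => k2.ne' ?_))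
    rw [← inf_eq_left.2 h1, ← e, inf_sup_of_le_of_le_normalizer'
      ((k2.le.trans h1).trans (le_normalizer_pCoreOf _)) k2.le, sup_eq_right,
      ← (SubnormalIn.of_normal h1 h2).pCoreOf_eq, h5]
    exact inf_le_right.trans k1
  · rw [h6] at e
    rw [le_centralizer_iff, VZ_eq_nclIn h.syl]
    refine nclIn_le_centralizer (le_trans ?_ (le_centralizer_iff.1 e)) nE
    exact (le_omegaZ (elemAb_omegaZ T) hZ ((omegaZ_le_centralizer T).trans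
      (centralizer_anti hQ))).trans (omegaZ_le_VZ h4)

end CfsgLib.Baum
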