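import Mathlib
import Cfsg.Agent.Lib.Baum.Sh1
import Cfsg.Agent.Lib.Baum.Loc2
import Cfsg.Agent.Lib.Baum.Pair

/-! The shift, second part. -/

set_option autoImplicit false

namespace CfsgLib.Baum

open Subgroup Cfsg CfsgLib.LAE CfsgLib.PLocal CfsgLib.Push CfsgLib.BHS CfsgLib.ZJ CfsgLib.SL2
  CfsgLib.Blocks CfsgLib.LocStr CfsgLib.CGT2
open scoped commutatorElement


variable {G : Type*} [Group G] [Finite G]

variable {S T L₀ L₁ L' : Subgroup G}

/-- An involution of type `Cl` whose Sylow subgroup contains `O₂(L₁)` lies in `Ω₁ Z(O₂(L₁))`. -/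
theorem PA.mem_omegaZ_core (hS : IsSylowIn 2 S ⊤) (hT : bau 2 S = T) (h1 : PA T L₁) {v : G}
    (hv : Cl v) (h : pCoreOf 2 L₁ ≤ Tt v) : v ∈ omegaZ 2 (pCoreOf 2 L₁) := by
  have hb : bau 2 T = T := by rw [← hT, bau_bau]
  obtain ⟨A, hA, hAQ⟩ : ∃ A ∈ maxElemIn 2 T, ¬ A ≤ pCoreOf 2 L₁ := by
    by_contra hn
    push Not at hn
    exact h1.notJ hb (thompsonSubgroupOf_le_iff.2 hn)
  obtain ⟨F, _, _, D, -, -, -, -, -, -, hA'⟩ := h1.exists_natData_of_maxElemIn hA hAQ
  have hle : A ⊓ pCoreOf 2 L₁ ⊔ VZ L₁ ≤ pCoreOf 2 L₁ := sup_le inf_le_right h1.VQ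
  obtain ⟨A₀, hA₀⟩ := maxElemIn_nonempty (p := 2) S
  have h2 := ((mem_maxElemIn_iff_of_le (hT ▸ bau_le S) hA₀ (hT ▸ le_bau hA₀)).1 hA').1
  have h3 := mem_maxElemIn_of_le hS (pg_Tt v) h2 (hle.trans h)
  have hc : ∀ X : Subgroup G, X ≤ Tt v → v ∈ centralizer (X : Set G) := fun X hX =>
    mem_centralizer_iff.2 fun x hx => (comm_of_mem_Tt (hX hx)).eq.symm
  have hsq : v ^ 2 = 1 := by rw [pow_two, hv.sq]
  exact mem_omegaZ.2 ⟨hle (mem_of_mem_maxElemIn_of_centralizes h3 hv.mem (hc _ (hle.trans h)) hsq),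
    hc _ h, hsq⟩

theorem le_normalizer_of_comm_le {X Y : Subgroup G} (h : ⁅Y, X⁆ ≤ Y) :
    X ≤ normalizer (Y : Set G) := fun x hx =>
  mem_normalizer_of_conjS_le (conjS_le_iff_forall.2 fun y hy => by
    have h1 := Y.mul_mem (Y.inv_mem (h (commutator_mem_commutator hy hx))) hy
    have e : ⁅y, x⁆⁻¹ * y = x * y * x⁻¹ := by rw [commutatorElement_def]; group
    rwa [e] at h1)

/-- An atom normalizes the subgroups between `W` and `C_B(W)` that are normalized by `B`. -/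
theorem atom_norm {F : Type} [Field F] [Fintype F] {B L W Y : Subgroup G} (a : Atom F B L W)
    (h1 : W ≤ Y) (h2 : Y ≤ cen B W) (h3 : B ≤ normalizer (Y : Set G)) :
    L ≤ normalizer (Y : Set G) := by
  rw [← a.E_sup_B]
  refine sup_le (le_normalizer_of_comm_le ?_) h3
  exact ((commutator_mono h2 le_rfl).trans a.comm.le).trans h1

section

variable {F F' : Type} [Field F] [Fintype F] [Field F'] [Fintype F'] {Q L W W' : Subgroup G}
  (a : Atom F Q L W) (a' : Atom F' Q L' W')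
include a a'

/-- An element normalizing `Q` and centralizing `W` moves `W'` into `W' C_Q(O²(L))`. -/
theorem conj_le_sup (hs : W ⊔ cen Q (eA L) = cen Q W) (hc : cen Q (eA L) ≤ centralizer (W' : Set G))
    (hR : W ⊓ W' = cen W Q) (hR' : W ⊓ W' = cen W' Q) (hn : ¬ W ≤ centralizer (W' : Set G))
    {x : G} (hx : ∀ b ∈ Q, b⁻¹ * (x * b * x⁻¹) ∈ cen Q W) (hx' : x ∈ centralizer (W : Set G)) :
    conjS x W' ≤ W' ⊔ cen Q (eA L) := by
  refine conjS_le_iff_forall.2 fun y hy => ?_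
  have hyQ : y ∈ Q := a'.W_le hy
  by_cases hyc : y ∈ centralizer (W : Set G)
  · have h1 : y ∈ cen W' W := ⟨hy, hyc⟩
    rw [a'.cen_eq_of a.W_le hn, ← hR'] at h1
    have h2 : y * x = x * y := mem_centralizer_iff.1 hx' y h1.1
    rw [← h2, mul_inv_cancel_right]
    exact mem_sup_left hy
  · have h1 := hx y hyQ
    have hCW : cen Q (eA L) ≤ centralizer (W : Set G) :=
      inf_le_right.trans (LAE.centralizer_anti a.W_le_E)
    rw [← hs, mem_sup_iff_of_left_le_normalizer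
      (le_normalizer_of_le_centralizer (le_centralizer_iff.1 hCW))] at h1
    obtain ⟨w, hw, c, hc', e⟩ := h1
    have e1 : x * y * x⁻¹ = y * w * c := by rw [mul_assoc y w c, ← e]; group
    have hy2 : y * y = 1 := comm_of_elem a'.elem hy
    have hw2 : w * w = 1 := comm_of_elem a.elem hw
    have c1 : y * c = c * y := mem_centralizer_iff.1 (hc hc') y hy
    have c2 : w * c = c * w := mem_centralizer_iff.1 (hCW hc') w hw
    have e2 : ⁅y, w⁆ = (c * c)⁻¹ := by
      have h3 : (y * w * c) * (y * w * c) = 1 := by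
        rw [← e1]
        calc x * y * x⁻¹ * (x * y * x⁻¹) = x * (y * y) * x⁻¹ := by group
          _ = 1 := by rw [hy2]; group
      have h4 : (y * w * c) * (y * w * c) = y * w * y * w * (c * c) := by
        calc (y * w * c) * (y * w * c) = y * w * (c * y) * w * c := by group
          _ = y * w * y * (c * w) * c := by rw [← c1]; group
          _ = y * w * y * w * (c * c) := by rw [← c2]; group
      rw [commutatorElement_def, inv_eq_of_mul_eq_one_right hy2, inv_eq_of_mul_eq_one_right hw2]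
      exact eq_inv_of_mul_eq_one_left (h4.symm.trans h3)
    have h5 : ⁅y, w⁆ ∈ centralizer (L : Set G) := by
      rw [← a.E_sup_B, LAE.centralizer_sup]
      refine ⟨?_, ?_⟩
      · rw [e2]
        exact (centralizer _).inv_mem ((centralizer _).mul_mem hc'.2 hc'.2)
      · have h6 := a.comm_WB_le (commutator_mem_commutator hw hyQ)
        rw [← commutatorElement_inv]
        exact (centralizer _).inv_mem h6.2
    have h7 : w ∈ cen W Q := ⟨hw, a.mem_cen_of_Z hyQ hyc hw h5⟩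
    rw [← hR] at h7
    rw [e1]
    exact mul_mem (mem_sup_left (W'.mul_mem hy h7.2)) (mem_sup_right hc')

/-- The module step: `x` normalizes `W'`. -/
theorem conj_le_self (hG : St G) (hv : ∀ v, Cl v → Q ≤ Tt v → v ∈ omegaZ 2 Q)
    (hg : W ⊔ cen Q W' = Q) (hR' : W ⊓ W' = cen W' Q)
    (hn : ¬ W ≤ centralizer (W' : Set G)) (hn' : ¬ W' ≤ centralizer (W : Set G))
    {x : G} (hx : x ∈ normalizer (Q : Set G)) (hx' : x ∈ centralizer (W : Set G))
    (h1 : conjS x W' ≤ centralizer (W' : Set G)) (h2 : conjS x W' ≤ W' ⊔ centralizer (W : Set G)) :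
    conjS x W' ≤ W' := by
  have hxQ : conjS x Q = Q := mem_normalizer_iff_conjS.1 hx
  obtain ⟨ax⟩ := a'.nonempty_conj x
  rw [hxQ] at ax
  set Y := W' ⊔ conjS x W' ⊔ omegaZ 2 Q with hY
  have hZ : ∀ X : Subgroup G, X ≤ Q → omegaZ 2 Q ≤ centralizer (X : Set G) := fun X hX =>
    (omegaZ_le_centralizer Q).trans (LAE.centralizer_anti hX)
  have hWW : W' ⊔ conjS x W' ≤ Q := sup_le a'.W_le ax.W_le
  have hYQ : Y ≤ Q := sup_le hWW (omegaZ_le Q)
  have hYe : IsElementaryAbelian 2 Y :=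
    elemAb_sup (elemAb_sup a'.elem ax.elem (le_centralizer_iff.1 h1)) (elemAb_omegaZ Q)
      (le_centralizer_iff.1 (hZ _ hWW))
  have hYc := elemAb_le_centralizer hYe
  have hW'Y : W' ≤ Y := le_sup_left.trans le_sup_left
  have hWxY : conjS x W' ≤ Y := le_sup_right.trans le_sup_left
  have hQY : Q ≤ normalizer (Y : Set G) :=
    LAE.le_normalizer_sup (LAE.le_normalizer_sup a'.BW ax.BW)
      (le_normalizer_omegaZ_of_le le_normalizer)
  have n1 : L' ≤ normalizer (Y : Set G) :=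
    atom_norm a' hW'Y (le_inf hYQ (hYc.trans (LAE.centralizer_anti hW'Y))) hQY
  have n2 : conjS x L' ≤ normalizer (Y : Set G) :=
    atom_norm ax hWxY (le_inf hYQ (hYc.trans (LAE.centralizer_anti hWxY))) hQY
  obtain ⟨S₁, hS₁, hQS⟩ := exists_isSylowIn_ge a.two hQY
  obtain ⟨v, hv1, hv2⟩ := hG.exists_le hS₁.isPGroup
  have mh : MH0 (normalizer (Y : Set G)) S₁ Y :=
    mh0_of hYe le_normalizer le_rfl hS₁ hv1 (mem_sup_right (hv v hv1 (hQS.trans hv2))) hv2
  have hYs : Y ≤ W' ⊔ centralizer (W : Set G) :=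
    sup_le (sup_le le_sup_left h2) ((hZ _ a.W_le).trans le_sup_right)
  obtain ⟨hro, hcomm⟩ := rootOn_of_atom (A := W) (Y := Y) a' hg hYe hW'Y (fun y hy => by
    have h3 := hYs hy
    rw [mem_sup_iff_of_left_le_normalizer
      (le_normalizer_centralizer (a'.W_le.trans a.BW))] at h3
    obtain ⟨w, hw, c, hc, rfl⟩ := h3
    exact ⟨w⁻¹, W'.inv_mem hw, by rwa [inv_mul_cancel_left]⟩) (by
    rw [a.cen_eq_of a'.W_le hn']
    exact inf_le_right.trans (LAE.centralizer_anti hYQ))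
  obtain ⟨l, hl, hl'⟩ := a'.exists_not_norm
  have hlW : conjS l W' = W' := mem_normalizer_iff_conjS.1 (a'.normW hl)
  have hnp : ¬ IsPGroup 2 (W ⊔ conjS l W : Subgroup G) := by
    refine atom_not_pg a' a.W_le hn hl hl' (conjS_mono a.W_le) fun h => hn ?_
    rw [← hlW, ← conjS_centralizer, conjS_le_conjS_iff] at h
    exact h
  have hxW : ∀ X : Subgroup G, X ≤ W → conjS x X = X := fun X hX =>
    mem_normalizer_iff_conjS.1 (centralizer_le_normalizer _ (LAE.centralizer_anti hX hx'))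
  have hRW : cen W' Q ≤ W := hR' ▸ inf_le_left
  have hl2 : x * l * x⁻¹ ∈ normalizer (Y : Set G) := n2 (conj_mem_conjS.2 hl)
  have ec : ∀ g ∈ normalizer (Y : Set G), ⁅Y, conjS g W⁆ = conjS g (cen W' Q) := fun g hg' => by
    rw [← hcomm, conjS_commutator, mem_normalizer_iff_conjS.1 hg']
  have ex : ∀ X : Subgroup G, X ≤ W → conjS (x * l * x⁻¹) X = conjS x (conjS l X) := fun X hX => by
    conv_lhs => rw [← hxW X hX]
    rw [← conjS_mul, inv_mul_cancel_right, conjS_mul]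
  have es := atom_sup_conj a' hl hl'
  rcases mh.same hro (a.W_le.trans hQY) (n1 hl) hl2 hnp with h | h
  · rw [ec _ hl2, ec _ (n1 hl), hcomm, es, ex _ hRW] at h
    conv_lhs => rw [← es, conjS_sup, hxW _ hRW]
    exact sup_le inf_le_left h
  · exfalso
    rw [ec _ (n1 hl), hcomm, es, ex _ le_rfl, commutator_eq_bot_iff_le_centralizer] at h
    have h3 : cen W' Q ≤ centralizer (conjS x (conjS l W) : Set G) := inf_le_left.trans h
    rw [← hxW _ hRW, ← conjS_centralizer, conjS_le_conjS_iff, ← conjS_centralizer] at h3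
    have h4 : cen W' Q ≤ conjS l (cen W' W) := by
      rw [conjS_inf, hlW]
      exact le_inf inf_le_left h3
    rw [a'.cen_eq_of a.W_le hn] at h4
    refine a'.not_C_le ?_
    have h5 := (le_inf le_rfl h4).trans (a'.cen_inf hl hl').le
    exact h5.trans inf_le_right

end

theorem sh_false (hG : St G) (hS : IsSylowIn 2 S ⊤) (hT : bau 2 S = T) (h0 : PA T L₀) (h1 : PA T L₁)
    (hmin : ∀ L, PA T L → VZ L₀ ≤ pCoreOf 2 L) (hs : pCoreOf 2 L₀ ⊔ pCoreOf 2 L₁ = T)
    (hE : pResOf 2 L₀ ⊓ T ≤ pCoreOf 2 L₁) (h' : PA (pCoreOf 2 L₁) L')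
    (hc : ¬ VZ (pResOf 2 L₀ ⊔ pCoreOf 2 L₁) ≤ pCoreOf 2 L') : False := by
  have nT0 : T ≤ normalizer (pCoreOf 2 L₀ : Set G) := h0.le.trans (le_normalizer_pCoreOf L₀)
  have nT1 : T ≤ normalizer (pCoreOf 2 L₁ : Set G) := h1.le.trans (le_normalizer_pCoreOf L₁)
  have hZ : omegaZ 2 T ≤ pCoreOf 2 L₁ := h1.Z_le.trans h1.VQ
  obtain ⟨hp, hres, hcore⟩ := h0.star h1.QS nT1 hs hE hZ
  have hv : ∀ v, Cl v → pCoreOf 2 L₁ ≤ Tt v → v ∈ omegaZ 2 (pCoreOf 2 L₁) := fun v hv h =>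
    h1.mem_omegaZ_core hS hT hv h
  have hQT := h1.QS
  generalize pCoreOf 2 L₁ = Q at *
  set L := pResOf 2 L₀ ⊔ Q with hL
  have hc' := crit_symm hp h' hc
  obtain ⟨⟨F, _, _, ⟨a⟩⟩, eW, eQ⟩ := crit_atom hp h' hc
  obtain ⟨⟨F', _, _, ⟨a'⟩⟩, -, eQ'⟩ := crit_atom h' hp hc'
  obtain ⟨-, hn⟩ := crit_gen hp h' hc
  obtain ⟨hg, hn'⟩ := crit_gen h' hp hc'
  obtain ⟨s1, s2, s3, -⟩ := crit_split hp h' hc
  obtain ⟨-, -, s4, -⟩ := crit_split h' hp hc'
  rw [inf_comm] at s4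
  -- the module of `L` is the module of `L₀`
  have nL : L₀ ≤ normalizer (L : Set G) := by
    rw [← h0.E_sup]
    exact sup_le (le_sup_left.trans le_normalizer)
      (LAE.le_normalizer_sup (h0.le.trans (le_normalizer_pResOf L₀)) nT1)
  have hZQ : omegaZ 2 T ≤ omegaZ 2 Q :=
    le_omegaZ (elemAb_omegaZ T) hZ ((omegaZ_le_centralizer T).trans (LAE.centralizer_anti hQT))
  have hV : VZ L₀ ≤ VZ L := by
    rw [VZ_eq_nclIn h0.syl]
    exact nclIn_le (hZQ.trans hp.Z_le) (nL.trans normalizer_le_normalizer_VZ)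
  have eW0 : WZ L₀ = wA L := by
    refine atom_eq_of_normal a ?_ ?_ fun h => h0.nn ?_
    · rw [eW, hp.WZ_eq_comm, h0.WZ_eq_comm, hres]
      exact commutator_mono hV le_rfl
    · rw [eA, hres]
      exact (pResOf_le L₀).trans le_normalizer_WZ
    · refine hs.ge.trans (sup_le le_rfl ?_)
      rw [← h0.cen_WZ]
      exact le_inf hQT (le_centralizer_iff.1 (h.trans (LAE.centralizer_anti le_sup_right)))
  have hQ0 : pCoreOf 2 L₀ ≤ centralizer (wA L : Set G) := by
    rw [← eW0]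
    exact Q_le_centralizer_VZ.trans (LAE.centralizer_anti WZ_le)
  -- `O₂(L₀)` normalizes the module of `L'`
  have hN : pCoreOf 2 L₀ ≤ normalizer (wA L' : Set G) := fun x hx => by
    have hxQ := nT1 (h0.QS hx)
    have k1 := conj_le_sup a a' s1 s2 s3 s4 hn (x := x) (fun b hb => by
      rw [eQ, hcore]
      refine ⟨?_, Q.mul_mem (Q.inv_mem hb) (LAE.conj_mem_of_mem_normalizer hxQ hb)⟩
      have e : b⁻¹ * (x * b * x⁻¹) = b⁻¹ * x * b * x⁻¹ := by group
      rw [e]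
      exact (pCoreOf 2 L₀).mul_mem (LAE.conj_inv_mem_of_mem_normalizer (nT0 (hQT hb)) hx)
        ((pCoreOf 2 L₀).inv_mem hx)) (hQ0 hx)
    refine mem_normalizer_of_conjS_le (conj_le_self a a' hG hv hg s4 hn hn' hxQ (hQ0 hx)
      (k1.trans (sup_le (elemAb_le_centralizer a'.elem) s2)) (k1.trans (sup_le_sup_left ?_ _)))
    exact inf_le_right.trans (LAE.centralizer_anti a.W_le_E)
  set Y := wA L' ⊔ omegaZ 2 Q with hY
  have hYQ : Y ≤ Q := sup_le a'.W_le (omegaZ_le Q)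
  have hTY : T ≤ normalizer (Y : Set G) :=
    LAE.le_normalizer_sup (hs.ge.trans (sup_le hN a'.BW)) (le_normalizer_omegaZ_of_le nT1)
  have n1 : L' ≤ normalizer (Y : Set G) :=
    atom_norm a' le_sup_left (le_inf hYQ (sup_le (elemAb_le_centralizer a'.elem)
      ((omegaZ_le_centralizer Q).trans (LAE.centralizer_anti a'.W_le)))) (hQT.trans hTY)
  obtain ⟨v, hv1, hv2⟩ := hG.exists_le a.two
  have hloc : Loc2 Y := ⟨a.two.to_le hYQ, v, mem_sup_right (hv v hv1 hv2), hv1⟩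
  obtain ⟨S', hS', hTS⟩ := exists_isSylowIn_ge h0.two hTY
  have hb : bau 2 S' = T := by rw [← hT] at hTS ⊢; exact bau_eq_of_isPGroup hS hS'.isPGroup hTS
  have k2 := (hG.lh hloc hS').le_core (X := wA L) (hb ▸ a.W_le.trans hQT) fun K _ hK =>
    (eW0.ge.trans WZ_le).trans (hmin K (hb ▸ hK))
  have k3 := (le_inf (a.W_le.trans a'.le) k2).trans (inf_pCoreOf_le n1)
  rw [← eQ'] at k3
  exact hn (k3.trans inf_le_right)

end CfsgLib.Baum
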