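import Mathlib
import Cfsg.Agent.Lib.Baum.Sh2
import Cfsg.Agent.Lib.Baum.Am

/-! The shift, and the existence of a source. -/

set_option autoImplicit false

namespace CfsgLib.Baum

open Subgroup Cfsg CfsgLib.LAE CfsgLib.PLocal CfsgLib.Push CfsgLib.BHS CfsgLib.ZJ CfsgLib.SL2
  CfsgLib.Blocks CfsgLib.LocStr CfsgLib.CGT2
open scoped commutatorElement


variable {G : Type*} [Group G] [Finite G]

theorem shift (hG : St G) {c : ℕ} (hc : ∀ n < c, ¬ CritZ (Top : Subgroup G → Subgroup G → Prop) n)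
    (h0 : c ≠ 0) {T T' L L' : Subgroup G} (h1 : Rch Top c T T') (h2 : Top T L) (h3 : Top T' L')
    (h4 : ¬ VZ L ≤ pCoreOf 2 L') : ¬ L ≤ normalizer (UZ Top T : Set G) := by
  intro hn
  have fam := famZ_top (G := G)
  have hcrit := (fam.crit hc h1 h2 h3 h4).1
  obtain ⟨d, rfl⟩ := Nat.exists_eq_succ_of_ne_zero h0
  obtain ⟨T₂, L₁, r, f2, f1⟩ : ∃ T₂ L₁, Rch Top d T' T₂ ∧ Top T₂ L₁ ∧ Top T L₁ := by
    cases h1.symm with
    | step r f2 f1 => exact ⟨_, _, r, f2, f1⟩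
  obtain ⟨⟨S, hS, hT⟩, p0⟩ := id h2
  have p1 := f1.2
  have hb : bau 2 T = T := by rw [← hT, bau_bau]
  have adj : ∀ {A B : Subgroup G}, PA T A → PA T B → VZ A ≤ pCoreOf 2 B := fun hA hB =>
    FamZ.V_le_Q hc (Nat.succ_pos d) (Rch.refl T) ⟨⟨S, hS, hT⟩, hA⟩ ⟨⟨S, hS, hT⟩, hB⟩
  have hs : pCoreOf 2 L ⊔ pCoreOf 2 L₁ = T :=
    le_antisymm (sup_le p0.QS p1.QS) (hcrit.ge.trans (sup_le
      ((FamZ.V_le_Q hc (Nat.lt_succ_self d) r h3 f2).trans le_sup_right) le_sup_left))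
  have hne : L ≠ L₁ := by
    rintro rfl
    exact p0.nn (hs.ge.trans (sup_le le_rfl le_rfl))
  have hU : ⁅UZ Top T, T⁆ ≤ VZ L := by
    refine LAE.commutator_iSup_le (fun K => iSup_le fun hK => ?_) fun K => ?_
    · exact (hK.2.VS.trans p0.le).trans le_normalizer_VZ
    · exact LAE.commutator_iSup_le (fun hK => (hK.2.VS.trans p0.le).trans le_normalizer_VZ)
        fun hK => (hK.2.comm_le hb).trans p0.Z_le
  have hU' : ⁅VZ L₁, L⁆ ≤ VZ L := by
    refine (commutator_mono (VZ_le_UZ f1) le_rfl).trans ?_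
    rw [commutator_comm] at hU ⊢
    conv_lhs => rw [← p0.nclIn_eq]
    exact commutator_nclIn_le (p0.le.trans le_normalizer_VZ) hn le_normalizer_VZ hU
  have hcen := sh_cen hG hS hT p0 p1 (adj p1 p0) (adj p0 p1) hs hU'
  have hE : pResOf 2 L ⊓ T ≤ pCoreOf 2 L₁ := by
    rw [← p1.cen_WZ]
    exact le_inf inf_le_right (inf_le_left.trans
      (le_centralizer_iff.1 (commutator_eq_bot_iff_le_centralizer.1 hcen)))
  have nT1 : L₁ ≤ normalizer (pCoreOf 2 L₁ : Set G) := le_normalizer_pCoreOf L₁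
  have hp := (p0.star p1.QS (p1.le.trans nT1) hs hE (p1.Z_le.trans p1.VQ)).1
  rcases hp.orbit with ⟨N, hN1, hN2, hN3, hN4⟩ | ⟨n, hn1, hn2⟩
  · obtain ⟨v, hv1, hv2⟩ := hG.exists_le hp.two
    have hloc : Loc2 N := ⟨hp.two.to_le hN1, v, hN2 (p1.mem_omegaZ_core hS hT hv1 hv2), hv1⟩
    have k1 : L₁ ≤ normalizer (N : Set G) := nT1.trans hN3
    have k0 : L ≤ normalizer (N : Set G) := by
      rw [← p0.E_sup]
      exact sup_le (le_sup_left.trans hN4) (p1.le.trans k1)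
    obtain ⟨S', hS', hTS⟩ := exists_isSylowIn_ge p0.two (p1.le.trans k1)
    have hb' : bau 2 S' = T := by rw [← hT] at hTS ⊢; exact bau_eq_of_isPGroup hS hS'.isPGroup hTS
    have k2 := ((hG.lh hloc hS').comm (hb' ▸ p0) (hb' ▸ p1) k0 k1 hne).1
    obtain ⟨g, hg, hg'⟩ := p1.syl.exists_conj f2.2.syl
    obtain ⟨e, he, t, ht, rfl⟩ := p1.syl.exists_mul hg
    rw [conjS_mul, conjS_eq_of_mem ht] at hg'
    have f3 := fam.conj e h2
    rw [hg'] at f3
    have k3 := FamZ.V_le_Q hc (Nat.lt_succ_self d) r.symm f3 h3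
    have k4 : conjS e (WZ L) = WZ L := mem_normalizer_iff_conjS.1 (centralizer_le_normalizer _
      (le_centralizer_iff.1 (commutator_eq_bot_iff_le_centralizer.1 k2) he))
    refine h4 ?_
    rw [VZ_eq_sup p0.syl]
    refine sup_le (p1.Z_le.trans (FamZ.V_le_Q hc (Nat.lt_succ_self d) r.symm f2 h3)) ?_
    rw [← k4, conjS_WZ]
    exact WZ_le.trans k3
  · have hp' := hp.conj n
    rw [mem_normalizer_iff_conjS.1 hn1] at hp'
    exact sh_false hG hS hT p0 p1 (fun K hK => adj p0 hK) hs hE hp' hn2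

theorem src_of_top (hG : St G) {x : G} (hx : Cl x) {c : ℕ}
    (hc : CritZ (Top : Subgroup G → Subgroup G → Prop) c) : ∃ B L L', Src x B L L' := by
  classical
  have ex : ∃ n, CritZ (Top : Subgroup G → Subgroup G → Prop) n := ⟨c, hc⟩
  have hm : ∀ n < Nat.find ex, ¬ CritZ (Top : Subgroup G → Subgroup G → Prop) n :=
    fun n hn => Nat.find_min ex hn
  have h0 : Nat.find ex = 0 := by
    by_contra h0
    exact h0 (famZ_top.crit_zero hm (Nat.find_spec ex) fun _ _ _ _ => shift hG hm h0)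
  obtain ⟨T, T', L, L', h1, h2, h3, h4⟩ := Nat.find_spec ex
  rw [h0] at h1
  cases h1
  obtain ⟨⟨S, hS, hT⟩, p0⟩ := h2
  obtain ⟨g, -, hg⟩ := hS.exists_conj hx.syl
  have e : conjS g T = bau 2 (Tt x) := by rw [← hT, conjS_bau, hg]
  refine ⟨bau 2 (Tt x), conjS g L, conjS g L', hx, ?_, bau_le _, e ▸ p0.conj g, e ▸ h3.2.conj g,
    ?_, fun X _ _ _ S' hS' h => bau_eq_of_isPGroup hx.syl hS'.isPGroup h⟩
  · refine zj_le_bau _ (omegaZ_le_zj _ (mem_omegaZ.2 ⟨hx.mem, ?_, by rw [pow_two, hx.sq]⟩))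
    exact mem_centralizer_iff.2 fun y hy => (comm_of_mem_Tt hy).eq.symm
  · rwa [← conjS_VZ, ← conjS_pCoreOf, conjS_le_conjS_iff]

end CfsgLib.Baum
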