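import Mathlib
import Cfsg.Agent.Lib.Baum.Sh3

/-! The choice of the level. -/

set_option autoImplicit false
set_option linter.unusedSectionVars false

namespace CfsgLib.Baum

open Subgroup Cfsg CfsgLib.LAE CfsgLib.PLocal CfsgLib.Push CfsgLib.BHS CfsgLib.ZJ CfsgLib.SL2
  CfsgLib.Blocks CfsgLib.LocStr CfsgLib.CGT2
open scoped commutatorElement


variable {G : Type*} [Group G] [Finite G]

namespace Lv

theorem src_conj {x : G} {B L L' : Subgroup G} (h : Src x B L L') (g : G) :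
    Src (g * x * g⁻¹) (conjS g B) (conjS g L) (conjS g L') := by
  refine ⟨h.cl.conj g, conj_mem_conjS.2 h.mem, by rw [← conjS_Tt]; exact conjS_mono h.le, h.pa.conj g,
    h.pa'.conj g, by rw [← conjS_VZ, ← conjS_pCoreOf, conjS_le_conjS_iff]; exact h.crit,
    fun X h1 h2 h3 S h4 h5 => ?_⟩
  have := h.lev (conjS g⁻¹ X) (le_conjS_iff.1 h1) (h2.conj _)
    (by rwa [← conjS_normalizer, ← conjS_le_iff, ← conjS_le_iff]) (conjS g⁻¹ S)
    (by rw [← conjS_normalizer]; exact h4.conj _) (conjS_le_iff.1 h5)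
  rw [← this, conjS_bau, conjS_conjS_inv]

theorem exists_mx {P : Subgroup G → Prop} {S₀ : Subgroup G} (h : P S₀) :
    ∃ S, P S ∧ (∀ S', P S' → bau 2 S ≤ S' → bau 2 S' = bau 2 S) ∧ ∀ S', P S' → S ≤ S' → S' = S := by
  choose A hA using fun T : Subgroup G => maxElemIn_nonempty (p := 2) T
  obtain ⟨T₀, h0, hmax⟩ := Set.exists_max_image {T | P T} (fun T => toLex (Nat.card (A T),
    toLex (Nat.card (thompsonSubgroupOf 2 T), Nat.card (bau 2 T)))) (Set.toFinite _) ⟨S₀, h⟩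
  have key : ∀ T', P T' → bau 2 T₀ ≤ T' → bau 2 T' = bau 2 T₀ := by
    intro T' hT' hle
    have hJ : thompsonSubgroupOf 2 T₀ ≤ T' := (J_le_bau T₀).trans hle
    have hsub : ∀ C ∈ maxElemIn 2 T₀, C ≤ T' := fun C hC => (le_thompsonSubgroupOf hC).trans hJ
    have h1 : Nat.card (A T₀) ≤ Nat.card (A T') := (hA T').2.2 _ (hsub _ (hA T₀)) (hA T₀).2.1
    rcases Prod.Lex.toLex_le_toLex.1 (hmax T' hT') with e | ⟨e1, e⟩
    · exact absurd e h1.not_gt
    have h2 : thompsonSubgroupOf 2 T₀ ≤ thompsonSubgroupOf 2 T' :=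
      thompsonSubgroupOf_le_iff.2 fun C hC => le_thompsonSubgroupOf
        (mem_maxElemIn_of_card_le (hA T') (hsub C hC) hC.2.1
          (e1.le.trans (card_eq_of_mem_maxElemIn (hA T₀) hC).le))
    rcases Prod.Lex.toLex_le_toLex.1 e with e | ⟨e2, e⟩
    · exact absurd e (card_le_card_of_le h2).not_gt
    have h3 : thompsonSubgroupOf 2 T₀ = thompsonSubgroupOf 2 T' := eq_of_le_of_card_ge h2 e2.le
    refine (eq_of_le_of_card_ge (le_inf hle ?_) e).symm
    rw [← zj_eq_of_J_eq h3]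
    exact inf_le_right
  obtain ⟨T, hle, hT, hm⟩ := Finite.exists_le_maximal (p := P) h0
  have e := key T hT ((bau_le T₀).trans hle)
  exact ⟨T, hT, fun T' h1 h2 => e ▸ key T' h1 (e ▸ h2), fun T' h1 h2 => le_antisymm (hm h1 h2) h2⟩

/-- A 2-subgroup of `M` normalizing a local subgroup whose normalizer is not in `M`. -/
def Str (M S : Subgroup G) : Prop :=
  IsPGroup 2 S ∧ S ≤ M ∧ ∃ X ≤ S, Loc2 X ∧ S ≤ normalizer (X : Set G) ∧ ¬ normalizer (X : Set G) ≤ M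

theorem aux (hG : St G) {x : G} (hx : Cl x) {X₀ S : Subgroup G} (h0 : Loc2 X₀)
    (hm : ∀ X : Subgroup G, Loc2 X → normalizer (X₀ : Set G) ≤ normalizer (X : Set G) →
      normalizer (X : Set G) ≤ normalizer (X₀ : Set G))
    (hJ : normalizer (thompsonSubgroupOf 2 (Tt x) : Set G) ≤ normalizer (X₀ : Set G))
    (hS : Str (normalizer (X₀ : Set G)) S)
    (hb : ∀ S', Str (normalizer (X₀ : Set G)) S' → bau 2 S ≤ S' → bau 2 S' = bau 2 S)
    (hs : ∀ S', Str (normalizer (X₀ : Set G)) S' → S ≤ S' → S' = S) (hT : S ≤ Tt x) :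
    ∃ B L L', Src x B L L' := by
  set M := normalizer (X₀ : Set G)
  obtain ⟨s1, s2, X, x1, x2, x3, x4⟩ := hS
  have TM : Tt x ≤ M := (le_normalizer.trans (normalizer_le_normalizer_thompsonSubgroupOf _)).trans hJ
  have c1 : x ∈ centralizer (S : Set G) := fun s hs => (comm_of_mem_Tt (hT hs)).symm
  have c2 : S ⊔ zpowers x ≤ Tt x := sup_le hT (zpowers_le.2 hx.mem)
  have c3 : x ∈ S := (hs _ ⟨(pg_Tt x).to_le c2, c2.trans TM, X, x1.trans le_sup_left, x2,
    sup_le x3 (zpowers_le.2 (centralizer_le_normalizer _ (centralizer_anti x1 c1))), x4⟩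
    le_sup_left).le (mem_sup_right (mem_zpowers x))
  have c4 : x ∈ bau 2 S := zj_le_bau S (omegaZ_le_zj S (mem_omegaZ.2 ⟨c3, c1, by rw [pow_two, hx.sq]⟩))
  have c5 : x ∈ omegaZ 2 (bau 2 S) :=
    mem_omegaZ.2 ⟨c4, centralizer_anti (bau_le S) c1, by rw [pow_two, hx.sq]⟩
  have loc : ∀ {N}, N ≤ bau 2 S → omegaZ 2 (bau 2 S) ≤ N → Loc2 N := fun h1 h2 =>
    ⟨s1.to_le (h1.trans (bau_le S)), x, h2 c5, hx⟩
  have dich : S = Tt x ∨ ∀ C ≤ S, Loc2 C → normalizer (S : Set G) ≤ normalizer (C : Set G) →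
      normalizer (C : Set G) ≤ M := by
    rcases hT.eq_or_lt with e | hlt
    · exact Or.inl e
    have hlt' := Core.lt_inf_normalizer_of_isPGroup (pg_Tt x) hlt
    refine Or.inr fun C hC C0 hn => by_contra fun hc => ?_
    exact hlt'.ne' (hs _ ⟨(pg_Tt x).to_le inf_le_left, inf_le_left.trans TM, C,
      hC.trans hlt'.le, C0, inf_le_right.trans hn, hc⟩ hlt'.le)
  have nB : normalizer (bau 2 S : Set G) ≤ M := by
    rcases dich with rfl | h1
    · exact (normalizer_le_normalizer_thompsonSubgroupOf _).trans (by rwa [J_bau])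
    · exact h1 _ (bau_le S) (loc le_rfl (omegaZ_le _)) (normalizer_le_normalizer_bau S)
  have star : ∀ Y ≤ bau 2 S, Loc2 Y → ¬ normalizer (Y : Set G) ≤ M → ∀ R,
      IsSylowIn 2 R (normalizer (Y : Set G)) → bau 2 S ≤ R → bau 2 R = bau 2 S := by
    intro Y y1 y2 y3 R hR h1
    have hle : bau 2 S ≤ R ⊓ M := le_inf h1 ((bau_le S).trans s2)
    have e3 := hb (R ⊓ M) ⟨hR.isPGroup.to_le inf_le_left, inf_le_right, Y, y1.trans hle, y2,
      inf_le_left.trans hR.le, y3⟩ hle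
    by_cases e4 : R ⊓ M = R
    · rwa [e4] at e3
    · obtain ⟨s, hs, hsN, hsX⟩ := SetA.exists_norm hR.isPGroup (lt_of_le_of_ne inf_le_left e4)
      exact absurd ⟨hs, nB (e3 ▸ normalizer_le_normalizer_bau _ hsN)⟩ hsX
  have syl : IsSylowIn 2 S (normalizer (X : Set G)) := ⟨x3, s1, fun T' hT' e1 e2 => by
    by_contra hne
    obtain ⟨s, h1, hsN, hsX⟩ := SetA.exists_norm hT' (lt_of_le_of_ne e1 (Ne.symm hne))
    have hle : S ≤ T' ⊓ M := le_inf e1 s2
    refine hsX ?_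
    rw [← hs (T' ⊓ M) ⟨hT'.to_le inf_le_left, inf_le_right, X, x1.trans hle, x2,
      inf_le_left.trans e2, x4⟩ hle]
    exact ⟨h1, nB (normalizer_le_normalizer_bau _ hsN)⟩⟩
  obtain ⟨L, hL, hLM⟩ : ∃ L, PA (bau 2 S) L ∧ ¬ L ≤ M := by
    by_contra hc
    push Not at hc
    exact x4 ((hG.lh x2 syl).gen.trans (sup_le nB (sSup_le fun L hL => hc L hL.2)))
  rcases dich with rfl | h1
  · by_cases hc : ∃ c, CritZ (Top : Subgroup G → Subgroup G → Prop) c
    · exact src_of_top hG hx hc.choose_spec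
    have tp : ∀ {L}, PA (bau 2 (Tt x)) L → Top (bau 2 (Tt x)) L := fun h => ⟨⟨_, hx.syl, rfl⟩, h⟩
    obtain ⟨N, n1, n2, n3, n4⟩ := famZ_top.exists_normal (not_exists.1 hc) (tp hL)
    exact absurd ((n4 L (tp hL)).trans (hm N (loc n1 (hL.Z_le.trans ((VZ_le_UZ (tp hL)).trans n2)))
      ((hG.lh h0 (hx.syl.mono TM le_top)).gen.trans
        (sup_le n3 (sSup_le fun L' hL' => n4 L' (tp hL'.2)))))) hLM
  · obtain ⟨N, n1, n2, n3, n4⟩ | ⟨n, n1, n2⟩ := hL.orbit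
    · exact absurd (n4.trans (h1 N (n1.trans (bau_le S)) (loc n1 n2)
        ((normalizer_le_normalizer_bau S).trans n3))) hLM
    · refine ⟨_, L, conjS n L, hx, c4, (bau_le S).trans hT, hL,
        by simpa only [mem_normalizer_iff_conjS.1 n1] using hL.conj n, n2,
        fun Y y1 y2 y3 => star Y y1 y2 fun y4 => hLM ?_⟩
      rcases y3 with y3 | y3
      · exact y3.trans y4
      · rw [← conjS_eq_of_mem (inv_mem (nB n1)), ← conjS_le_iff]
        exact y3.trans y4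

end Lv

theorem lev (hG : St G) {x : G} (hx : Cl x)
    (hO : ∀ X : Subgroup G, IsPGroup 2 X → X.Normal → X = ⊥) :
    (∃ P : Subgroup G, P ≠ ⊤ ∧ Ctl x P) ∨ ∃ B L L', Src x B L L' := by
  obtain ⟨_, hJ, ⟨X₀, h0, rfl⟩, hm⟩ := Finite.exists_le_maximal
    (p := fun M : Subgroup G => ∃ X, Loc2 X ∧ normalizer (X : Set G) = M)
    ⟨thompsonSubgroupOf 2 (Tt x), ⟨(pg_Tt x).to_le (thompsonSubgroupOf_le _), x,
      (omegaOne_le _ (omegaZ_le_zj _ (mem_omegaZ.2 ⟨hx.mem, fun s hs => (comm_of_mem_Tt hs).symm,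
        by rw [pow_two, hx.sq]⟩))).1, hx⟩, rfl⟩
  have hN := (normalizer_le_normalizer_thompsonSubgroupOf _).trans hJ
  have hT := hx.syl.mono (le_normalizer.trans hN) le_top
  by_cases hc : Ctl x (normalizer (X₀ : Set G))
  · refine Or.inl ⟨_, fun e => ?_, hc⟩
    obtain ⟨u, u1, u2⟩ := h0.2
    rw [hO X₀ h0.1 (normalizer_eq_top_iff.1 e)] at u1
    exact u2.ne_one u1
  obtain ⟨g, g1, g2⟩ : ∃ g, g * x * g⁻¹ ∈ normalizer (X₀ : Set G) ∧ g ∉ normalizer (X₀ : Set G) := by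
    by_contra h1
    push Not at h1
    exact hc ⟨(cen_le_norm_Tt x).trans hN, fun g hg => ⟨g, h1 g hg, rfl⟩⟩
  have hy := hx.conj g
  obtain ⟨S, s1, s2, s3⟩ := Lv.exists_mx (P := Lv.Str (normalizer (X₀ : Set G)))
    ⟨hy.pg, zpowers_le.2 g1, _, le_rfl, ⟨hy.pg, _, mem_zpowers _, hy⟩, le_normalizer, fun h1 => by
      obtain ⟨m, m1, m2⟩ := (hy.syl.mono ((Tt_le _).trans
        ((Cf.cent_zpowers _).ge.trans ((centralizer_le_normalizer _).trans h1))) le_top).exists_conj hT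
      rw [← conjS_Tt, ← conjS_mul] at m2
      exact g2 ((mul_mem_cancel_left m1).1 (hN (mem_normalizer_iff_conjS.2 m2)))⟩
  obtain ⟨m, m1, m2⟩ := hT.exists_le_conj s1.1 s1.2.1
  rw [conjS_Tt] at m2
  obtain ⟨B, L, L', h1⟩ := Lv.aux hG (hx.conj m) h0 (fun X h1 h2 => hm ⟨X, h1, rfl⟩ h2) (by
    rw [← conjS_Tt, ← Blocks.conjS_J, ← conjS_normalizer]
    exact conjS_le_of_le_of_mem hJ m1) s1 s2 s3 m2
  exact Or.inr ⟨_, _, _, by simpa [mul_assoc] using Lv.src_conj h1 m⁻¹⟩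

end CfsgLib.Baum
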