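import Mathlib
import Cfsg.Agent.Lib.Baum.Bas
import Cfsg.Agent.Lib.Comp.FStar
import Cfsg.Agent.Lib.FT.OddOrder

/-! The reduction to the almost simple case. -/

set_option autoImplicit false

namespace CfsgLib.Baum

open Subgroup Cfsg CfsgLib.LAE CfsgLib.PLocal CfsgLib.Push CfsgLib.BHS CfsgLib.ZJ CfsgLib.SL2
  CfsgLib.Blocks CfsgLib.LocStr CfsgLib.CGT2
open scoped commutatorElement


universe u

variable {G : Type u} [Group G] [Finite G]

/-- The main theorem for almost simple groups. -/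
def MainThm : Prop :=
  ∀ (G : Type u) [Group G] [Finite G] (L : Subgroup G) (x : G), AS L x → L = ⊤ ∧ Out G

section transport

variable {H : Type*} [Group H]

theorem Cl.map {y : G} (h : Cl y) (e : G ≃* H) : Cl (e y) := by
  refine ⟨by rw [MulEquiv.orderOf_eq, h.ord], ?_⟩
  have h1 : (centralizer ({y} : Set G)).map e.toMonoidHom = centralizer ({e y} : Set H) := by
    ext z
    obtain ⟨z, rfl⟩ := e.surjective z
    refine (mem_map_iff_mem e.injective).trans ?_
    rw [mem_centralizer_singleton_iff, mem_centralizer_singleton_iff, ← map_mul, ← map_mul, e.injective.eq_iff]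
  have h2 := h.syl.map e.toMonoidHom
  rwa [Tt, map_pCoreOf e.injective, h1, map_top_of_surjective _ e.surjective] at h2

omit [Finite G] in
theorem Lst.of_equiv (h : Lst H) (e : G ≃* H) : Lst G := by
  have k : ∀ {X : Type} [Group X], Nonempty (H ≃* X) → Nonempty (G ≃* X) := fun ⟨f⟩ => ⟨e.trans f⟩
  rcases h with ⟨F, _, _, n, h1, h2, h3⟩ | ⟨F, _, _, n, h1, h2, h3⟩ | ⟨F, _, _, n, h1, h2, h3⟩ |
    ⟨F, _, _, n, h1, h2, h3⟩
  exacts [.inl ⟨F, _, _, n, h1, h2, h3.imp k (.imp k k)⟩, .inr (.inl ⟨F, _, _, n, h1, h2, k h3⟩),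
    .inr (.inr (.inl ⟨F, _, _, n, h1, h2, k h3⟩)), .inr (.inr (.inr ⟨F, _, _, n, h1, h2, k h3⟩))]

theorem Out.of_equiv (h : Out H) (e : G ≃* H) : Out G :=
  ⟨h.1.of_equiv e, fun y z hy hz => by
    simpa using e.symm.toMonoidHom.map_isConj (h.2 _ _ (hy.map e) (hz.map e))⟩

theorem comm_of_solvable (hs : IsSimpleGroup H) (h : Group.IsSolvable H) : IsMulCommutative H :=
  ⟨⟨IsSimpleGroup.comm_iff_isSolvable.2 h⟩⟩

theorem eq_one_of_cen {L : Subgroup H} (hs : IsSimpleGroup L) (hn : ¬ IsMulCommutative L) {l : H}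
    (h1 : l ∈ L) (h2 : l ∈ centralizer (L : Set H)) : l = 1 := by
  rcases hs.eq_bot_or_eq_top_of_normal (center L) inferInstance with e | e
  · exact congrArg Subtype.val (e.le (mem_center_iff.2 fun g => Subtype.ext (h2 g g.2) : (⟨l, h1⟩ : L) ∈ _))
  · exact absurd ⟨⟨fun a b => mem_center_iff.1 (e.ge (mem_top b)) a⟩⟩ hn

end transport

theorem not_two_of_simple {L : Subgroup G} (hs : IsSimpleGroup L) (hn : ¬ IsMulCommutative L) :
    ¬ IsPGroup 2 L := fun h =>
  have := h.isNilpotent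
  hn (comm_of_solvable hs inferInstance)

/-- The centralizer of an involution of type `Cl` has no non-abelian simple subgroup. -/
theorem Cl.not_simple {y : G} (h : Cl y) {L : Subgroup G} (hs : IsSimpleGroup L)
    (hn : ¬ IsMulCommutative L) : ¬ L ≤ centralizer ({y} : Set G) := fun hc => by
  obtain ⟨S, hS⟩ := exists_isSylowIn 2 L
  rcases hs.eq_bot_or_eq_top_of_normal _ (normal_subgroupOf_of_le (h.le_norm hS hc)) with e | e
  · have h1 := hS.not_dvd_relIndex
    rw [relIndex, e, index_bot, ← even_iff_two_dvd, Nat.not_even_iff_odd] at h1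
    exact hn (comm_of_solvable hs (FT.odd_order_solvable h1))
  · exact not_two_of_simple hs hn (hS.isPGroup.to_le (subgroupOf_eq_top.1 e))

theorem comp_lemma (hm : MainThm.{u}) {L : Subgroup G} (hs : IsSimpleGroup L)
    (hn : ¬ IsMulCommutative L) {t : G} (ht : Cl t) (hL : t ∈ normalizer (L : Set G))
    (hS : IsSylowIn 2 (Tt t ⊓ L) L) :
    Out L ∧ ∃ s : L, Cl s ∧ t * (s : G) ∈ centralizer (L : Set G) := by
  set X := L ⊔ zpowers t with hX
  have hXN : X ≤ normalizer (L : Set G) := sup_le le_normalizer (zpowers_le.2 hL)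
  have tX : t ∈ X := mem_sup_right (mem_zpowers t)
  have LX : L ≤ X := le_sup_left
  have dec : ∀ a ∈ X, a ∈ L ∨ a * t ∈ L := fun a ha => by
    obtain ⟨l, hl, _, ⟨n, rfl⟩, rfl⟩ := (mem_sup_iff_of_right_le_normalizer (zpowers_le.2 hL)).1 ha
    have e : ∀ m : ℤ, t ^ (2 * m) = 1 := fun m => by rw [zpow_mul, zpow_two, ht.sq, one_zpow]
    obtain ⟨m, rfl | rfl⟩ := Int.even_or_odd' n
    · exact Or.inl (by simpa [e] using hl)
    · exact Or.inr (by simpa [zpow_add_one, e, mul_assoc, ht.sq] using hl)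
  have := normal_subgroupOf_of_le (le_normalizer_centralizer hXN)
  let π := QuotientGroup.mk' ((centralizer (L : Set G)).subgroupOf X)
  have hπ : Function.Surjective π := QuotientGroup.mk'_surjective _
  have hk : ∀ a : X, π a = 1 ↔ (a : G) ∈ centralizer (L : Set G) := fun a => QuotientGroup.eq_one_iff a
  have hc : ∀ a l : X, (l : G) ∈ L → π a * π l = π l * π a → (a : G) * l = l * a := fun a l hl e =>
    commutatorElement_eq_one_iff_mul_comm.1 (eq_one_of_cen hs hn
      (mul_mem (LAE.conj_mem_of_mem_normalizer (hXN a.2) hl) (inv_mem hl)) ((hk ⁅a, l⁆).1 (by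
        rw [map_commutatorElement, commutatorElement_eq_one_iff_mul_comm, e])))
  have hi : Function.Injective (π.comp (inclusion LX)) := (injective_iff_map_eq_one _).2 fun l hl =>
    Subtype.ext (eq_one_of_cen hs hn l.2 ((hk _).1 hl))
  have hr : (π.comp (inclusion LX)).range = (L.subgroupOf X).map π := by
    rw [MonoidHom.range_comp, inclusion_range]
  have e := (MonoidHom.ofInjective hi).trans (MulEquiv.subgroupCongr hr)
  have h1 : IsSylowIn 2 (Tt t ⊓ X) X := ⟨inf_le_right, (pg_Tt t).to_inf_left, fun Q hQ h1 h2 => by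
    refine le_antisymm (fun a ha => ⟨?_, h2 ha⟩) h1
    have h3 := hS.eq_of_le (Q ⊓ L) hQ.to_inf_left (le_inf ((inf_le_inf_left _ LX).trans h1) inf_le_right)
      inf_le_right
    exact (dec a (h2 ha)).elim (fun k => (h3.le ⟨ha, k⟩).1) fun k =>
      (mul_mem_cancel_right ht.mem).1 (h3.le ⟨Q.mul_mem ha (h1 ⟨ht.mem, tX⟩), k⟩).1⟩
  have h2 := (h1.subgroupOf le_rfl).map π
  rw [subgroupOf_self, map_top_of_surjective π hπ] at h2
  have h3 : Cl (π ⟨t, tX⟩) := by
    refine ⟨orderOf_eq_prime (by rw [← map_pow, sq, show (⟨t, tX⟩ : X) * ⟨t, tX⟩ = 1 from Subtype.ext ht.sq,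
      map_one]) fun k => ht.not_simple hs hn fun l hl =>
        mem_centralizer_singleton_iff.2 (mem_centralizer_iff.1 ((hk _).1 k) l hl), ?_⟩
    rw [h2.eq_of_le (Tt _) (pg_Tt _) (le_pCoreOf h2.isPGroup ?_ fun a ha => ?_) le_top]
    · exact h2
    · rintro _ ⟨a, ha, rfl⟩
      rw [mem_centralizer_singleton_iff, ← map_mul, ← map_mul]
      exact congrArg π (Subtype.ext (comm_of_mem_Tt ha.1).symm.eq)
    obtain ⟨a, rfl⟩ := hπ a
    have h4 : (a : G) ∈ centralizer ({t} : Set G) := by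
      rw [mem_centralizer_singleton_iff] at ha ⊢
      rcases dec a a.2 with k | k
      · exact (hc ⟨t, tX⟩ a k ha.symm).symm
      · have := hc ⟨t, tX⟩ (a * ⟨t, tX⟩) k (by rw [map_mul, ← mul_assoc, ha])
        rw [coe_mul, ← mul_assoc] at this
        exact (mul_right_cancel this).symm
    refine le_normalizer_map π ⟨a, mem_normalizer_of_conjS_le (conjS_le_iff_forall.2 fun b hb => ?_), rfl⟩
    exact ⟨LAE.conj_mem_of_mem_normalizer (cen_le_norm_Tt t h4) hb.1, (a * b * a⁻¹).2⟩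
  have hA : AS ((L.subgroupOf X).map π) (π ⟨t, tX⟩) := by
    refine ⟨(normal_subgroupOf_of_le hXN).map π hπ, e.symm.isSimpleGroup, fun k => hn ⟨⟨fun a b =>
      e.injective (by rw [map_mul, map_mul, k.is_comm.comm])⟩⟩, eq_bot_iff.2 fun a ha => ?_,
      eq_top_iff.2 fun a _ => ?_, h3⟩
    · obtain ⟨a, rfl⟩ := hπ a
      exact (hk a).2 fun l hl => (hc a ⟨l, LX hl⟩ hl (ha _ ⟨⟨l, LX hl⟩, hl, rfl⟩).symm).symm
    · obtain ⟨a, rfl⟩ := hπ a
      rcases dec a a.2 with k | k
      · exact mem_sup_left ⟨a, k, rfl⟩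
      · exact (mul_mem_cancel_right (mem_sup_right (mem_zpowers _))).1
          (mem_sup_left ⟨a * ⟨t, tX⟩, k, map_mul π _ _⟩)
  obtain ⟨h4, h5⟩ := hm _ _ _ hA
  let f := MulEquiv.ofBijective _ ⟨hi, MonoidHom.range_eq_top.1 (hr.trans h4)⟩
  refine ⟨h5.of_equiv f, f.symm (π ⟨t, tX⟩), h3.map f.symm,
    (hk (⟨t, tX⟩ * inclusion LX (f.symm (π ⟨t, tX⟩)))).1 ?_⟩
  rw [map_mul, show π (inclusion LX (f.symm _)) = _ from f.apply_symm_apply _, h3.sq]

section red

variable (hm : MainThm.{u}) (hF : fittingSubgroup G = ⊥) {L : Subgroup G} (hL : IsComponent L) {y t : G}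

include hF hL

omit [Finite G] in
theorem comp_simple : IsSimpleGroup L := by
  refine Comp.isSimpleGroup_of_qs_of_center_eq_bot hL.2 ?_
  rw [← map_eq_bot_iff_of_injective _ L.subtype_injective, Comp.map_center_subtype, ← le_bot_iff, ← hF]
  exact Comp.comp_inf_centralizer_le_fit hL

theorem Cl.norm_comp (hy : Cl y) : y ∈ normalizer (L : Set G) := by
  by_contra h
  have hs := comp_simple hF hL
  have hn := Comp.qs_not_isMulCommutative hL.2
  have h1 : conjS y L ≤ centralizer (L : Set G) := Comp.comp_le_centralizer_of_ne (Comp.comp_map_conj hL y) hL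
    fun e => h (mem_normalizer_iff_conjS.2 e)
  have h2 : ∀ a b : L, (a : G) * (y * b * y⁻¹) = y * b * y⁻¹ * a := fun a b =>
    h1 (conj_mem_conjS.2 b.2) a a.2
  let f : L →* G := MonoidHom.mk' (fun a => a * (y * a * y⁻¹)) fun a b => by
    rw [coe_mul, ← conj_mul, mul_assoc, ← mul_assoc (b : G), h2 b a]
    simp only [mul_assoc]
  have hf : Function.Injective f := (injective_iff_map_eq_one f).2 fun a ha => Subtype.ext
    (eq_one_of_cen hs hn a.2 (eq_inv_of_mul_eq_one_left ha ▸ inv_mem (h1 (conj_mem_conjS.2 a.2))))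
  have e := MonoidHom.ofInjective hf
  refine hy.not_simple (L := f.range) e.symm.isSimpleGroup (fun k => hn ⟨⟨fun a b =>
    e.injective (by rw [map_mul, map_mul, k.is_comm.comm])⟩⟩) ?_
  rintro _ ⟨a, rfl⟩
  rw [mem_centralizer_singleton_iff]
  change a * (y * a * y⁻¹) * y = y * (a * (y * a * y⁻¹))
  conv_rhs => rw [h2 a a, ← mul_assoc, ← mul_assoc, ← mul_assoc, hy.sq, one_mul, hy.inv_eq]
  rw [mul_assoc, inv_mul_cancel_right, mul_assoc]

include hm

theorem Cl.comp (hy : Cl y) : Out L ∧ ∃ s : L, Cl s ∧ y * (s : G) ∈ centralizer (L : Set G) :=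
  comp_lemma hm (comp_simple hF hL) (Comp.qs_not_isMulCommutative hL.2) hy (hy.norm_comp hF hL)
    ((subnormalIn_top_iff.2 hL.1).isSylowIn_inf hy.syl)

theorem Cl.exists_comp (hy : Cl y) (ht : Cl t) : ∃ e ∈ L, e * y * e⁻¹ * t ∈ centralizer (L : Set G) := by
  obtain ⟨h1, s, h2, h3⟩ := hy.comp hm hF hL
  obtain ⟨-, r, h4, h5⟩ := ht.comp hm hF hL
  obtain ⟨e, h6⟩ := isConj_iff.1 (h1.2 _ _ h2 h4)
  refine ⟨e, e.2, ?_⟩
  rw [show e * y * (e : G)⁻¹ * t = e * (y * s) * (e : G)⁻¹ * (t⁻¹ * (e * s * e⁻¹ : L))⁻¹ by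
    simp only [coe_mul, coe_inv]; group, h6, ht.inv_eq, h3 e e.2, mul_inv_cancel_right]
  exact mul_mem h3 (inv_mem h5)

omit hL in
theorem Cl.exists_layer (hy : Cl y) (ht : Cl t) (s : Finset (Subgroup G)) (hs : ∀ L ∈ s, IsComponent L) :
    ∃ e ∈ layer G, ∀ L ∈ s, e * y * e⁻¹ * t ∈ centralizer (L : Set G) := by
  classical
  induction s using Finset.induction_on with
  | empty => exact ⟨1, one_mem _, by simp⟩
  | insert K s hK ih =>
    obtain ⟨e, h1, h2⟩ := ih fun L h => hs L (Finset.mem_insert_of_mem h)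
    have h3 := hs K (Finset.mem_insert_self _ _)
    obtain ⟨e', h4, h5⟩ := (hy.conj e).exists_comp hm hF h3 ht
    refine ⟨e' * e, mul_mem (Comp.comp_le_layer h3 h4) h1, fun L h => ?_⟩
    rw [show e' * e * y * (e' * e)⁻¹ = e' * (e * y * e⁻¹) * e'⁻¹ by group]
    rcases Finset.mem_insert.1 h with rfl | h
    · exact h5
    have h6 := Comp.comp_le_centralizer_of_ne h3 (hs L (Finset.mem_insert_of_mem h)) fun k => hK (k ▸ h)
    rw [show e' * (e * y * e⁻¹) * e'⁻¹ * t = e' * (e * y * e⁻¹ * t) * (t⁻¹ * e'⁻¹ * t) by group]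
    exact mul_mem (mul_mem (h6 h4) (h2 L h))
      (h6 (conj_inv_mem_of_mem_normalizer (ht.norm_comp hF h3) (inv_mem h4)))

end red

theorem red (hm : MainThm.{u})
    (hS : ∀ M : Subgroup G, M.Normal → Group.IsSolvable ↥M → M = ⊥)
    (t : G) (ht : orderOf t = 2) (S : Sylow 2 G)
    (hSt : (S : Subgroup G) ≤ Subgroup.centralizer ({t} : Set G))
    (hSn : ((S : Subgroup G).subgroupOf (Subgroup.centralizer ({t} : Set G))).Normal)
    (N : Subgroup G) (hN : N.Normal) (hN2 : ∀ P : Sylow 2 G, (N ⊔ (P : Subgroup G)).Normal)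
    (hNmin : ∀ M : Subgroup G, M.Normal → (∀ P : Sylow 2 G, (M ⊔ (P : Subgroup G)).Normal) → N ≤ M) :
    ∃ (k : ℕ) (E : Fin k → Subgroup G), (⨆ i, E i) = N ∧
      (∀ i j, i ≠ j → ∀ x ∈ E i, ∀ y ∈ E j, x * y = y * x) ∧
      (∀ i, Disjoint (E i) (⨆ (j : Fin k) (_ : j ≠ i), E j)) ∧ ∀ i, Lst ↥(E i) := by
  classical
  have h1 : Tt t = S := (isSylowIn_top S).eq_of_le _ (pg_Tt t)
    (le_pCoreOf S.isPGroup' hSt ((normal_subgroupOf_iff_le_normalizer hSt).1 hSn)) le_top
  have hc : Cl t := ⟨ht, h1 ▸ isSylowIn_top S⟩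
  have hF : fittingSubgroup G = ⊥ := hS _ Comp.fit_normal Comp.fit_solvable
  have hE := Comp.layer_normal (G := G)
  have h2 : centralizer (layer G : Set G) ≤ ⊥ := by
    have := Comp.centralizer_fstar_le_fit (G := G)
    rwa [Comp.fstar_def, hF, sup_bot_eq] at this
  have h3 : ∀ g, conjS g (layer G ⊔ S) = layer G ⊔ S := fun g => by
    obtain ⟨e, h3, h4⟩ := (hc.conj g).exists_layer hm hF hc
      (Set.toFinite {L : Subgroup G | IsComponent L}).toFinset fun L h => by simpa using h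
    have h5 := h2 (le_centralizer_iff.1 (Comp.layer_le_iff.2 fun L hL => le_centralizer_iff.1
      (zpowers_le.2 (h4 L (by simpa using hL)))) (mem_zpowers _))
    rw [mem_bot, mul_eq_one_iff_eq_inv, hc.inv_eq] at h5
    have h6 := cen_le_norm_Tt t (x := e * g) (mem_centralizer_singleton_iff.2 (by
      nth_rewrite 2 [← h5]; group))
    rw [h1, mem_normalizer_iff_conjS] at h6
    rw [← inv_mul_cancel_left e g, conjS_mul, conjS_sup (e * g), conjS_eq_of_normal (e * g) (layer G), h6,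
      conjS_eq_of_mem (inv_mem (mem_sup_left h3))]
  have h4 : N = layer G := by
    refine le_antisymm (hNmin _ hE fun P => ?_) (Comp.layer_le_iff.2 fun L hL => ?_)
    · obtain ⟨g, -, e⟩ := (isSylowIn_top S).exists_conj (isSylowIn_top P)
      rw [← e, ← conjS_eq_of_normal g (layer G), ← conjS_sup, h3, ← normalizer_eq_top_iff]
      exact eq_top_iff.2 fun a _ => mem_normalizer_iff_conjS.2 (h3 a)
    have hs := comp_simple hF hL
    have hn := Comp.qs_not_isMulCommutative hL.2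
    have := hN2 S
    have h5 := (Comp.comp_le_or_commutator_of_normal (N := N ⊔ S) hL).resolve_right fun k =>
      hc.not_simple hs hn ((commutator_eq_bot_iff_le_centralizer.1 k).trans
        (centralizer_le (Set.singleton_subset_iff.2 (mem_sup_right (h1 ▸ hc.mem)))))
    have h6 := pResOf_mono (p := 2) h5
    rw [sup_comm, pResOf_sup_of_isPGroup S.isPGroup' le_normalizer_of_normal] at h6
    refine (subgroupOf_eq_top.1 ((hs.eq_bot_or_eq_top_of_normal _ (normal_subgroupOf_of_le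
      (le_normalizer_pResOf (p := 2) L))).resolve_left fun k => not_two_of_simple hs hn ?_)).trans
      (h6.trans (pResOf_le N))
    rwa [subgroupOf_eq_bot, disjoint_iff, inf_eq_left.2 (pResOf_le L), pResOf_eq_bot_iff] at k
  have := Fintype.ofFinite {L : Subgroup G // IsComponent L}
  let ε := (Fintype.equivFin {L : Subgroup G // IsComponent L}).symm
  have h5 : ∀ i j, i ≠ j → (ε j).1 ≤ centralizer ((ε i).1 : Set G) := fun i j h =>
    Comp.comp_le_centralizer_of_ne (ε j).2 (ε i).2 fun k => h (ε.injective (Subtype.ext k)).symm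
  refine ⟨_, fun i => (ε i).1, h4 ▸ le_antisymm (iSup_le fun i => Comp.comp_le_layer (ε i).2)
    (Comp.layer_le_iff.2 fun L hL => le_iSup_of_le (ε.symm ⟨L, hL⟩) (by simp)),
    fun i j h x hx y hy => h5 i j h hy x hx, fun i => disjoint_def.2 fun hx hx' => ?_,
    fun i => (hc.comp hm hF (ε i).2).1.1⟩
  exact eq_one_of_cen (comp_simple hF (ε i).2) (Comp.qs_not_isMulCommutative (ε i).2.2) hx
    (iSup₂_le (fun j hj => h5 i j (Ne.symm hj)) hx')

end CfsgLib.Baum
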