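import Mathlib
import Cfsg.Agent.Lib.Baum.Crit
import Cfsg.Agent.Lib.Baum.Loc2
import Cfsg.Agent.Lib.Baum.Bas
import Cfsg.Agent.Lib.Baum.Pair
import Cfsg.Agent.Lib.Blocks.Exc2

/-! From a source to an adapted pair. -/

set_option autoImplicit false
set_option linter.unusedSectionVars false
set_option linter.unusedVariables false

namespace CfsgLib.Baum

open Subgroup Cfsg CfsgLib.LAE CfsgLib.PLocal CfsgLib.Push CfsgLib.BHS CfsgLib.ZJ CfsgLib.SL2
  CfsgLib.Blocks CfsgLib.LocStr CfsgLib.CGT2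
open scoped commutatorElement


variable {G : Type*} [Group G] [Finite G]

variable {x : G} {B L L' : Subgroup G}

theorem Src.symm (h : Src x B L L') : Src x B L' L :=
  ⟨h.cl, h.mem, h.le, h.pa', h.pa, crit_symm h.pa h.pa' h.crit, fun X h1 h2 h3 => h.lev X h1 h2 h3.symm⟩

theorem Src.atom (h : Src x B L L') : IsAtom B L := (crit_atom h.pa h.pa' h.crit).1

theorem Src.mem_cen (h : Src x B L L') : x ∈ centralizer (B : Set G) :=
  fun _ hb => (comm_of_mem_Tt (h.le hb)).symm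

theorem Src.normV (h : Src x B L L') : eA L ⊓ normalizer (B : Set G) ≤ normalizer (VZ L' : Set G) := by
  obtain ⟨F, _, _, ⟨a⟩⟩ := h.atom
  obtain ⟨F', _, _, ⟨a'⟩⟩ := h.symm.atom
  obtain ⟨g1, g2⟩ := crit_gen h.pa h.pa' h.crit
  obtain ⟨s1, s2, s3, s4⟩ := crit_split h.pa h.pa' h.crit
  have e := (VZ_eq_sup h.pa'.syl).trans (congrArg _ (crit_atom h.pa' h.pa h.symm.crit).2.1.symm)
  intro g ⟨hg, hB⟩
  have hZ := normalizer_le_normalizer_omegaZ (p := 2) B hB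
  rw [e]
  refine mem_normalizer_of_conjS_le ?_
  rw [conjS_sup, mem_normalizer_iff_conjS.1 hZ]
  refine sup_le le_sup_left (conjS_le_iff_forall.2 fun y hy => ?_)
  obtain ⟨v, hv, b, hb, e1⟩ := (mem_sup_iff_of_left_le_normalizer (a'.W_le.trans (a.le.trans a.normQ))).1
    (g1.ge (Cf.cjm hB (a'.W_le hy)))
  obtain ⟨w, hw, c, hc, rfl⟩ := (mem_sup_iff_of_left_le_normalizer (a.W_le.trans
    (le_normalizer_cen le_normalizer (a.le.trans a.normE)))).1 (s1.ge hb)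
  by_cases h1 : v ∈ centralizer (wA L : Set G)
  · have h2 : y ∈ centralizer (wA L : Set G) := by
      have := Cf.cjm' (le_normalizer_centralizer (a.EL.trans a.normW) hg) (e1 ▸ mul_mem h1 hb.2)
      rwa [mul_assoc, inv_mul_cancel_right, inv_mul_cancel_left] at this
    have h3 := (a'.cen_eq_of a.W_le g2).le ⟨hy, h2⟩
    exact mem_sup_left (Cf.cjm hZ (mem_omegaZ.2 ⟨a'.W_le hy, h3.2, a'.elem.2 y hy⟩))
  have c1 : Commute (v * w) c := (show Commute v c from s2 hc v hv).mul_left (hc.2 w (a.W_le_E hw))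
  have e2 : (v * w) ^ 2 * c ^ 2 = 1 := by
    rw [← c1.mul_pow, mul_assoc, ← e1, conj_pow, a'.elem.2 y hy, mul_one, mul_inv_cancel]
  have e3 : (v * w) ^ 2 = ⁅v, w⁆ := by
    rw [commutatorElement_def, inv_eq_of_mul_eq_one_right (comm_of_elem a'.elem hv),
      inv_eq_of_mul_eq_one_right (comm_of_elem a.elem hw), pow_two, ← mul_assoc]
  have h2 : w ∈ wA L' := (s3.ge ⟨hw, a.mem_cen_of_Z (a'.W_le hv) h1 hw (a.cen_E.le ⟨a.D.commutator_mem_U
    (a.le (a'.W_le hv)) hw, by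
      rw [← e3, eq_inv_of_mul_eq_one_left e2]; exact (centralizer (eA L : Set G)).inv_mem (pow_mem hc.2 2)⟩).2⟩).2
  rw [a'.elem.2 _ (mul_mem hv h2), one_mul] at e2
  have h3 : c ∈ centralizer (cen B (eA L) : Set G) := by
    have h4 : v * w ∈ centralizer (cen B (eA L) : Set G) := le_centralizer_iff.1 s2 (mul_mem hv h2)
    refine (mul_mem_cancel_left h4).1 ?_
    rw [mul_assoc, ← e1]
    have h5 : g ∈ centralizer (cen B (eA L) : Set G) := le_centralizer_iff.1 inf_le_right hg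
    exact mul_mem (mul_mem h5 (le_centralizer_iff.1 s2 hy)) (inv_mem h5)
  rw [e1, ← mul_assoc]
  refine mul_mem (mem_sup_right (mul_mem hv h2)) (mem_sup_left (mem_omegaZ.2 ⟨hc.1, ?_, e2⟩))
  rw [← g1, ← s1, LAE.centralizer_sup, LAE.centralizer_sup]
  exact ⟨s2 hc, centralizer_anti a.W_le_E hc.2, h3⟩

theorem Src.norm (hG : St G) (h : Src x B L L') :
    eA L ⊓ normalizer (B : Set G) ≤ normalizer (L' : Set G) := fun g hg => by
  obtain ⟨F, _, _, ⟨a⟩⟩ := h.atom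
  obtain ⟨F', _, _, ⟨a'⟩⟩ := h.symm.atom
  have hX : Loc2 (VZ L') := ⟨elemAb_isPGroup h.pa'.elem, x,
    h.pa'.Z_le (mem_omegaZ.2 ⟨h.mem, h.mem_cen, by rw [pow_two, h.cl.sq]⟩), h.cl⟩
  obtain ⟨S, hS, hB⟩ := exists_isSylowIn_ge h.pa'.two (h.pa'.le.trans le_normalizer_VZ)
  have e := h.lev _ h.pa'.VS hX (Or.inr le_normalizer_VZ) S hS hB
  by_contra hn
  have h1 := ((hG.lh hX hS).comm (L₁ := conjS g L') (L₂ := L')
    (by rw [e]; simpa only [mem_normalizer_iff_conjS.1 hg.2] using h.pa'.conj g) (e ▸ h.pa')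
    (conjS_le_of_le_of_mem le_normalizer_VZ (h.normV hg)) le_normalizer_VZ
    (fun e => hn (mem_normalizer_iff_conjS.2 e))).1
  rw [← conjS_WZ, ← (crit_atom h.pa' h.pa h.symm.crit).2.1, commutator_eq_bot_iff_le_centralizer] at h1
  have s := (crit_split h.pa h.pa' h.crit).2.2.1
  have s' := (crit_split h.pa' h.pa h.symm.crit).2.2.1
  refine a'.not_C_le (le_trans (le_inf inf_le_left (le_trans ?_ h1)) (a'.cen_E.le.trans inf_le_right))
  rw [← s', inf_comm, s, ← mem_normalizer_iff_conjS.1 (mem_normalizer_cen (a.normW (a.EL hg.1)) hg.2), ← s]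
  exact conjS_mono inf_le_right

theorem Src.uq (hG : St G) (h : Src x B L L') : ⁅cen (Tt x) (wA L), eA L⁆ ≤ wA L := by
  obtain ⟨F, _, _, ⟨a⟩⟩ := h.atom
  have y1 : wA L ⊔ zpowers x ≤ cen B (wA L) :=
    sup_le a.W_le_Q (zpowers_le.2 ⟨h.mem, centralizer_anti a.W_le h.mem_cen⟩)
  have y2 : L ≤ normalizer ((wA L ⊔ zpowers x : Subgroup G) : Set G) := a.E_sup_B.ge.trans (sup_le
    (le_normalizer_iff_commutator_le_left.2 (((commutator_mono y1 le_rfl).trans a.comm.le).trans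
      le_sup_left)) (LAE.le_normalizer_sup a.BW (le_normalizer_of_le_centralizer
        (le_centralizer_iff.1 (zpowers_le.2 h.mem_cen)))))
  have hx := mem_sup_right (S := wA L) (mem_zpowers x)
  have y3 := a.core_le y2 fun X h1 h2 h3 => by
    obtain ⟨S, hS, h4⟩ := exists_isSylowIn_ge h1 h3
    have e := h.lev _ (y1.trans inf_le_left) ⟨a.pgQ.to_le y1, x, hx, h.cl⟩ (Or.inl y2) S hS (h2.trans h4)
    rw [← e, ← bau_eq_of_le (e.le.trans h2) h4]
    exact le_normalizer_bau X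
  rw [commutator_comm]
  refine a.comm_le_of_cen (le_trans ?_ (y3.trans inf_le_left)) inf_le_right
  refine le_trans ?_ ((h.cl.core_cen hx).ge.trans (pCoreOf_mono_of_normal (centralizer_le_normalizer _)
    (normalizer_le_normalizer_centralizer _)))
  rw [cen_sup]
  exact le_inf le_rfl (le_inf inf_le_left (inf_le_left.trans ((Tt_le x).trans (Cf.cent_zpowers x).ge)))

theorem Src.inf_le (hG : St G) (h : Src x B L L') : eA L ⊓ B ≤ wA L ⊔ wA L' := fun b hb => by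
  obtain ⟨F, _, _, ⟨a⟩⟩ := h.atom
  obtain ⟨F', _, _, ⟨a'⟩⟩ := h.symm.atom
  have := a.char
  rcases a.two_le.eq_or_lt with e | e
  · refine mem_sup_left (a.E_inf_cen.le ⟨hb.1, ((a.φ_eq_one (a.EL hb.1)).1 (eq_one_of_odd ?_
      (isSylowIn_upU (p := 2)).isPGroup (a.φ_mem hb.2))).2⟩)
    exact Nat.not_even_iff_odd.1 fun h1 => not_dvd_card_SLc (p := 2) (F := F) (by omega) (h1.two_dvd.trans
      (orderOf_dvd_natCard _ ((img_pResOf a.D).le (a.D.φ_mem_img (a.EL hb.1) hb.1))))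
  obtain ⟨c⟩ := exists_coord a.D a.two a.le a.img a.ker a.fix
  obtain ⟨t, t0, t1⟩ : ∃ t : F, t ≠ 0 ∧ t ≠ 1 := by
    obtain ⟨t, ht⟩ := Fintype.two_lt_card_iff.1 e
    by_contra h1
    push Not at h1
    obtain ⟨u, v, h2, h3, h4⟩ := ht
    by_cases t0 : t = 0 <;> by_cases u0 : u = 0 <;> by_cases v0 : v = 0 <;> simp_all
  obtain ⟨g, g1, g2, -, g3, -⟩ := c.torus t t0
  have t2 : t ^ 2 - 1 ≠ 0 := fun e => t1 (by
    have : (t - 1) ^ 2 = 0 := by linear_combination e - (t - 1) * (CharTwo.two_eq_zero : (2 : F) = 0)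
    exact sub_eq_zero.1 (pow_eq_zero_iff two_ne_zero |>.1 this))
  obtain ⟨d, hd, e1⟩ := c.τ_surj (c.τ b / (t ^ 2 - 1))
  obtain ⟨v, hv, q, hq, rfl⟩ := (mem_sup_iff_of_left_le_normalizer (a'.W_le.trans (a.le.trans a.normQ))).1
    ((crit_gen h.pa h.pa' h.crit).1.ge hd)
  have hvB := a'.W_le hv
  rw [c.τ_mul v hvB q hq.1, (c.τ_zero q hq.1).2 hq, add_zero, eq_div_iff t2] at e1
  have ti : ∀ y ∈ B, c.τ y⁻¹ = -c.τ y := fun y hy => by
    rw [eq_neg_iff_add_eq_zero, ← c.τ_mul _ (inv_mem hy) _ hy, inv_mul_cancel,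
      c.τ_zero 1 (one_mem _)]
    exact one_mem _
  have h1 : ⁅g, v⁆ ∈ wA L' :=
    mul_mem (Cf.cjm (a'.norm_W (a'.norm_E (h.norm hG ⟨g2, g1.1.1⟩))) hv) (inv_mem hv)
  have h2 : ⁅g, v⁆ ∈ eA L := by
    simpa [commutatorElement_def, mul_assoc] using mul_mem g2 (Cf.cjm (a.normE (a.le hvB)) (inv_mem g2))
  have h3 := B.mul_mem hb.2 (inv_mem (a'.W_le h1))
  refine (mul_mem_cancel_right (inv_mem (mem_sup_right h1))).1 (mem_sup_left (a.E_inf_cen.le
    ⟨(eA L).mul_mem hb.1 (inv_mem h2), ((c.τ_zero _ h3).1 ?_).2⟩))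
  rw [c.τ_mul _ hb.2 _ (inv_mem (a'.W_le h1)), ti _ (a'.W_le h1), commutatorElement_def,
    c.τ_mul _ (Cf.cjm g1.1.1 hvB) _ (inv_mem hvB), c.τ_conj g g1 v hvB, ti v hvB, g3,
    c.σ_of_mem g g1 (a.EL g2), ← e1]
  ring

theorem Src.cenU (h : Src x B L L') : cen (wA L ⊔ wA L') (wA L) = wA L := by
  obtain ⟨F, _, _, ⟨a⟩⟩ := h.atom
  obtain ⟨F', _, _, ⟨a'⟩⟩ := h.symm.atom
  refine le_antisymm (fun y hy => ?_) (le_inf le_sup_left (elemAb_le_centralizer a.elem))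
  obtain ⟨w, hw, v, hv, rfl⟩ := (mem_sup_iff_of_right_le_normalizer (a'.W_le.trans a.BW)).1 hy.1
  exact mul_mem hw ((crit_split h.pa' h.pa h.symm.crit).2.2.1.ge ((a'.cen_eq_of a.W_le
    (crit_gen h.pa h.pa' h.crit).2).le ⟨hv, (mul_mem_cancel_left (elemAb_le_centralizer a.elem hw)).1 hy.2⟩)).2

theorem Src.res (h : Src x B L L') : eA (eA L ⊔ (wA L ⊔ wA L')) = eA L := by
  obtain ⟨F, _, _, ⟨a⟩⟩ := h.atom
  obtain ⟨F', _, _, ⟨a'⟩⟩ := h.symm.atom
  exact pResOf_eq_of_le le_sup_left (sup_le a.EL ((sup_le a.W_le a'.W_le).trans a.le))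

theorem Src.atomU (hG : St G) (h : Src x B L L') : ∃ (F : Type) (_ : Field F) (_ : Fintype F),
    Nonempty (Atom F (wA L ⊔ wA L') (eA L ⊔ (wA L ⊔ wA L')) (wA L)) := by
  obtain ⟨F, _, _, ⟨a⟩⟩ := h.atom
  obtain ⟨F', _, _, ⟨a'⟩⟩ := h.symm.atom
  have := a.char
  obtain ⟨g1, g2⟩ := crit_gen h.pa h.pa' h.crit
  have u1 : wA L ⊔ wA L' ≤ B := sup_le a.W_le a'.W_le
  have u2 : eA L ⊔ (wA L ⊔ wA L') ≤ L := sup_le a.EL (u1.trans a.le)
  have u3 : a.D.img (wA L ⊔ wA L') = upU F :=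
    a.img_of_sup (le_antisymm (sup_le u1 inf_le_left) (g1.ge.trans (sup_le_sup_right le_sup_right _)))
  have u4 : a.D.img (eA L ⊔ (wA L ⊔ wA L')) = ⊤ := by
    rw [a.D.img_sup a.EL (u1.trans a.le), u3, ← a.img, ← a.D.img_sup a.EL a.le, a.E_sup_B, a.D.img_self]
  refine ⟨F, inferInstance, inferInstance, nonempty_atom ((a.D.restrict u2).cast u4)
    (le_antisymm ((cen_anti le_sup_left).trans a.cen_E.le) (cen_anti u2)) (a.two.to_le u1) le_sup_right
    le_sup_left a.elem ?_ ?_ (a.fix.trans (a.cen_eq_of u1 fun e => g2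
      (le_centralizer_iff.1 (le_sup_right.trans e))).symm) (by rw [h.cenU, ← eA, h.res, a.comm_WE])
    (by rw [← eA, h.res])⟩
  · rw [← u3]
    ext g
    simp only [NatData.mem_img]
    exact ⟨fun ⟨y, h1, h2, h3⟩ => ⟨y, u2 h1, h2, h3⟩, fun ⟨y, _, h2, h3⟩ => ⟨y, mem_sup_right h2, h2, h3⟩⟩
  · ext y
    rw [NatData.mem_ker]
    refine ⟨fun ⟨h1, h2⟩ => ?_, fun h1 => ⟨mem_sup_right h1.1,
      (a.φ_eq_one (a.le (u1 h1.1))).2 ⟨u1 h1.1, h1.2⟩⟩⟩
    have h3 := (a.φ_eq_one (u2 h1)).1 h2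
    obtain ⟨e, he, b, hb, rfl⟩ := (mem_sup_iff_of_right_le_normalizer (u1.trans (a.le.trans a.normE))).1 h1
    exact ⟨mul_mem (h.inf_le hG ⟨he, (mul_mem_cancel_right (u1 hb)).1 h3.1⟩) hb, h3.2⟩

theorem Src.normU (hG : St G) (h : Src x B L L') :
    eA L ⊓ normalizer ((wA L ⊔ wA L' : Subgroup G) : Set G) ≤ normalizer (eA L' : Set G) := by
  refine le_trans (le_inf inf_le_left ?_) ((h.norm hG).trans (normalizer_le_normalizer_pResOf _))
  rw [← (crit_gen h.pa h.pa' h.crit).1, ← (crit_split h.pa h.pa' h.crit).1, ← sup_assoc, sup_comm (wA L')]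
  exact LAE.le_normalizer_sup inf_le_right (le_normalizer_of_le_centralizer
    (inf_le_left.trans (le_centralizer_iff.1 inf_le_right)))

theorem Src.ad (hG : St G) (h : Src x B L L') : ∃ q L₁ L₁', Ad q x L₁ L₁' := by
  obtain ⟨F, _, _, ⟨a⟩⟩ := h.atomU hG
  obtain ⟨F', _, _, ⟨a'⟩⟩ := h.symm.atomU hG
  have e := h.res
  have e' := h.symm.res
  have c' := h.symm.cenU
  have n' := h.symm.normU hG
  rw [sup_comm (wA L')] at a' e' c' n'
  refine ⟨_, _, _, isPair_of a a' rfl h.cenU c' (by rw [e, e']; exact h.normU hG) (by rw [e, e']; exact n'),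
    h.cl, ?_, ?_, ?_⟩
  · rw [Ug, a.wA_eq, a'.wA_eq]
    exact (sup_le h.atom.facts.1 h.symm.atom.facts.1).trans (h.le.trans (Tt_le x))
  · rw [a.wA_eq, e]; exact h.uq hG
  · rw [a'.wA_eq, e']; exact h.symm.uq hG

end CfsgLib.Baum
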