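import Mathlib
import Cfsg.Agent.Lib.Baum.PairB
import Cfsg.Agent.Lib.Baum.Tr2
import Cfsg.Agent.Lib.Blocks.Exc2
import Cfsg.Agent.Lib.Transfer.Abelian

/-! The field of order two: blocks. -/

set_option autoImplicit false
set_option linter.unusedSectionVars false

namespace CfsgLib.Baum

open Subgroup Cfsg CfsgLib.LAE CfsgLib.PLocal CfsgLib.Push CfsgLib.BHS CfsgLib.ZJ CfsgLib.SL2
  CfsgLib.Blocks CfsgLib.LocStr CfsgLib.CGT2
open scoped commutatorElement


variable {G : Type*} [Group G] [Finite G]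

variable {u r o t : G} {L L' L₂ L₂' W W₁ W₂ : Subgroup G}

namespace T1

theorem cm {X : Subgroup G} {x y : G} (hx : x ∈ centralizer (X : Set G)) (hy : y ∈ X) :
    Commute x y := (mem_centralizer_iff.1 hx y hy).symm

theorem mc {X : Subgroup G} {x : G} (h : ∀ y ∈ X, Commute x y) : x ∈ centralizer (X : Set G) :=
  mem_centralizer_iff.2 fun y hy => (h y hy).eq.symm

theorem mc1 {x y : G} : x ∈ centralizer ({y} : Set G) ↔ Commute x y :=
  mem_centralizer_singleton_iff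

theorem two {H K : Subgroup G} (h : H.relIndex K = 2) {a g : G} (ha : a ∈ K)
    (ha' : a ∉ H) (hg : g ∈ K) : g ∈ H ∨ a * g ∈ H := by
  by_cases h1 : g ∈ H
  · exact Or.inl h1
  · exact Or.inr ((mul_mem_iff_of_index_two (H := H.subgroupOf K) h (a := ⟨a, ha⟩)
      (b := ⟨g, hg⟩)).2 (iff_of_false ha' h1))

theorem conj_cen {E : Subgroup G} {a c : G} (ha : a ∈ normalizer (E : Set G))
    (hc : c ∈ centralizer (E : Set G)) : a * c * a⁻¹ ∈ centralizer (E : Set G) :=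
  LAE.conj_mem_of_mem_normalizer (LAE.normalizer_le_normalizer_centralizer E ha) hc

theorem conjS_zp (g x : G) : conjS g (zpowers x) = zpowers (g * x * g⁻¹) :=
  MonoidHom.map_zpowers _ _

theorem conjS_of_cen {X : Subgroup G} {g : G} (h : g ∈ centralizer (X : Set G)) : conjS g X = X :=
  mem_normalizer_iff_conjS.1 (centralizer_le_normalizer _ h)

theorem conj_eq {x y : G} (h : Commute x y) : x * y * x⁻¹ = y := by
  rw [h.eq, mul_inv_cancel_right]

theorem cm_of_conj {x y : G} (h : x * y * x⁻¹ = y) : Commute x y := by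
  show x * y = y * x
  rw [← mul_inv_eq_iff_eq_mul, h]

theorem mem_zp {x : G} (h : orderOf r = 2) : x ∈ zpowers r ↔ x = 1 ∨ x = r := by
  constructor
  · intro hx
    have h2 : r * r = 1 := by rw [← sq, ← h, pow_orderOf_eq_one]
    refine zpowers_le (H := (⟨⟨⟨{y | y = 1 ∨ y = r}, ?_⟩, Or.inl rfl⟩, ?_⟩ : Subgroup G)) |>.2
      (Or.inr rfl) hx
    · rintro a b (rfl | rfl) (rfl | rfl) <;> simp [h2]
    · rintro a (rfl | rfl)
      · simp
      · exact Or.inr (inv_eq_of_mul_eq_one_right h2)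
  · rintro (rfl | rfl)
    exacts [one_mem _, mem_zpowers _]

theorem elem_cen {X : Subgroup G} (h : IsElementaryAbelian 2 X) : X ≤ centralizer (X : Set G) :=
  fun x hx => mc fun y hy => congrArg Subtype.val (h.1.is_comm.comm (⟨x, hx⟩ : X) ⟨y, hy⟩)

end T1

open T1

theorem IsPair.odd_idx2 (h : IsPair 2 L L') : ¬ 2 ∣ (wA L).relIndex (eA L) := by
  obtain ⟨F, _, _, hF, ⟨H⟩⟩ := h.exists_half
  obtain ⟨D, hD⟩ := H.a.exists_res
  haveI := H.a.char
  have := not_dvd_card_SLc (F := F) (p := 2) (by omega)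
  rwa [← D.img_self, D.card_img le_rfl, hD] at this

theorem IsPair.normE2 (h : IsPair 2 L L') : L ≤ normalizer (eA L : Set G) := le_normalizer_pResOf L

theorem IsPair.E_le2 (h : IsPair 2 L L') : eA L ≤ L := pResOf_le L

theorem IsPair.W_cen2 (h : IsPair 2 L L') : wA L ≤ centralizer (wA L : Set G) := elem_cen h.elem

theorem IsPair.cop2 (h : IsPair 2 L L') {n : ℕ} (hn : ¬ 2 ∣ n) : (Nat.card (wA L)).Coprime n := by
  obtain ⟨k, hk⟩ := IsPGroup.iff_card.1 (h.pg.to_le (le_sup_left : wA L ≤ Ug L L'))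
  rw [hk]
  exact Nat.Coprime.pow_left _ ((Nat.Prime.coprime_iff_not_dvd Nat.prime_two).2 hn)

theorem IsPair.exists_compl2 (h : IsPair 2 L L') :
    ∃ A : Subgroup G, ¬ 2 ∣ Nat.card A ∧ wA L ⊔ A = eA L := by
  haveI : ((wA L).subgroupOf (eA L)).Normal := normal_subgroupOf_of_le (h.E_le2.trans h.normW)
  obtain ⟨A, hA⟩ := exists_right_complement'_of_coprime (N := (wA L).subgroupOf (eA L)) (by
    rw [Nat.card_congr (subgroupOfEquivOfLe h.W_le_E).toEquiv]
    exact h.cop2 h.odd_idx2)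
  refine ⟨A.map (eA L).subtype, ?_, ?_⟩
  · rw [card_map_of_injective (eA L).subtype_injective, ← hA.symm.index_eq_card]
    exact h.odd_idx2
  · rw [← map_subgroupOf_eq_of_le h.W_le_E, ← Subgroup.map_sup, hA.sup_eq_top, ← MonoidHom.range_eq_map,
      range_subtype]

theorem IsPair.card_two (h : IsPair 2 L L') :
    Nat.card (wA L) = 4 ∧ Nat.card (Rg L L') = 2 ∧ cen (wA L) (eA L) = ⊥ := by
  obtain ⟨F, _, _, hF, ⟨H⟩⟩ := h.exists_half
  have h1 : cen (wA L) (eA L) = ⊥ := by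
    have := Transfer.commutator_inf_centralizer_of_abelian_hall h.elem.1 h.W_le_E
      (h.E_le2.trans h.normW) (h.cop2 h.odd_idx2)
    rwa [H.a.comm_WE] at this
  have h2 : cen (wA L) L = ⊥ := H.a.cen_E ▸ h1
  have h3 := h.card_R
  rw [h2, card_bot] at h3
  exact ⟨by rw [h.card_W, h3], h3, h1⟩

theorem IsPair.eq_one2 (h : IsPair 2 L L') {w : G} (hw : w ∈ wA L)
    (hc : w ∈ centralizer (eA L : Set G)) : w = 1 :=
  mem_bot.1 (h.card_two.2.2 ▸ mem_inf.2 ⟨hw, hc⟩)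

theorem IsPair.exists_r (h : IsPair 2 L L') : ∃ r, Rg L L' = zpowers r := by
  obtain ⟨c, hc, hu⟩ := (Nat.card_eq_two_iff' (1 : Rg L L')).1 h.card_two.2.1
  refine ⟨c, le_antisymm (fun z hz => ?_) (zpowers_le.2 c.2)⟩
  by_cases h1 : z = 1
  · rw [h1]; exact one_mem _
  · rw [show z = c from congrArg Subtype.val (hu ⟨z, hz⟩ fun e => h1 (congrArg Subtype.val e))]
    exact mem_zpowers _

theorem IsPair.ord_r (h : IsPair 2 L L') (e : Rg L L' = zpowers r) : orderOf r = 2 := by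
  rw [← Nat.card_zpowers, ← e, h.card_two.2.1]

theorem IsPair.mem_R (h : IsPair 2 L L') (e : Rg L L' = zpowers r) {x : G} :
    x ∈ Rg L L' ↔ x = 1 ∨ x = r := by
  rw [e]; exact mem_zp (h.ord_r e)

theorem IsPair.r_mem (h : IsPair 2 L L') (e : Rg L L' = zpowers r) : r ∈ Rg L L' :=
  (h.mem_R e).2 (Or.inr rfl)

theorem IsPair.r_ne (h : IsPair 2 L L') (e : Rg L L' = zpowers r) : r ≠ 1 := fun e1 => by
  have := h.ord_r e
  rw [e1, orderOf_one] at this
  omega

theorem IsPair.sq_W2 (h : IsPair 2 L L') {w : G} (hw : w ∈ wA L) : w * w = 1 :=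
  comm_of_elem h.elem hw

theorem IsPair.r_sq (h : IsPair 2 L L') (e : Rg L L' = zpowers r) : r * r = 1 :=
  h.sq_W2 (h.r_mem e).1

theorem IsPair.inv_W2 (h : IsPair 2 L L') {w : G} (hw : w ∈ wA L) : w⁻¹ = w :=
  inv_eq_of_mul_eq_one_right (h.sq_W2 hw)

theorem IsPair.mem_W2 (h : IsPair 2 L L') {w x : G} (hw : w ∈ wA L) (hw' : w ∉ Rg L L')
    (hx : x ∈ wA L) : ∃ z ∈ Rg L L', x = z ∨ x = w * z := by
  rcases two h.idx hw hw' hx with e | e
  · exact ⟨x, e, Or.inl rfl⟩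
  · exact ⟨_, e, Or.inr (by rw [← mul_assoc, h.sq_W2 hw, one_mul])⟩

theorem IsPair.W_eq (h : IsPair 2 L L') (e : Rg L L' = zpowers r) {w : G} (hw : w ∈ wA L)
    (hw' : w ∉ Rg L L') : wA L = zpowers r ⊔ zpowers w := by
  refine le_antisymm (fun x hx => ?_) (sup_le (zpowers_le.2 (h.r_mem e).1) (zpowers_le.2 hw))
  obtain ⟨z, hz, rfl | rfl⟩ := h.mem_W2 hw hw' hx
  · exact mem_sup_left (e ▸ hz)
  · exact mul_mem (mem_sup_right (mem_zpowers _)) (mem_sup_left (e ▸ hz))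

theorem IsPair.exists_w2 (h : IsPair 2 L L') : ∃ w ∈ wA L, w ∉ Rg L L' := by
  by_contra hn
  push Not at hn
  exact h.not_le fun w hw => h.symm.W_cen2 (hn w hw).2

/-- An element of `W` outside `R` does not centralize `W'`. -/
theorem IsPair.not_cenW2 (h : IsPair 2 L L') {w : G} (hw : w ∈ wA L) (hw' : w ∉ Rg L L') :
    w ∉ centralizer (wA L' : Set G) := fun hc =>
  h.symm.not_le fun _ hb => h.W_cen2 (h.mem_of_commute hw hw' (mem_sup_right hb) (cm hc hb))

/-- A subgroup containing `R` and an element of `W` outside `R` contains `W`. -/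
theorem IsPair.W_le2 (h : IsPair 2 L L') {w : G} (hw : w ∈ wA L) (hw' : w ∉ Rg L L')
    {M : Subgroup G} (h1 : Rg L L' ≤ M) (h2 : w ∈ M) : wA L ≤ M := fun x hx => by
  obtain ⟨z, hz, rfl | rfl⟩ := h.mem_W2 hw hw' hx
  exacts [h1 hz, mul_mem h2 (h1 hz)]

theorem IsPair.conj_r (h : IsPair 2 L L') (e : Rg L L' = zpowers r) {w : G} (hw : w ∈ wA L)
    (h1 : w ≠ 1) : ∃ k ∈ eA L, k * w * k⁻¹ = r := by
  obtain ⟨k, hk, h2⟩ := h.exists_conj hw
  exact ⟨k, hk, ((h.mem_R e).1 h2).resolve_left fun e1 => h1 (conj_eq_one_iff.1 e1)⟩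

theorem IsPair.cen_r (h : IsPair 2 L L') (e : Rg L L' = zpowers r) {l : G} (hl : l ∈ L) :
    Commute r l ↔ l ∈ normalizer (Ug L L' : Set G) := by
  constructor
  · intro hc
    by_contra hn
    obtain ⟨F, _, _, hF, ⟨H⟩⟩ := h.exists_half
    have h1 := H.a.cen_inf hl hn
    rw [h.R_eq, ← H.a.cen_E, h.card_two.2.2] at h1
    refine h.r_ne e (mem_bot.1 (h1 ▸ mem_inf.2 ⟨h.r_mem e, ?_⟩))
    rw [← conj_eq hc.symm]
    exact conj_mem_conjS.2 (h.r_mem e)
  · intro hn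
    have h1 : l ∈ normalizer (Rg L L' : Set G) := by
      rw [← h.R_eq']
      exact le_normalizer_inf le_rfl (LAE.normalizer_le_normalizer_centralizer _) hn
    exact (cm_of_conj (((h.mem_R e).1 (LAE.conj_mem_of_mem_normalizer h1 (h.r_mem e))).resolve_left
      fun e1 => h.r_ne e (conj_eq_one_iff.1 e1))).symm

theorem Ad.mul_r (h : Ad 2 u L L') (e : Rg L L' = zpowers r) :
    u * r ∈ centralizer (Kg L L' : Set G) := by
  obtain ⟨r₀, h0, hc⟩ := h.exists_c
  rcases (h.pair.mem_R e).1 h0 with rfl | rfl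
  · rw [mul_one] at hc
    exact absurd (centralizer_anti h.pair.L_le_K hc) h.not_cen
  · exact hc

theorem mul_r_Kr (u r : G) : u * r ∈ centralizer (Kr 2 u (zpowers r) : Set G) := by
  have : Kr 2 u (zpowers r) ≤ centralizer ({u * r} : Set G) :=
    Kr_le_iff.2 fun L L' h e k hk => mc1.2 (cm (h.mul_r e) hk).symm
  exact mc fun k hk => (mc1.1 (this hk)).symm

theorem Ad.Q_split (h : Ad 2 u L L') (h1 : o ∈ Tt u) (h2 : o ∈ centralizer (wA L : Set G)) :
    ∃ w ∈ wA L, w * o ∈ centralizer (eA L : Set G) := by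
  obtain ⟨A, hA, e⟩ := h.pair.exists_compl2
  have hW : wA L ≤ cen (Tt u) (wA L) := le_inf (le_sup_left.trans h.le_T) h.pair.W_cen2
  obtain ⟨w, hw, c, hc, e1⟩ := Coprime.exists_mul_centralizer_of_commutator_le (A := A) hW
    ((commutator_mono le_rfl (e ▸ le_sup_right)).trans h.uq) (h.pair.cop2 hA).symm
    (Or.inr (Coprime.isSolvable_of_isPGroup (h.pair.pg.to_le (le_sup_left : wA L ≤ Ug L L'))))
    (mem_inf.2 ⟨h1, h2⟩)
  refine ⟨w⁻¹, inv_mem hw, ?_⟩
  rw [e1, inv_mul_cancel_left, ← e, LAE.centralizer_sup]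
  exact ⟨hc.1.2, hc.2⟩

theorem Ad.cen_L (hG : St G) (h : Ad 2 u L L') (h1 : o ∈ Tt u) (h2 : o ∈ centralizer (eA L : Set G)) :
    o ∈ centralizer (L : Set G) := by
  have p := h.pair
  obtain ⟨r, e⟩ := p.exists_r
  obtain ⟨a, ha, ha'⟩ := p.symm.exists_w2
  have haU : a ∈ Ug L L' := mem_sup_right ha
  have haT : a ∈ Tt u := h.le_T haU
  have haa : a * a = 1 := p.symm.sq_W2 ha
  have hai : a⁻¹ = a := p.symm.inv_W2 ha
  have hWE : centralizer (eA L : Set G) ≤ centralizer (wA L : Set G) := centralizer_anti p.W_le_E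
  have hRW : centralizer (wA L : Set G) ≤ centralizer (Rg L L' : Set G) :=
    centralizer_anti inf_le_left
  have hUE : ∀ b ∈ Ug L L', ∀ d ∈ centralizer (eA L : Set G),
      b⁻¹ * (d * b * d⁻¹) ∈ centralizer (eA L : Set G) := fun b hb d hd => by
    have := mul_mem (conj_cen (inv_mem (p.normE2 (p.U_le hb))) hd) (inv_mem hd)
    simpa only [inv_inv, mul_assoc] using this
  suffices hc : Commute o a by
    rw [← p.E_sup, LAE.centralizer_sup, LAE.centralizer_sup]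
    refine ⟨h2, hWE h2, mc fun x hx => ?_⟩
    exact (mc1.1 (p.symm.W_le2 ha ha' (M := centralizer {o})
      (fun z hz => mc1.2 (cm (hRW (hWE h2)) (Rg_comm L L' ▸ hz)).symm) (mc1.2 hc.symm) hx)).symm
  by_contra hn
  obtain ⟨d, hdT, hdE, hd1, hd2⟩ : ∃ d ∈ Tt u, d ∈ centralizer (eA L : Set G) ∧ ¬ Commute d a ∧
      Commute (d * a * d⁻¹) a := by
    by_cases hc : Commute (o * a * o⁻¹) a
    · exact ⟨o, h1, h2, hn, hc⟩
    · have hoT : o * a * o⁻¹ ∈ Tt u := mul_mem (mul_mem h1 haT) (inv_mem h1)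
      obtain ⟨d, hd, hd1, hd2⟩ := two_step (P := centralizer {a}) (u := a) (a := o * a * o⁻¹) haa
        (by rw [show o * a * o⁻¹ * (o * a * o⁻¹) = o * (a * a) * o⁻¹ by group, haa]; group)
        ((pg_Tt u).to_le (sup_le (zpowers_le.2 haT) (zpowers_le.2 hoT)))
        (mc1.2 (Commute.refl a)) (fun e1 => hc (mc1.1 e1))
      have hz := hUE a haU o h2
      rw [hai] at hz
      exact ⟨d, zpowers_le.2 (mul_mem haT hoT) hd, zpowers_le.2 hz hd, fun e1 => hd1 (mc1.2 e1),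
        mc1.1 hd2⟩
  have hdW : conjS d (wA L) = wA L := conjS_of_cen (hWE hdE)
  have hdR : conjS d (Rg L' L) = Rg L' L := conjS_of_cen (Rg_comm L L' ▸ hRW (hWE hdE))
  have q := h.symm.conj_of_comm (comm_of_mem_Tt hdT)
  have key : wA (conjS d L') = wA L' := by
    refine Ad.samew hG h.symm q ?_ ?_ ?_ ?_ ?_
    · rw [← conjS_wA, conjS_le_iff]
      refine p.symm.W_le2 ha ha' ?_ ?_
      · rw [← conjS_le_iff, hdR]
        exact inf_le_left.trans p.symm.W_cen2
      · rw [mem_conjS, inv_inv]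
        refine mc fun x hx => (mc1.1 (p.symm.W_le2 ha ha' (M := centralizer {d * a * d⁻¹}) ?_
          (mc1.2 hd2.symm) hx)).symm
        intro z hz
        have hzd : Commute z d := (cm (hRW (hWE hdE)) (Rg_comm L L' ▸ hz)).symm
        have hza : Commute z a := cm (p.symm.W_cen2 hz.1) ha
        exact mc1.2 ((hzd.mul_right hza).mul_right hzd.inv_right)
    · rw [← conjS_Rg, hdR]
    · intro w hw
      rw [← conjS_wA] at hw
      obtain ⟨b, hb, rfl⟩ := exists_of_mem_conjS hw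
      exact ⟨b⁻¹, inv_mem hb, hWE (hUE b (mem_sup_right hb) d hdE)⟩
    · rw [← conjS_wA, ← hdW, ← conjS_centralizer, conjS_le_conjS_iff]
      exact p.symm.not_le
    · refine le_normalizer_sup ?_ (le_sup_right.trans (q.pair.U_le.trans q.pair.normW))
      rw [← conjS_wA, hdW]
      exact le_sup_right.trans (p.symm.U_le.trans p.symm.normW)
  have hz : a⁻¹ * (d * a * d⁻¹) ∈ wA L' :=
    mul_mem (inv_mem ha) (by rw [← key, ← conjS_wA]; exact conj_mem_conjS.2 ha)
  have hzE := hUE a haU d hdE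
  by_cases hzR : a⁻¹ * (d * a * d⁻¹) ∈ Rg L' L
  · exact hd1 (cm_of_conj (inv_mul_eq_one.1 (p.eq_one2 hzR.2 hzE)).symm)
  · exact p.symm.not_cenW2 hz hzR (hWE hzE)

theorem Ad.fix_r (h : Ad 2 u L L') (e : Rg L L' = zpowers r) (h1 : Commute u t)
    (h2 : t ∈ normalizer (eA L : Set G)) : Commute t r := by
  have p := h.pair
  have hc : u * r ∈ centralizer (eA L : Set G) := centralizer_anti le_sup_left (h.mul_r e)
  have hW : t ∈ normalizer (wA L : Set G) := normalizer_le_normalizer_pCoreOf _ h2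
  have h3 := mul_mem (inv_mem hc) (conj_cen h2 hc)
  have e1 : (u * r)⁻¹ * (t * (u * r) * t⁻¹) = r⁻¹ * (t * r * t⁻¹) := by
    rw [← mul_assoc t u, ← h1.eq]; group
  rw [e1] at h3
  exact cm_of_conj (inv_mul_eq_one.1 (p.eq_one2 (mul_mem (inv_mem (p.r_mem e).1)
    (LAE.conj_mem_of_mem_normalizer hW (p.r_mem e).1)) h3)).symm

theorem Ad.norm_split (hG : St G) (h : Ad 2 u L L') (h1 : t ∈ Tt u)
    (h2 : t ∈ normalizer (wA L : Set G)) : ∃ b ∈ Ug L L', b * t ∈ centralizer (L : Set G) := by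
  have p := h.pair
  obtain ⟨r, e⟩ := p.exists_r
  have htr : Commute t r := h.fix_r e (comm_of_mem_Tt h1) (h.nt hG (comm_of_mem_Tt h1) h2)
  obtain ⟨w, hw, hw'⟩ := p.exists_w2
  obtain ⟨a, ha, ha'⟩ := p.symm.exists_w2
  have haU : a ∈ Ug L L' := mem_sup_right ha
  have har : Commute a r := (cm (p.R_le_cen (p.r_mem e)) haU).symm
  -- elements normalizing `W` and fixing `r`
  have act : ∀ x ∈ normalizer (wA L : Set G), Commute x r →
      x ∈ centralizer (wA L : Set G) ∨ x * w * x⁻¹ = w * r := fun x hx hxr => by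
    obtain ⟨z, hz, e1 | e1⟩ := p.mem_W2 hw hw' (LAE.conj_mem_of_mem_normalizer hx hw)
    · exfalso
      rcases (p.mem_R e).1 hz with rfl | rfl
      · exact hw' (conj_eq_one_iff.1 e1 ▸ one_mem _)
      · refine hw' ?_
        have : w = x⁻¹ * z * x⁻¹⁻¹ := by rw [← e1]; group
        rw [this, conj_eq hxr.inv_left]
        exact hz
    · rcases (p.mem_R e).1 hz with rfl | rfl
      · left
        rw [mul_one] at e1
        refine mc fun y hy => (mc1.1 (p.W_le2 hw hw' (M := centralizer {x}) ?_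
          (mc1.2 (cm_of_conj e1).symm) hy)).symm
        rw [e, zpowers_le]
        exact mc1.2 hxr.symm
      · exact Or.inr e1
  obtain ⟨b, hb, hc⟩ : ∃ b ∈ Ug L L', b * t ∈ centralizer (wA L : Set G) := by
    rcases act t h2 htr with h3 | h3
    · exact ⟨1, one_mem _, by rwa [one_mul]⟩
    · have h4 := (act a (p.normW (p.U_le haU)) har).resolve_left (p.symm.not_cenW2 ha ha')
      refine ⟨a, haU, (act (a * t) (mul_mem (p.normW (p.U_le haU)) h2) (har.mul_left htr)).resolve_right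
        fun h5 => ?_⟩
      have h6 : a * t * w * (a * t)⁻¹ = w := by
        calc a * t * w * (a * t)⁻¹ = a * (t * w * t⁻¹) * a⁻¹ := by group
          _ = (a * w * a⁻¹) * (a * r * a⁻¹) := by rw [h3]; group
          _ = w := by rw [h4, conj_eq har, mul_assoc, p.r_sq e, mul_one]
      rw [h6] at h5
      exact p.r_ne e (by simpa using h5.symm)
  have hT : b * t ∈ Tt u := mul_mem (h.le_T hb) h1
  obtain ⟨w₀, hw₀, h3⟩ := h.Q_split hT hc
  refine ⟨w₀ * b, mul_mem (mem_sup_left hw₀) hb, ?_⟩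
  rw [mul_assoc]
  exact h.cen_L hG (mul_mem (h.le_T (mem_sup_left hw₀)) hT) h3

/-- An involution of `Tt u` normalizing `W`. -/
theorem Ad.invol_split2 (hG : St G) (h : Ad 2 u L L') (h1 : t ∈ Tt u) (ht : t * t = 1)
    (h2 : t ∈ normalizer (wA L : Set G)) :
    ∃ b, (b ∈ wA L ∨ b ∈ wA L') ∧ b * t ∈ centralizer (L : Set G) := by
  obtain ⟨b, hb, hc⟩ := h.norm_split hG h1 h2
  refine ⟨b, h.pair.mem_of_sq hb ?_, hc⟩
  have h3 : Commute (b * t) b := cm hc (h.pair.U_le hb)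
  have h4 : Commute b t := mul_left_cancel (a := b) (by rw [← mul_assoc b t b, h3.eq])
  have : b * b = b * t * (b * t) := by
    rw [h4.symm.mul_mul_mul_comm, ht, mul_one]
  rw [this]
  exact mul_mem hc hc

theorem Ad.R_eq_of_E (h : Ad 2 u L L') (h2 : Ad 2 u L₂ L₂') (e : eA L₂ = eA L) :
    Rg L₂ L₂' = Rg L L' := by
  obtain ⟨r, e1⟩ := h.pair.exists_r
  obtain ⟨r₂, e2⟩ := h2.pair.exists_r
  have h3 : u * r ∈ centralizer (eA L : Set G) := centralizer_anti le_sup_left (h.mul_r e1)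
  have h4 : u * r₂ ∈ centralizer (eA L : Set G) :=
    e ▸ centralizer_anti le_sup_left (h2.mul_r e2)
  have h5 := mul_mem (inv_mem h3) h4
  rw [show (u * r)⁻¹ * (u * r₂) = r⁻¹ * r₂ by group] at h5
  have h6 : r₂ ∈ wA L := by
    have := (h2.pair.r_mem e2).1
    rwa [wA, show pResOf 2 L₂ = pResOf 2 L from e] at this
  rw [e1, e2, inv_mul_eq_one.1 (h.pair.eq_one2 (mul_mem (inv_mem (h.pair.r_mem e1).1) h6) h5)]

theorem Ad.partner (hG : St G) (h : Ad 2 u L L') (h2 : Ad 2 u L₂ L₂') (e : wA L₂ = wA L) :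
    L₂ = L ∧ L₂' = L' := by
  have p := h.pair
  have q := h2.pair
  have hR : Rg L₂' L₂ = Rg L' L := by
    rw [Rg_comm L₂', Rg_comm L', h.R_eq_of_E h2 (h.eq_E hG h2 e)]
  obtain ⟨a, ha, ha'⟩ := q.symm.exists_w2
  have haU : a ∈ Ug L₂ L₂' := mem_sup_right ha
  obtain ⟨b, hb, hc⟩ := h.invol_split2 hG (h2.le_T haU) (q.symm.sq_W2 ha) (e ▸ q.normW (q.U_le haU))
  have cW : centralizer (L : Set G) ≤ centralizer (wA L : Set G) :=
    centralizer_anti (le_sup_left.trans p.U_le)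
  have cW' : centralizer (L : Set G) ≤ centralizer (wA L' : Set G) :=
    centralizer_anti (le_sup_right.trans p.U_le)
  have hb' : b ∈ wA L' := hb.resolve_left fun hb => q.symm.not_cenW2 ha ha' (by
    rw [e]
    simpa using mul_mem (inv_mem (p.W_cen2 hb)) (cW hc))
  have key : wA L₂' = wA L' := by
    refine Ad.samew hG h.symm h2.symm ?_ hR ?_ (e ▸ q.symm.not_le) ?_
    · refine q.symm.W_le2 ha ha' (hR ▸ inf_le_left.trans p.symm.W_cen2) ?_
      simpa using mul_mem (inv_mem (p.symm.W_cen2 hb')) (cW' hc)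
    · intro x hx
      obtain ⟨z, hz, rfl | rfl⟩ := q.symm.mem_W2 ha ha' hx
      · exact ⟨1, one_mem _, by rw [one_mul]; exact p.W_cen2 (hR ▸ hz).2⟩
      · exact ⟨b, hb', by rw [← mul_assoc]; exact mul_mem (cW hc) (p.W_cen2 (hR ▸ hz).2)⟩
    · refine le_normalizer_sup ?_ (le_sup_right.trans (q.symm.U_le.trans q.symm.normW))
      rw [e]
      exact le_sup_right.trans (p.symm.U_le.trans p.symm.normW)
  refine (h.eq_of_U hG h2 (by rw [Ug, Ug, e, key])).resolve_right fun h3 => p.ne ?_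
  rw [← e, h3.1]

theorem Bk.conj (h : Bk u r W) (g : G) : Bk (g * u * g⁻¹) (g * r * g⁻¹) (conjS g W) := by
  obtain ⟨L, L', h, rfl, e⟩ := h
  exact ⟨_, _, h.conj g, (conjS_wA g L).symm, by rw [← conjS_Rg, e, conjS_zp]⟩

theorem Bk.le_Dr (h : Bk u r W) : W ≤ Dr 2 u (zpowers r) := by
  obtain ⟨L, L', h, rfl, e⟩ := h
  exact le_sup_left.trans (h.le_Dr e)

theorem Ad.cen_split2 (hG : St G) (h : Ad 2 u L L') (h1 : o ∈ Tt u)
    (h2 : o ∈ centralizer (wA L : Set G)) : ∃ w ∈ wA L, w * o ∈ centralizer (L : Set G) := by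
  obtain ⟨w, hw, h3⟩ := h.Q_split h1 h2
  exact ⟨w, hw, h.cen_L hG (mul_mem (h.le_T (mem_sup_left hw)) h1) h3⟩

theorem Bk.eq_of_comm (hG : St G) (h1 : Bk u r W₁) (h2 : Bk u r W₂)
    (hc : W₁ ≤ centralizer (W₂ : Set G)) : W₁ = W₂ := by
  obtain ⟨L, L', h, rfl, e⟩ := h1
  obtain ⟨L₂, L₂', h2, rfl, e2⟩ := h2
  have p := h.pair
  have q := h2.pair
  have hc' : wA L₂ ≤ centralizer (wA L : Set G) := le_centralizer_iff.1 hc
  have hR : Rg L₂ L₂' = Rg L L' := e2.trans e.symm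
  obtain ⟨a, ha, ha'⟩ := q.exists_w2
  obtain ⟨w, hw, hz⟩ := h.cen_split2 hG (h2.le_T (mem_sup_left ha)) (hc' ha)
  have cW' : centralizer (L : Set G) ≤ centralizer (wA L' : Set G) :=
    centralizer_anti (le_sup_right.trans p.U_le)
  by_cases hwR : w ∈ Rg L L'
  · exfalso
    have hw2 : w ∈ Rg L₂ L₂' := hR ▸ hwR
    have hz1 : w * a ≠ 1 := fun e1 => ha' (by
      rw [← inv_eq_of_mul_eq_one_right e1]; exact inv_mem hw2)
    obtain ⟨k, hk, e1⟩ := q.conj_r e2 (mul_mem hw2.1 ha) hz1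
    have hck : Commute (u * r) k := cm (h2.mul_r e2) (mem_sup_left hk)
    have hur : Commute u r := h.comm_U (mem_sup_left (p.r_mem e).1)
    have e3 : k⁻¹ * u * k⁻¹⁻¹ = w * a * (u * r) := by
      have : k * (w * a * (u * r)) * k⁻¹ = u := by
        calc k * (w * a * (u * r)) * k⁻¹ = (k * (w * a) * k⁻¹) * (k * (u * r) * k⁻¹) := by group
          _ = u := by rw [e1, conj_eq hck.symm, hur.eq, ← mul_assoc, p.r_sq e, one_mul]
      calc k⁻¹ * u * k⁻¹⁻¹ = k⁻¹ * (k * (w * a * (u * r)) * k⁻¹) * k⁻¹⁻¹ := by rw [this]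
        _ = _ := by group
    have hcl := h.cl.conj k⁻¹
    rw [e3] at hcl
    refine hcl.not_le_atom p.atom fun l hl => mc1.2 (cm ?_ hl).symm
    exact mul_mem hz (centralizer_anti p.L_le_K (h.mul_r e))
  · refine (Ad.samew hG h h2 hc' hR ?_ ?_ ?_).symm
    · intro x hx
      have hRc : Rg L₂ L₂' ≤ centralizer (wA L' : Set G) := hR ▸ inf_le_right.trans p.symm.W_cen2
      obtain ⟨z, hz', rfl | rfl⟩ := q.mem_W2 ha ha' hx
      · exact ⟨1, one_mem _, by rw [one_mul]; exact hRc hz'⟩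
      · exact ⟨w, hw, by rw [← mul_assoc]; exact mul_mem (cW' hz) (hRc hz')⟩
    · intro h3
      exact p.not_cenW2 hw hwR (by simpa using mul_mem (cW' hz) (inv_mem (h3 ha)))
    · intro b hb
      have hbL : b ∈ L₂ := q.U_le (mem_sup_right hb)
      refine mem_normalizer_of_conjS_le ?_
      rw [conjS_sup, mem_normalizer_iff_conjS.1 (q.normW hbL)]
      refine sup_le (conjS_le_iff_forall.2 fun x hx => ?_) le_sup_right
      obtain ⟨w', hw', h3⟩ := h2.cen_split2 hG (h.le_T (mem_sup_left hx)) (hc hx)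
      have : b * x * b⁻¹ = (b * w'⁻¹ * b⁻¹) * w' * x := by
        calc b * x * b⁻¹ = (b * w'⁻¹ * b⁻¹) * (b * (w' * x) * b⁻¹) := by group
          _ = _ := by rw [conj_eq (cm h3 hbL).symm, mul_assoc _ w']
      rw [this]
      exact mul_mem (mem_sup_right (mul_mem (LAE.conj_mem_of_mem_normalizer (q.normW hbL)
        (inv_mem hw')) hw')) (mem_sup_left hx)

theorem Ad.bk (h : Ad 2 u L L') (e : Rg L L' = zpowers r) : Bk u r (wA L) := ⟨L, L', h, rfl, e⟩

theorem Ad.bk' (h : Ad 2 u L L') (e : Rg L L' = zpowers r) : Bk u r (wA L') :=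
  ⟨L', L, h.symm, rfl, (Rg_comm L' L).trans e⟩

/-- A block normalizing another block is the block itself or its partner. -/
theorem Ad.eq_of_norm (hG : St G) (h : Ad 2 u L L') (e : Rg L L' = zpowers r) (h2 : Bk u r W)
    (hn : W ≤ normalizer (wA L : Set G)) : W = wA L ∨ W = wA L' := by
  have h2' := h2
  obtain ⟨L₂, L₂', h3, rfl, e2⟩ := h2
  have p := h.pair
  have q := h3.pair
  have hR : Rg L₂ L₂' = Rg L L' := e2.trans e.symm
  obtain ⟨a, ha, ha'⟩ := q.exists_w2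
  obtain ⟨b, hb | hb, hc⟩ := h.invol_split2 hG (h3.le_T (mem_sup_left ha)) (q.sq_W2 ha) (hn ha)
  · refine Or.inl (Bk.eq_of_comm hG h2' (h.bk e)
      (q.W_le2 ha ha' (hR ▸ inf_le_left.trans p.W_cen2) ?_))
    simpa using mul_mem (inv_mem (p.W_cen2 hb)) (centralizer_anti (le_sup_left.trans p.U_le) hc)
  · refine Or.inr (Bk.eq_of_comm hG h2' (h.bk' e)
      (q.W_le2 ha ha' (hR ▸ inf_le_right.trans p.symm.W_cen2) ?_))
    simpa using mul_mem (inv_mem (p.symm.W_cen2 hb))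
      (centralizer_anti (le_sup_right.trans p.U_le) hc)

end CfsgLib.Baum
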