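import Mathlib
import Cfsg.Agent.Lib.Baum.Two1
import Cfsg.Agent.Lib.Baum.Dih

/-! The field of order two: the dihedral groups. -/

set_option autoImplicit false
set_option linter.unusedSectionVars false

namespace CfsgLib.Baum

open Subgroup Cfsg CfsgLib.LAE CfsgLib.PLocal CfsgLib.Push CfsgLib.BHS CfsgLib.ZJ CfsgLib.SL2
  CfsgLib.Blocks CfsgLib.LocStr CfsgLib.CGT2
open scoped commutatorElement


variable {G : Type*} [Group G] [Finite G]

variable {u r y : G} {L L' : Subgroup G}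

open T1

namespace T2

variable {w w₁ w₂ t : G}

/-- The noncentral elements of the blocks. -/
def II (u r w : G) : Prop := Bk u r (zpowers r ⊔ zpowers w) ∧ w ∉ zpowers r

theorem II.of_mem (h : Ad 2 u L L') (e : Rg L L' = zpowers r) (hw : w ∈ wA L)
    (hw' : w ∉ Rg L L') : II u r w :=
  ⟨h.pair.W_eq e hw hw' ▸ h.bk e, e ▸ hw'⟩

theorem II.ex (h : II u r w) : ∃ L L', Ad 2 u L L' ∧ Rg L L' = zpowers r ∧ w ∈ wA L ∧
    w ∉ Rg L L' ∧ wA L = zpowers r ⊔ zpowers w := by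
  obtain ⟨⟨L, L', h, e1, e⟩, h2⟩ := h
  exact ⟨L, L', h, e, e1 ▸ mem_sup_right (mem_zpowers w), e ▸ h2, e1⟩

theorem II.mem (h : II u r w) : w ∈ Dr 2 u (zpowers r) :=
  h.1.le_Dr (mem_sup_right (mem_zpowers w))

theorem II.sq (h : II u r w) : w * w = 1 := by
  obtain ⟨L, L', h, -, hw, -⟩ := h.ex
  exact h.pair.sq_W2 hw

theorem Dr_le_cen (u r : G) : Dr 2 u (zpowers r) ≤ centralizer ({r} : Set G) :=
  Dr_le_iff.2 fun _ _ h e _ hb => mc1.2 (cm (h.pair.R_le_cen (h.pair.r_mem e)) hb).symm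

theorem II.conj (h : II u r w) (ht : t ∈ Dr 2 u (zpowers r)) : II u r (t * w * t⁻¹) := by
  have h1 : t * u * t⁻¹ = u := conj_eq (comm_of_mem_Tt (Dr_le_T ht)).symm
  have h2 : t * r * t⁻¹ = r := conj_eq (mc1.1 (Dr_le_cen u r ht))
  have h3 := h.1.conj t
  rw [conjS_sup, conjS_zp, conjS_zp, h1, h2] at h3
  refine ⟨h3, fun h4 => h.2 ?_⟩
  rwa [← h2, ← conjS_zp, conj_mem_conjS] at h4

theorem II.comm_r (h : II u r w) : Commute w r := mc1.1 (Dr_le_cen u r h.mem)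

theorem II.eq_of_comm (hG : St G) (h1 : II u r w₁) (h2 : II u r w₂) (hc : Commute w₁ w₂) :
    zpowers r ⊔ zpowers w₁ = zpowers r ⊔ zpowers w₂ := by
  refine Bk.eq_of_comm hG h1.1 h2.1 ?_
  have k : ∀ x, Commute x r → Commute x w₂ →
      x ∈ centralizer ((zpowers r ⊔ zpowers w₂ : Subgroup G) : Set G) := fun x a b =>
    mc fun y hy => (mc1.1 ((sup_le (zpowers_le.2 (mc1.2 a.symm)) (zpowers_le.2 (mc1.2 b.symm)) :
      zpowers r ⊔ zpowers w₂ ≤ centralizer {x}) hy)).symm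
  exact sup_le (zpowers_le.2 (k r (Commute.refl r) h2.comm_r.symm))
    (zpowers_le.2 (k w₁ h1.comm_r hc))

theorem II.mem_iff (h : II u r w) {x : G} (hx : x ∈ zpowers r ⊔ zpowers w) :
    x = 1 ∨ x = r ∨ x = w ∨ x = w * r := by
  obtain ⟨L, L', h, e, hw, hw', e1⟩ := h.ex
  obtain ⟨z, hz, rfl | rfl⟩ := h.pair.mem_W2 hw hw' (e1 ▸ hx)
  · rcases (h.pair.mem_R e).1 hz with e2 | e2 <;> simp [e2]
  · rcases (h.pair.mem_R e).1 hz with e2 | e2 <;> simp [e2]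

theorem dih_facts (hG : St G) (h1 : II u r w₁) (h2 : II u r w₂) {n : ℕ}
    (d : Dih (zpowers w₁ ⊔ zpowers w₂) (w₁ * w₂) w₁ n) (hc : ¬ Commute w₁ w₂) :
    (w₁ * w₂) ^ 2 ^ (n - 1) = r ∧ ∀ i : ℤ, II u r ((w₁ * w₂) ^ i * w₁) := by
  have hρ : ∀ j : ℤ, (w₁ * w₂) ^ j ∈ Dr 2 u (zpowers r) := fun j =>
    zpow_mem (mul_mem h1.mem h2.mem) j
  have hI : ∀ i : ℤ, II u r ((w₁ * w₂) ^ i * w₁) := fun i => by
    rcases Int.even_or_odd' i with ⟨j, rfl | rfl⟩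
    · have := h1.conj (hρ j)
      have e := d.conj_refl 0 j
      rw [zpow_zero, one_mul, add_zero] at e
      rwa [e] at this
    · have := h2.conj (hρ (j + 1))
      have e := d.conj_refl (-1) (j + 1)
      have e2 : (w₁ * w₂) ^ (-1 : ℤ) * w₁ = w₂ := by
        rw [zpow_neg_one, mul_inv_rev, inv_mul_cancel_right, inv_eq_of_mul_eq_one_right h2.sq]
      rw [e2, show 2 * (j + 1) + -1 = 2 * j + 1 by ring] at e
      rwa [e] at this
  refine ⟨?_, hI⟩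
  have h3 := hI ((2 ^ (n - 1) : ℕ) : ℤ)
  rw [zpow_natCast] at h3
  have hz1 : Commute ((w₁ * w₂) ^ 2 ^ (n - 1)) w₁ := cm d.z_cen d.w_mem
  have hz2 : Commute ((w₁ * w₂) ^ 2 ^ (n - 1)) w₂ := cm d.z_cen (mem_sup_right (mem_zpowers _))
  have h4 := h3.eq_of_comm hG h1 (hz1.mul_left (Commute.refl _))
  have h5 : (w₁ * w₂) ^ 2 ^ (n - 1) ∈ zpowers r ⊔ zpowers w₁ := by
    have := mul_mem (h4 ▸ mem_sup_right (mem_zpowers _) :
      (w₁ * w₂) ^ 2 ^ (n - 1) * w₁ ∈ zpowers r ⊔ zpowers w₁)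
      (inv_mem (mem_sup_right (mem_zpowers w₁)))
    rwa [mul_inv_cancel_right] at this
  rcases h1.mem_iff h5 with e | e | e | e
  · exact absurd e d.z_ne
  · exact e
  · exact absurd (e ▸ hz2) hc
  · rw [e] at hz2
    have := hz2.mul_left h2.comm_r.symm.inv_left
    rw [mul_inv_cancel_right] at this
    exact absurd this hc

theorem exists_norm {D D₁ : Subgroup G} (hD : IsPGroup 2 D) {I : G → Prop} (h1 : ∀ w, I w → w ∈ D)
    (h2 : ∀ w, I w → ∀ t ∈ D, I (t * w * t⁻¹)) (h3 : I w₁) (h4 : I w₂)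
    (e : zpowers w₁ ⊔ zpowers w₂ = D₁) (h5 : I w) (h6 : w ∉ D₁) :
    ∃ w, I w ∧ w ∉ D₁ ∧ w ∈ normalizer (D₁ : Set G) := by
  by_cases hN : D ≤ normalizer (D₁ : Set G)
  · exact ⟨w, h5, h6, hN (h1 w h5)⟩
  obtain ⟨x, hx, hx1, hx2⟩ := SetA.exists_norm hD
    (lt_of_le_of_ne (inf_le_left : D ⊓ normalizer (D₁ : Set G) ≤ D) fun e1 => hN (e1 ▸ inf_le_right))
  have hle : D₁ ≤ D ⊓ normalizer (D₁ : Set G) :=
    le_inf (e ▸ sup_le (zpowers_le.2 (h1 _ h3)) (zpowers_le.2 (h1 _ h4))) le_normalizer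
  have m1 : w₁ ∈ D₁ := e ▸ mem_sup_left (mem_zpowers _)
  have m2 : w₂ ∈ D₁ := e ▸ mem_sup_right (mem_zpowers _)
  by_cases a1 : x * w₁ * x⁻¹ ∈ D₁
  · by_cases a2 : x * w₂ * x⁻¹ ∈ D₁
    · refine absurd ⟨hx, mem_normalizer_of_conjS_le ?_⟩ hx2
      conv_lhs => rw [← e, conjS_sup, conjS_zp, conjS_zp]
      exact sup_le (zpowers_le.2 a1) (zpowers_le.2 a2)
    · exact ⟨_, h2 _ h4 x hx, a2, (LAE.conj_mem_of_mem_normalizer hx1 (hle m2)).2⟩
  · exact ⟨_, h2 _ h3 x hx, a1, (LAE.conj_mem_of_mem_normalizer hx1 (hle m1)).2⟩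

/-- A block normalizing a four-group of a dihedral group of blocks lies in it. -/
theorem mem_of_norm (hG : St G) {D : Subgroup G} {ρ : G} {n : ℕ} (d : Dih D ρ w₁ n)
    (hz : ρ ^ 2 ^ (n - 1) = r) (hI : ∀ i : ℤ, II u r (ρ ^ i * w₁)) (h : II u r w)
    (hn : w ∈ normalizer ((zpowers r ⊔ zpowers w₁ : Subgroup G) : Set G)) : w ∈ D := by
  have h1 : II u r w₁ := by simpa using hI 0
  have hr : r ∈ D := hz ▸ pow_mem d.ρ_mem _
  have hle : ∀ i : ℤ, zpowers r ⊔ zpowers (ρ ^ i * w₁) ≤ D := fun i =>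
    sup_le (zpowers_le.2 hr) (zpowers_le.2 (d.refl_mem i))
  have hle0 : zpowers r ⊔ zpowers w₁ ≤ D := by simpa using hle 0
  obtain ⟨L, L', a, e, hw, hw', e1⟩ := h1.ex
  have nr : r ∈ normalizer (wA L : Set G) := le_normalizer (a.pair.r_mem e).1
  have mw : w ∈ zpowers r ⊔ zpowers w := mem_sup_right (mem_zpowers w)
  rcases a.eq_of_norm hG e h.1 (sup_le (zpowers_le.2 nr) (zpowers_le.2 (e1 ▸ hn))) with e2 | e2
  · exact hle0 (e1 ▸ e2 ▸ mw)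
  have hk : (2 : ℤ) * ((2 ^ (n - 2) : ℕ) : ℤ) = ((2 ^ (n - 1) : ℕ) : ℤ) := by
    have := d.two
    rw [show n - 1 = n - 2 + 1 by omega, pow_succ]
    push_cast
    ring
  generalize ((2 ^ (n - 2) : ℕ) : ℤ) = k at hk
  have e3 : ρ ^ k * w₁ * w₁ * (ρ ^ k * w₁)⁻¹ = r * w₁ := by
    have := d.conj_refl 0 k
    rw [zpow_zero, one_mul, add_zero, hk, zpow_natCast, hz] at this
    rw [← this]; group
  have hs : ρ ^ k * w₁ ∈ normalizer (wA L : Set G) := by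
    refine mem_normalizer_of_conjS_le ?_
    conv_lhs => rw [e1, conjS_sup, conjS_zp, conjS_zp, e3, conj_eq (hI k).comm_r]
    exact sup_le (zpowers_le.2 (a.pair.r_mem e).1) (zpowers_le.2 (mul_mem (a.pair.r_mem e).1 hw))
  have ms : ρ ^ k * w₁ ∈ zpowers r ⊔ zpowers (ρ ^ k * w₁) := mem_sup_right (mem_zpowers _)
  rcases a.eq_of_norm hG e (hI k).1 (sup_le (zpowers_le.2 nr) (zpowers_le.2 hs)) with e4 | e4
  · rw [conj_eq (cm (a.pair.W_cen2 (e4 ▸ ms)) hw)] at e3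
    exact absurd (by simpa using e3.symm) (a.pair.r_ne e)
  · exact hle k (e4 ▸ e2 ▸ mw)

end T2

open T2

theorem Ad.dih (hG : St G) (h : Ad 2 u L L') (e : Rg L L' = zpowers r) :
    ∃ ρ w n, Dih (Dr 2 u (zpowers r)) ρ w n ∧ ρ ^ 2 ^ (n - 1) = r ∧
      ∀ i : ℤ, Bk u r (zpowers r ⊔ zpowers (ρ ^ i * w)) := by
  have hD : IsPGroup 2 (Dr 2 u (zpowers r)) := (pg_Tt u).to_le Dr_le_T
  obtain ⟨⟨w₁, w₂⟩, ⟨h1, h2, hc⟩, hmax⟩ := Set.exists_max_image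
    {p : G × G | II u r p.1 ∧ II u r p.2 ∧ ¬ Commute p.1 p.2} (fun p => orderOf (p.1 * p.2))
    (Set.toFinite _) (by
      obtain ⟨a, ha, ha'⟩ := h.pair.exists_w2
      obtain ⟨b, hb, hb'⟩ := h.pair.symm.exists_w2
      refine ⟨(a, b), II.of_mem h e ha ha', II.of_mem h.symm ((Rg_comm L' L).trans e) hb hb',
        fun hc => hb' ⟨hb, h.pair.mem_of_commute ha ha' (mem_sup_right hb) hc⟩⟩)
  have hle : zpowers w₁ ⊔ zpowers w₂ ≤ Dr 2 u (zpowers r) :=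
    sup_le (zpowers_le.2 h1.mem) (zpowers_le.2 h2.mem)
  obtain ⟨n, d⟩ := dih_of h1.sq h2.sq hc (hD.to_le hle)
  obtain ⟨hz, hI⟩ := dih_facts hG h1 h2 d hc
  have all : ∀ w, II u r w → w ∈ zpowers w₁ ⊔ zpowers w₂ := fun w hw => by
    by_contra hn
    obtain ⟨t, ht, ht1, ht2⟩ := exists_norm hD (I := II u r) (fun _ h => h.mem)
      (fun _ h _ ht => h.conj ht) h1 h2 rfl hw hn
    rcases d.aut ht.sq ht2 with ⟨i, hi⟩ | ⟨d', -⟩
    · refine ht1 (mem_of_norm hG (d.refl i) hz (fun j => ?_) ht (hz ▸ hi))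
      rw [← mul_assoc, ← zpow_add]
      exact hI _
    · have hc' : ¬ Commute t w₁ := fun hc' => by
        have h3 : (t * w₁) ^ 2 = 1 := by rw [hc'.mul_pow, sq, sq, ht.sq, h1.sq, one_mul]
        have h4 := orderOf_dvd_of_pow_eq_one h3
        rw [d'.ord] at h4
        have h5 := Nat.le_of_dvd two_pos h4
        have := d.two
        have : 2 ^ 2 ≤ 2 ^ (n + 1) := Nat.pow_le_pow_right two_pos (by omega)
        omega
      have h3 := hmax (t, w₁) ⟨ht, h1, hc'⟩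
      simp only [d'.ord, d.ord] at h3
      have : 0 < 2 ^ n := by positivity
      rw [pow_succ] at h3
      omega
  have e1 : zpowers w₁ ⊔ zpowers w₂ = Dr 2 u (zpowers r) := by
    refine le_antisymm hle (Dr_le_iff.2 fun L₂ L₂' a e2 => ?_)
    have k : ∀ {L₂ L₂' : Subgroup G}, Ad 2 u L₂ L₂' → Rg L₂ L₂' = zpowers r →
        wA L₂ ≤ zpowers w₁ ⊔ zpowers w₂ := fun a e2 => by
      obtain ⟨b, hb, hb'⟩ := a.pair.exists_w2
      refine a.pair.W_le2 hb hb' ?_ (all b (II.of_mem a e2 hb hb'))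
      rw [e2, zpowers_le, ← hz]
      exact pow_mem d.ρ_mem _
    exact sup_le (k a e2) (k a.symm ((Rg_comm _ _).trans e2))
  exact ⟨_, _, n, e1 ▸ d, hz, fun i => (hI i).1⟩

namespace T2

theorem comm_of_norm (hG : St G) {L₂ L₂' : Subgroup G} {r₂ : G} (h : Ad 2 u L L')
    (e : Rg L L' = zpowers r) (h2 : Ad 2 u L₂ L₂') (e2 : Rg L₂ L₂' = zpowers r₂) (hne : r₂ ≠ r)
    (n1 : Dr 2 u (zpowers r) ≤ normalizer (Dr 2 u (zpowers r₂) : Set G))
    (n2 : Dr 2 u (zpowers r₂) ≤ normalizer (Dr 2 u (zpowers r) : Set G)) :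
    ⁅Kg L L', Kg L₂ L₂'⁆ = ⊥ := by
  obtain ⟨ρ, w, n, d, hz, -⟩ := h.dih hG e
  obtain ⟨ρ₂, w₂, n₂, d₂, hz₂, -⟩ := h2.dih hG e2
  have h0 : Dr 2 u (zpowers r) ⊓ Dr 2 u (zpowers r₂) = ⊥ := by
    by_contra h0
    have h3 := d₂.z_mem inf_le_right h0 (le_normalizer_inf n2 le_normalizer)
    rw [hz₂] at h3
    have h4 : r₂ ∈ cen (Dr 2 u (zpowers r)) (Dr 2 u (zpowers r)) :=
      ⟨h3.1, mc fun x hx => hz₂ ▸ (d₂.norm_z (n1 hx)).symm⟩
    rw [d.cen_eq, hz, ← e, h.pair.mem_R e] at h4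
    exact h4.elim (h2.pair.r_ne e2) hne
  refine h.comm hG h2 (eq_bot_iff.2 ((commutator_mono (h.le_Dr e) (h2.le_Dr e2)).trans ?_))
  rw [← h0]
  exact le_inf (commutator_le_left_of_le_normalizer n2) (commutator_le_right_of_le_normalizer n1)

theorem not_comm (h : Ad 2 u L L') (hy : Cl y) :
    ⁅Kg L L', Kg (conjS y L) (conjS y L')⁆ ≠ ⊥ := fun h0 => by
  refine hy.diag h.pair.atom (eq_bot_iff.2 ?_)
  rw [← h0]
  exact commutator_mono h.pair.L_le_K (h.pair.conj y).L_le_K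

end T2

theorem mut_two (hG : St G) : Mut G 2 := by
  intro u L₁ L₁' L₂ L₂' h1 h2 hne
  obtain ⟨r₁, e1⟩ := h1.pair.exists_r
  obtain ⟨r₂, e2⟩ := h2.pair.exists_r
  have conj : ∀ {L L' : Subgroup G} {r t : G}, Ad 2 u L L' → Rg L L' = zpowers r → t ∈ Tt u →
      Ad 2 u (conjS t L) (conjS t L') ∧ Rg (conjS t L) (conjS t L') = zpowers (t * r * t⁻¹) ∧
        conjS t (Dr 2 u (zpowers r)) = Dr 2 u (zpowers (t * r * t⁻¹)) := fun a e ht =>
    ⟨a.conj_of_comm (comm_of_mem_Tt ht), by rw [← conjS_Rg, e, conjS_zp], by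
      rw [conjS_Dr, conjS_zp, conj_eq (comm_of_mem_Tt ht).symm]⟩
  have key : ∀ {U V : Subgroup G},
      U ∈ {X | ∃ L L' r, Ad 2 u L L' ∧ Rg L L' = zpowers r ∧ X = Dr 2 u (zpowers r)} →
      V ∈ {X | ∃ L L' r, Ad 2 u L L' ∧ Rg L L' = zpowers r ∧ X = Dr 2 u (zpowers r)} →
      U ≤ normalizer (V : Set G) := by
    refine delta (pg_Tt u) ?_ ?_ ?_
    · rintro _ ⟨L, L', r, -, -, rfl⟩
      exact Dr_le_T
    · rintro _ ⟨L, L', r, a, e, rfl⟩ t ht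
      obtain ⟨a', e', e''⟩ := conj a e ht
      exact ⟨_, _, _, a', e', e''⟩
    · rintro Δ hΔ hn hc _ ⟨L, L', r, -, -, rfl⟩ hU V hV
      obtain ⟨L₃, L₃', s, b, f, rfl⟩ := hΔ hV
      refine Dr_le_iff.2 fun L₄ L₄' a e => a.gen' fun y hy hcl => ?_
      have hyT : y ∈ Tt u := sup_le a.le_T (zpowers_le.2 a.cl.mem) hy
      have hu : u ∈ normalizer ((sSup Δ : Subgroup G) : Set G) := by
        refine centralizer_le_normalizer _ (mc fun x hx => comm_of_mem_Tt ((sSup_le fun X hX => ?_ :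
          sSup Δ ≤ Tt u) hx))
        obtain ⟨_, _, _, -, -, rfl⟩ := hΔ hX
        exact Dr_le_T
      have hy2 := hc _ hV y hyT (sup_le ((a.le_Dr e).trans hU) (zpowers_le.2 hu) hy)
      obtain ⟨b', f', f''⟩ := conj b f hyT
      by_cases hs : y * s * y⁻¹ = s
      · rw [mem_normalizer_iff_conjS, f'', hs]
      · rw [f''] at hy2
        exact absurd (comm_of_norm hG b f b' f' hs (hn _ hV _ hy2) (hn _ hy2 _ hV))
          (not_comm b hcl)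
  refine comm_of_norm hG h1 e1 h2 e2 (fun e3 => hne (by rw [e1, e2, e3]))
    (key ⟨_, _, _, h1, e1, rfl⟩ ⟨_, _, _, h2, e2, rfl⟩)
    (key ⟨_, _, _, h2, e2, rfl⟩ ⟨_, _, _, h1, e1, rfl⟩)

theorem Ad.comm_r (hG : St G) (h : Ad 2 u L L') (e : Rg L L' = zpowers r) (hy : Cl y)
    (hc : Commute u y) : Commute r y := by
  by_contra hn
  refine not_comm h hy (mut_two hG u _ _ _ _ h (h.conj_of_comm hc) fun e1 => hn ?_)
  have h1 : y * r * y⁻¹ ∈ Rg L L' := by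
    rw [e1, ← conjS_Rg]
    exact conj_mem_conjS.2 (h.pair.r_mem e)
  exact (cm_of_conj (((h.pair.mem_R e).1 h1).resolve_left fun e2 =>
    h.pair.r_ne e (conj_eq_one_iff.1 e2))).symm

end CfsgLib.Baum
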