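import Mathlib
import Cfsg.Agent.Lib.Baum.Two2

/-! The field of order two: involutions normalizing a block. -/

set_option autoImplicit false
set_option linter.unusedSectionVars false

namespace CfsgLib.Baum

open Subgroup Cfsg CfsgLib.LAE CfsgLib.PLocal CfsgLib.Push CfsgLib.BHS CfsgLib.ZJ CfsgLib.SL2
  CfsgLib.Blocks CfsgLib.LocStr CfsgLib.CGT2
open scoped commutatorElement


variable {G : Type*} [Group G] [Finite G]

variable {u r y k z : G} {L L' V : Subgroup G}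

open T1

theorem Ad.cen_Dr_U (hG : St G) (h : Ad 2 u L L') (e : Rg L L' = zpowers r) :
    cen (Dr 2 u (zpowers r)) (Ug L L') ≤ zpowers r := by
  obtain ⟨ρ, w, n, d, hz, -⟩ := h.dih hG e
  obtain ⟨a, ha, ha'⟩ := h.pair.exists_w2
  have haU : a ∈ Ug L L' := mem_sup_left ha
  rcases d.invol (h.le_Dr e haU) (h.pair.sq_W2 ha) with e1 | e1 | ⟨i, e1⟩
  · exact absurd (e1 ▸ one_mem _) ha'
  · exact absurd (e1 ▸ hz ▸ h.pair.r_mem e) ha'
  · intro x hx
    have h1 := (d.refl i).cen_w hx.1 (e1 ▸ (cm hx.2 haU).symm)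
    rw [hz, ← e1, ← h.pair.W_eq e ha ha'] at h1
    rw [← e, ← h.pair.R_eq]
    exact ⟨h1, hx.2⟩

theorem Ad.cent (hG : St G) (h : Ad 2 u L L') (e : Rg L L' = zpowers r) (hy : Cl y)
    (hc : Commute u y) (hU : Ug L L' ≤ centralizer ({y} : Set G)) :
    y * r ∈ centralizer (Kr 2 u (zpowers r) : Set G) := by
  have hr : Commute r y := mc1.1 (hU (mem_sup_left (h.pair.r_mem e).1))
  have hD : y ∈ centralizer (Dr 2 u (zpowers r) : Set G) := by
    by_contra hn
    obtain ⟨t, -, e1⟩ := exists_conj_z ((pg_Tt u).to_le Dr_le_T) (a := y)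
      (by rw [mem_normalizer_iff_conjS, conjS_Dr, conjS_zp, conj_eq hc.symm, conj_eq hr.symm]) hn
      (h.le_Dr e) (mc fun b hb => (mc1.1 (hU hb)).symm) (h.pair.r_sq e) (h.cen_Dr_U hG e)
    have h1 := hy.conj t
    rw [e1, hr.eq] at h1
    exact h1.not_le_atom h.pair.atom fun l hl =>
      mc1.2 (cm ((h.transfer hG hy hc hU).mul_r e) (h.pair.L_le_K hl)).symm
  have : Kr 2 u (zpowers r) ≤ centralizer ({y * r} : Set G) :=
    Kr_le_iff.2 fun L₂ L₂' a e2 x hx => mc1.2 (cm ((a.transfer hG hy hc fun b hb =>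
      mc1.2 (cm hD (a.le_Dr e2 hb)).symm).mul_r e2) hx).symm
  exact mc fun x hx => (mc1.1 (this hx)).symm

theorem Ad.pres1 (hG : St G) (h : Ad 2 u L L') (e : Rg L L' = zpowers r) (hy : Cl y)
    (hc : Commute u y) {b : G} (hb : b ∈ wA L) (h1 : b * y ∈ centralizer (L : Set G)) :
    ∃ e ∈ eA L, Commute u (e * y * e⁻¹) ∧
      e * y * e⁻¹ * r ∈ centralizer (Kr 2 u (zpowers r) : Set G) := by
  have p := h.pair
  have hb1 : b ≠ 1 := fun e1 => by
    rw [e1, one_mul] at h1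
    exact hy.not_le_atom p.atom fun l hl => mc1.2 (cm h1 hl).symm
  obtain ⟨k, hk, e1⟩ := p.conj_r e hb hb1
  have e2 : k * y * k⁻¹ = r * (b * y) := by
    calc k * y * k⁻¹ = (k * b * k⁻¹)⁻¹ * (k * (b * y) * k⁻¹) := by group
      _ = _ := by rw [e1, conj_eq (cm h1 (p.E_le2 hk)).symm, p.inv_W2 (p.r_mem e).1]
  have h2 : Commute u (k * y * k⁻¹) := by
    rw [e2]
    exact (h.comm_U (mem_sup_left (p.r_mem e).1)).mul_right
      ((h.comm_U (mem_sup_left hb)).mul_right hc)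
  refine ⟨k, hk, h2, h.cent hG e (hy.conj k) h2 fun x hx => mc1.2 ?_⟩
  rw [e2]
  exact (cm (p.R_le_cen (p.r_mem e)) hx).symm.mul_right (cm h1 (p.U_le hx)).symm

theorem Bk.pres (hG : St G) (h : Bk u r V) (hy : Cl y) (hc : Commute u y)
    (hn : y ∈ normalizer (V : Set G)) :
    ∃ L L', Ad 2 u L L' ∧ Rg L L' = zpowers r ∧ ∃ e ∈ eA L, Commute u (e * y * e⁻¹) ∧
      e * y * e⁻¹ * r ∈ centralizer (Kr 2 u (zpowers r) : Set G) := by
  obtain ⟨L, L', h, rfl, e⟩ := h
  have hT : y ∈ Tt u := h.cl.mem_Tt_of_sq hy.sq hc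
  obtain ⟨b, hb | hb, h1⟩ := h.invol_split2 hG hT hy.sq hn
  · exact ⟨L, L', h, e, h.pres1 hG e hy hc hb h1⟩
  · have h2 : y ∈ centralizer (wA L' : Set G) := by
      simpa using mul_mem (inv_mem (h.pair.symm.W_cen2 hb))
        (centralizer_anti (le_sup_right.trans h.pair.U_le) h1)
    obtain ⟨b', hb', h3⟩ := h.symm.cen_split2 hG hT h2
    have e' := (Rg_comm L' L).trans e
    exact ⟨L', L, h.symm, e', h.symm.pres1 hG e' hy hc hb' h3⟩

theorem Ad.r_mem_Kr (h : Ad 2 u L L') (e : Rg L L' = zpowers r) : r ∈ Kr 2 u (zpowers r) :=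
  h.le_Kr e (h.pair.U_le_K (mem_sup_left (h.pair.r_mem e).1))

theorem Ad.conj_u (h : Ad 2 u L L') (e : Rg L L' = zpowers r) (hk : k ∈ Kr 2 u (zpowers r)) :
    k * u * k⁻¹ = u * r * (k * r * k⁻¹) := by
  calc k * u * k⁻¹ = k * (u * (r * r)) * k⁻¹ := by rw [h.pair.r_sq e, mul_one]
    _ = k * (u * r) * k⁻¹ * (k * r * k⁻¹) := by group
    _ = _ := by rw [conj_eq (cm (mul_r_Kr u r) hk).symm]

theorem Ad.zlem (hG : St G) (h : Ad 2 u L L') (e : Rg L L' = zpowers r)
    (hk : k ∈ Kr 2 u (zpowers r)) (hz : z ∈ centralizer (Kr 2 u (zpowers r) : Set G))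
    (h1 : k * r * k⁻¹ = r * z) : z = 1 := by
  have p := h.pair
  have hr := h.r_mem_Kr e
  have e1 : k * u * k⁻¹ = u * z := by
    rw [h.conj_u e hk, h1, mul_assoc, ← mul_assoc r, p.r_sq e, one_mul]
  have hzK : z ∈ Kr 2 u (zpowers r) := by
    have := mul_mem (inv_mem hr) (mul_mem (mul_mem hk hr) (inv_mem hk))
    rwa [h1, inv_mul_cancel_left] at this
  have huz : Commute u z := by
    have := (cm (mul_r_Kr u r) hzK).mul_left (cm hz hr).symm.inv_left
    rwa [mul_inv_cancel_right] at this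
  have a : Ad 2 (k * u * k⁻¹) L L' := by
    refine h.transfer hG (h.cl.conj k) (e1 ▸ (Commute.refl u).mul_right huz) fun b hb => mc1.2 ?_
    rw [e1]
    exact (h.comm_U hb).symm.mul_right (cm hz (h.le_Kr e (p.U_le_K hb))).symm
  by_contra hne
  have h2 : Kr 2 (k * u * k⁻¹) (zpowers (k * r * k⁻¹)) ≤ centralizer (Kg L L' : Set G) := by
    refine Kr_le_iff.2 fun L₂ L₂' b e2 => commutator_eq_bot_iff_le_centralizer.1
      (mut_two hG _ _ _ _ _ b a fun e3 => ?_)
    rcases (p.mem_R e).1 (e3 ▸ b.pair.r_mem e2) with e4 | e4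
    · exact p.r_ne e (conj_eq_one_iff.1 e4)
    · rw [h1] at e4
      exact hne (by simpa using e4)
  rw [← conjS_zp, ← conjS_Kr, conjS_eq_of_mem hk] at h2
  exact p.comm_ne (commutator_eq_bot_iff_le_centralizer.2 ((h.le_Kr e).trans h2))

/-- A conjugate of `r` that commutes with `r` and normalizes a block lies in a block. -/
theorem Bk.of_pres (hG : St G) (h : Bk u r V) (hk : k ∈ Kr 2 u (zpowers r))
    (hc : Commute r (k * r * k⁻¹)) (hne : k * r * k⁻¹ ≠ r)
    (hn : k * r * k⁻¹ ∈ normalizer (V : Set G)) :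
    Bk u r (zpowers r ⊔ zpowers (k * r * k⁻¹)) := by
  have h' := h
  obtain ⟨L, L', a, -, e⟩ := h'
  have hr := a.r_mem_Kr e
  have hc0 := mul_r_Kr u r
  have h3 : k * r * k⁻¹ ∈ Kr 2 u (zpowers r) := mul_mem (mul_mem hk hr) (inv_mem hk)
  have hur : Commute u r := a.comm_U (mem_sup_left (a.pair.r_mem e).1)
  have hu3 : Commute u (k * r * k⁻¹) := by
    have := (cm hc0 h3).mul_left hc.inv_left
    rwa [mul_inv_cancel_right] at this
  obtain ⟨L₁, L₁', b, e1, f, hf, -, h4⟩ := h.pres hG (a.cl.conj k)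
    (by rw [a.conj_u e hk]; exact ((Commute.refl u).mul_right hur).mul_right hu3)
    (by
      rw [a.conj_u e hk]
      exact mul_mem (centralizer_le_normalizer _
        (centralizer_anti (h.le_Dr.trans Dr_le_Kr) hc0)) hn)
  have hfK : f ∈ Kr 2 u (zpowers r) := b.le_Kr e1 (mem_sup_left hf)
  have h5 : f * k * r * (f * k)⁻¹ * r ∈ centralizer (Kr 2 u (zpowers r) : Set G) := by
    have := mul_mem (inv_mem hc0) h4
    rw [show f * (k * u * k⁻¹) * f⁻¹ = f * k * u * (f * k)⁻¹ by group,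
      a.conj_u e (mul_mem hfK hk), mul_assoc (u * r), inv_mul_cancel_left] at this
    exact this
  have h6 := a.zlem hG e (mul_mem hfK hk) h5 (by
    rw [(cm h5 hr).symm.eq, mul_assoc _ r r, a.pair.r_sq e, mul_one])
  have h7 : k * r * k⁻¹ = f⁻¹ * r * f := by
    have := (inv_eq_of_mul_eq_one_left h6).symm
    rw [a.pair.inv_W2 (a.pair.r_mem e).1] at this
    calc k * r * k⁻¹ = f⁻¹ * (f * k * r * (f * k)⁻¹) * f := by group
      _ = _ := by rw [this]
  have h8 : k * r * k⁻¹ ∈ wA L₁ := h7 ▸ conj_inv_mem_of_mem_normalizer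
    (b.pair.normW (b.pair.E_le2 hf)) (b.pair.r_mem e1).1
  rw [← b.pair.W_eq e1 h8 fun h9 => ((b.pair.mem_R e1).1 h9).elim
    (fun e4 => a.pair.r_ne e (conj_eq_one_iff.1 e4)) hne]
  exact b.bk e1

/-- The centralizer of `D` in `Tt u`, given representatives of the orbits on the blocks. -/
theorem cen_Kr_of {o : G} (hG : St G) {X : Subgroup G} (hX : X ≤ centralizer ({u} : Set G))
    (ho : o ∈ centralizer (X : Set G)) (h : Ad 2 u L L') (ho' : o ∈ centralizer (L : Set G))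
    {L₂ L₂' : Subgroup G} (h2 : Ad 2 u L₂ L₂') {s : G} (hs : s ∈ X) (e : conjS s (wA L) = wA L₂) :
    o ∈ centralizer (L₂ : Set G) := by
  have h3 := ((h.conj_of_comm (mc1.1 (hX hs)).symm).partner hG h2 (by rw [← e, conjS_wA])).1
  rw [h3, ← conjS_centralizer, ← conj_eq (cm ho hs).symm]
  exact conj_mem_conjS.2 ho'

end CfsgLib.Baum
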