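import Mathlib
import Cfsg.Agent.Lib.Baum.Two3

/-! The field of order two: no swaps. -/

set_option autoImplicit false

namespace CfsgLib.Baum

open Subgroup Cfsg CfsgLib.LAE CfsgLib.PLocal CfsgLib.Push CfsgLib.BHS CfsgLib.ZJ CfsgLib.SL2
  CfsgLib.Blocks CfsgLib.LocStr CfsgLib.CGT2
open scoped commutatorElement


variable {G : Type*} [Group G] [Finite G]

variable {u r y k : G} {L L' : Subgroup G}

open T1

namespace T4

theorem nK {g : G} (h1 : Commute g u) (h2 : Commute g r) :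
    g ∈ normalizer (Kr 2 u (zpowers r) : Set G) := by
  rw [mem_normalizer_iff_conjS, conjS_Kr, conjS_zp, conj_eq h1, conj_eq h2]

theorem nD {g : G} (h1 : Commute g u) (h2 : Commute g r) :
    g ∈ normalizer (Dr 2 u (zpowers r) : Set G) := by
  rw [mem_normalizer_iff_conjS, conjS_Dr, conjS_zp, conj_eq h1, conj_eq h2]

theorem cur (h : Ad 2 u L L') (e : Rg L L' = zpowers r) : Commute u r :=
  h.comm_U (mem_sup_left (h.pair.r_mem e).1)

theorem rD (h : Ad 2 u L L') (e : Rg L L' = zpowers r) : r ∈ Dr 2 u (zpowers r) :=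
  h.le_Dr e (mem_sup_left (h.pair.r_mem e).1)

theorem cu {g : G} (h1 : Commute g (u * r)) (h2 : Commute g r) : Commute g u := by
  simpa using h1.mul_right h2.inv_right

theorem cuK {g : G} (hg : g ∈ Kr 2 u (zpowers r)) (h2 : Commute g r) : Commute g u :=
  cu (cm (mul_r_Kr u r) hg).symm h2

omit [Finite G] in
theorem dih_t {a x z : G} (h1 : x * a * x⁻¹ = a⁻¹) (h2 : a ^ 4 = z) (h3 : z * z = 1) :
    a * x * a⁻¹ * x * (a * x * a⁻¹)⁻¹ = z * x ∧ a⁻¹ * x * a = z * (a * x * a⁻¹) := by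
  have e1 : x * a⁻¹ * x⁻¹ = a := by rw [← conj_inv, h1, inv_inv]
  have e2 : a * x * a⁻¹ = a * a * x := by
    calc _ = a * (x * a⁻¹ * x⁻¹) * x := by group
      _ = _ := by rw [e1]
  rw [e2, ← h2]
  constructor
  · calc _ = a * a * (x * a⁻¹ * x⁻¹) * (x * a⁻¹ * x⁻¹) * x := by group
      _ = _ := by rw [e1]; simp only [pow_succ, pow_zero, one_mul]
  · calc _ = a⁻¹ * (x * a * x⁻¹) * x := by group
      _ = (a ^ 4 * a ^ 4) * (a⁻¹ * a⁻¹ * x) := by rw [h1, h2, h3, one_mul]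
      _ = _ := by simp only [pow_succ, pow_zero, one_mul, mul_assoc, mul_inv_cancel_left]

theorem dih_s {X : Subgroup G} {ρ x z : G} {m : ℕ} (d : Dih X ρ x (m + 3)) (hz : ρ ^ 2 ^ (m + 2) = z) :
    z ∈ centralizer (X : Set G) ∧ ∃ s ∈ X, s * x * s⁻¹ * x * (s * x * s⁻¹)⁻¹ = z * x ∧
      s⁻¹ * x * s = z * (s * x * s⁻¹) :=
  ⟨hz ▸ d.z_cen, ρ ^ 2 ^ m, pow_mem d.ρ_mem _, dih_t (by rw [← conj_pow, d.inv, inv_pow])
    (by rw [← pow_mul, ← hz, pow_add]; rfl) (hz ▸ d.z_sq)⟩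

theorem blk {ρ w : G} {n : ℕ} (d : Dih (Dr 2 u (zpowers r)) ρ w n) (hz : ρ ^ 2 ^ (n - 1) = r)
    (h : Ad 2 u L L') (e : Rg L L' = zpowers r) : ∃ i : ℤ, wA L = zpowers r ⊔ zpowers (ρ ^ i * w) := by
  obtain ⟨x, h1, h2⟩ := h.pair.exists_w2
  rcases d.invol (h.le_Dr e (mem_sup_left h1)) (h.pair.sq_W2 h1) with a | a | ⟨i, a⟩
  · exact (h2 (a ▸ one_mem _)).elim
  · exact (h2 (by rw [a, hz]; exact h.pair.r_mem e)).elim
  · exact ⟨i, a ▸ h.pair.W_eq e h1 h2⟩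

theorem cen_K (hG : St G) {ρ w o : G} {n : ℕ} (d : Dih (Dr 2 u (zpowers r)) ρ w n)
    (hz : ρ ^ 2 ^ (n - 1) = r) {X : Subgroup G} (hX : X ≤ centralizer ({u} : Set G))
    (hX' : r ∈ centralizer (X : Set G)) (ho : o ∈ centralizer (X : Set G))
    (h : ∀ i : ℤ, ∃ L L', Ad 2 u L L' ∧ o ∈ centralizer (L : Set G) ∧ ∃ x,
      wA L = zpowers r ⊔ zpowers x ∧ ∃ s ∈ X, s * x * s⁻¹ = ρ ^ i * w) :
    o ∈ centralizer (Kr 2 u (zpowers r) : Set G) := by
  have key : ∀ L L', Ad 2 u L L' → Rg L L' = zpowers r → eA L ≤ centralizer (zpowers o : Set G) := by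
    intro L₂ L₂' h2 e2
    obtain ⟨i, hi⟩ := blk d hz h2 e2
    obtain ⟨L, L', a, b, x, c, s, hs, e⟩ := h i
    exact le_centralizer_iff.1 (zpowers_le.2 (centralizer_anti (pResOf_le _) (cen_Kr_of hG hX ho a b h2 hs
      (by rw [c, hi, conjS_sup, conjS_zp, conjS_zp, e, conj_eq (cm hX' hs).symm]))))
  exact zpowers_le.1 (le_centralizer_iff.1 (Kr_le_iff.2 fun L L' h2 e2 =>
    sup_le (key L L' h2 e2) (key L' L h2.symm (Rg_comm L L' ▸ e2))))

theorem side (hG : St G) (h : Ad 2 u L L') (e : Rg L L' = zpowers r) {x : G}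
    (hk : k ∈ Kr 2 u (zpowers r)) (hx : k * r * k⁻¹ = x) (hc : Commute r x) (hne : x ≠ r) :
    Bk u r (zpowers r ⊔ zpowers x) ∨ ∃ ρ m, Dih (Dr 2 u (zpowers r) ⊔ zpowers x) ρ x (m + 3) ∧
      ρ ^ 2 ^ (m + 2) = r ∧ cen (Tt u) (Dr 2 u (zpowers r) ⊔ zpowers x) ≤
        zpowers r ⊔ cen (Tt u) (Kr 2 u (zpowers r)) := by
  obtain ⟨ρ, w, n, d, hz, hb⟩ := h.dih hG e
  have xu : Commute x u := cuK (hx ▸ Cf.cjm (le_normalizer hk) (Dr_le_Kr (rD h e))) hc.symm
  have x2 : x * x = 1 := by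
    rw [← hx, show k * r * k⁻¹ * (k * r * k⁻¹) = k * (r * r) * k⁻¹ by group, h.pair.r_sq e]; group
  rcases d.aut x2 (nD xu hc.symm) with ⟨i, a⟩ | ⟨d', a, b⟩
  · subst hx
    exact Or.inl ((hb i).of_pres hG hk hc hne (hz ▸ a))
  obtain ⟨m, rfl⟩ : ∃ m, n = m + 2 := ⟨n - 2, by have := d.two; omega⟩
  refine Or.inr ⟨_, m, d', a.trans hz, fun o ho => ?_⟩
  obtain ⟨L₀, L₀', h0, e0, e1⟩ := hb 0
  obtain ⟨z, z1, z2⟩ := h0.split ho.1 (centralizer_anti ((h0.le_Dr e1).trans le_sup_left) ho.2)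
  have r1 : r ∈ centralizer ((Dr 2 u (zpowers r) ⊔ zpowers x : Subgroup G) : Set G) :=
    (dih_s d' (a.trans hz)).1
  rw [e1] at z1
  have := cen_K hG d hz (sup_le (Dr_le_T.trans (Tt_le u)) (zpowers_le.2 (mc1.2 xu))) r1
    (mul_mem ho.2 (zpowers_le.2 r1 z1)) fun i => ⟨L₀, L₀', h0, z2, w, by simpa using e0, b i⟩
  rw [sup_comm]
  simpa using mul_mem (mem_sup_left (S := cen (Tt u) (Kr 2 u (zpowers r)))
    ⟨mul_mem ho.1 (zpowers_le.2 (Dr_le_T (rD h e)) z1), this⟩) (mem_sup_right (inv_mem z1))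

end T4

open T4

theorem Ad.cfg (hG : St G) (h : Ad 2 u L L') (e : Rg L L' = zpowers r)
    (hk : k ∈ Kr 2 u (zpowers r)) (hc : Commute r (k * r * k⁻¹)) (hne : k * r * k⁻¹ ≠ r) :
    Bk u r (zpowers r ⊔ zpowers (k * r * k⁻¹)) := by
  have h3 := h.conj k
  have e3 : Rg (conjS k L) (conjS k L') = zpowers (k * r * k⁻¹) := by rw [← conjS_Rg, e, conjS_zp]
  have K3 : Kr 2 (k * u * k⁻¹) (zpowers (k * r * k⁻¹)) = Kr 2 u (zpowers r) := by
    rw [← conjS_zp, ← conjS_Kr, conjS_eq_of_mem hk]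
  have rK : r ∈ Kr 2 u (zpowers r) := Dr_le_Kr (rD h e)
  have c3 : k * u * k⁻¹ * (k * r * k⁻¹) = u * r := by
    rw [← conj_eq (cm (mul_r_Kr u r) hk).symm]; group
  generalize hx : k * r * k⁻¹ = x at *
  set K := Kr 2 u (zpowers r)
  have xK : x ∈ K := hx ▸ Cf.cjm (le_normalizer hk) rK
  have r2 := h.pair.r_sq e
  have x2 := h3.pair.r_sq e3
  have xu : Commute x u := cuK xK hc.symm
  rcases side hG h e hk hx hc hne with a | ⟨ρ, m, d, hz, hQ⟩
  · exact a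
  rcases side hG h3 e3 (K3.ge (inv_mem hk)) (x := r) (by rw [← hx]; group) hc.symm hne.symm with
    ⟨L₃, L₃', a, b, c⟩ | ⟨ρ', m', d', hz', -⟩
  · obtain ⟨g, g1, g2⟩ := a.pair.conj_r c (b.ge (mem_sup_right (mem_zpowers r))) (h.pair.r_ne e)
    have g3 : g⁻¹ * x * g⁻¹⁻¹ = r := by rw [← g2]; group
    have g4 : g⁻¹ * (k * u * k⁻¹) * g⁻¹⁻¹ = u := by
      have := conj_eq (cm (mul_r_Kr u r) (inv_mem (K3.le (a.le_Kr c (mem_sup_left g1))))).symm
      rw [← c3] at this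
      refine mul_right_cancel (b := r) ?_
      rw [← c3, ← this, ← g3]; group
    have := (a.bk c).conj g⁻¹
    rwa [g3, g4, mem_normalizer_iff_conjS.1 (a.pair.normW (inv_mem (pResOf_le _ g1))), b, sup_comm] at this
  obtain ⟨z1, s, s1, s2, s3⟩ := dih_s d hz
  obtain ⟨z2, s', s1', s2', -⟩ := dih_s d' hz'
  set X := Dr 2 u (zpowers r) ⊔ zpowers x
  have XK : X ≤ K := sup_le Dr_le_Kr (zpowers_le.2 xK)
  have XT : X ≤ Tt u := sup_le Dr_le_T (zpowers_le.2 (h.cl.mem_Tt_of_sq x2 xu.symm))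
  have tX : s * x * s⁻¹ ∈ X := Cf.cjm (le_normalizer s1) d.w_mem
  have tX' := Cf.cjm (le_normalizer s1') d'.w_mem
  have t2 : s * x * s⁻¹ * (s * x * s⁻¹) = 1 := by
    rw [show s * x * s⁻¹ * (s * x * s⁻¹) = s * (x * x) * s⁻¹ by group, x2]; group
  have t2' : s' * r * s'⁻¹ * (s' * r * s'⁻¹) = 1 := by
    rw [show s' * r * s'⁻¹ * (s' * r * s'⁻¹) = s' * (r * r) * s'⁻¹ by group, r2]; group
  have sV : conjS s (zpowers r ⊔ zpowers x) = zpowers r ⊔ zpowers (s * x * s⁻¹) := by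
    rw [conjS_sup, conjS_zp, conjS_zp, conj_eq (cm z1 s1).symm]
  generalize s * x * s⁻¹ = t at *
  generalize s' * r * s'⁻¹ = t' at *
  have tK' : t' ∈ K := K3.le (sup_le Dr_le_Kr (zpowers_le.2 (K3.ge rK)) tX')
  have tr := conj_eq (cm z1 tX).symm
  have tr' := conj_eq (cm z2 tX').symm
  obtain ⟨v1, v2⟩ := d.elem_four
  rw [show m + 3 - 1 = m + 2 from rfl, hz] at v1 v2
  set V := zpowers r ⊔ zpowers x
  have rV : r ∈ V := mem_sup_left (mem_zpowers r)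
  have xV : x ∈ V := mem_sup_right (mem_zpowers x)
  have VX : V ≤ X := sup_le (zpowers_le.2 (mem_sup_left (rD h e))) le_sup_right
  have nV : ∀ {g : G}, g * r * g⁻¹ ∈ V → g * x * g⁻¹ ∈ V → g ∈ normalizer (V : Set G) := fun a b =>
    mem_normalizer_of_conjS_le (by
      rw [conjS_sup, conjS_zp, conjS_zp]; exact sup_le (zpowers_le.2 a) (zpowers_le.2 b))
  set Q := cen (Tt u) V
  have nQ : ∀ {g : G}, g ∈ K → g ∈ normalizer (V : Set G) → g ∈ normalizer (Q : Set G) := fun {g} a b => by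
    refine h.cl.norm_Q V (norm_sup_zp b ?_)
    have : g * u * g⁻¹ * u⁻¹ = r * (g * r * g⁻¹)⁻¹ := by
      calc _ = u⁻¹ * (g * (u * r) * g⁻¹) * (g * r * g⁻¹)⁻¹ * ((g * r * g⁻¹) * ((g * (u * r) * g⁻¹)⁻¹ *
            u * (g * u * g⁻¹) * u⁻¹)) := by group
        _ = _ := by
          have c1 : Commute u (g * u * g⁻¹) := by
            have : g * u * g⁻¹ = u * r * (g * r * g⁻¹)⁻¹ := by
              rw [← conj_eq (cm (mul_r_Kr u r) a).symm]; group
            rw [this]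
            exact ((Commute.refl u).mul_right (cur h e)).mul_right
              (comm_of_mem_Tt (XT (VX (Cf.cjm b rV)))).inv_right
          rw [mul_assoc _ u, c1.eq, conj_eq (cm (mul_r_Kr u r) a).symm]
          have : g * u * g⁻¹ = u * r * (g * r * g⁻¹)⁻¹ := by
            rw [← conj_eq (cm (mul_r_Kr u r) a).symm]; group
          rw [this]; group
    rw [this]
    exact mul_mem rV (inv_mem (Cf.cjm b rV))
  have nt : t ∈ normalizer (V : Set G) := nV (tr.symm ▸ rV) (s2.symm ▸ mul_mem rV xV)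
  have nt' : t' ∈ normalizer (V : Set G) := nV (s2'.symm ▸ mul_mem xV rV) (tr'.symm ▸ xV)
  have δ1 : t * t' * r * (t * t')⁻¹ = x := by
    calc _ = t * (t' * r * t'⁻¹) * t⁻¹ := by group
      _ = t * x * t⁻¹ * (t * r * t⁻¹) := by rw [s2']; group
      _ = _ := by rw [s2, tr, hc.eq, mul_assoc, r2, mul_one]
  have δ2 : t * t' * x * (t * t')⁻¹ = r * x := by
    calc _ = t * (t' * x * t'⁻¹) * t⁻¹ := by group
      _ = _ := by rw [tr', s2]
  have δ3 : t * (t * t') * t⁻¹ = (t * t')⁻¹ := by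
    rw [← mul_assoc, t2, one_mul, mul_inv_rev, inv_eq_of_mul_eq_one_right t2']
  have δK : t * t' ∈ K := mul_mem (XK tX) tK'
  have δV : t * t' ∈ normalizer (V : Set G) := mul_mem nt nt'
  generalize t * t' = δ at *
  have δ4 : δ * (r * x) * δ⁻¹ = r := by
    calc _ = δ * r * δ⁻¹ * (δ * x * δ⁻¹) := by group
      _ = _ := by rw [δ1, δ2, hc.eq, ← mul_assoc, x2, one_mul]
  have cj : ∀ a : G, δ ^ 3 * a * (δ ^ 3)⁻¹ = δ * (δ * (δ * a * δ⁻¹) * δ⁻¹) * δ⁻¹ := fun a => by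
    simp only [pow_succ, pow_zero, one_mul]; group
  have δ5 : δ ^ 3 ∈ centralizer (V : Set G) := by
    rw [centralizer_sup, Cf.cent_zpowers, Cf.cent_zpowers]
    exact ⟨mc1.2 (cm_of_conj (by rw [cj, δ1, δ2, δ4])), mc1.2 (cm_of_conj (by rw [cj, δ2, δ4, δ1]))⟩
  obtain ⟨j, hj⟩ := exists_odd_pow G
  have od := hj δ
  have d1 : δ ^ 2 ^ j ∉ centralizer (V : Set G) := fun a => hne (by
    rw [← δ1]
    exact conj_eq (cm (mem_of_pow_mem_of_pow_mem (Nat.Coprime.pow_right j (by norm_num)) δ5 a) rV))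
  have d2 : (δ ^ 2 ^ j) ^ 3 ∈ centralizer (V : Set G) := by
    rw [← pow_mul, mul_comm, pow_mul]; exact pow_mem δ5 _
  have d3 : t * δ ^ 2 ^ j * t⁻¹ = (δ ^ 2 ^ j)⁻¹ := by rw [← conj_pow, δ3, inv_pow]
  have dK : δ ^ 2 ^ j ∈ K := pow_mem δK _
  have dV : δ ^ 2 ^ j ∈ normalizer (V : Set G) := pow_mem δV _
  generalize δ ^ 2 ^ j = a at *
  have pQ : IsPGroup 2 Q := (pg_Tt u).to_le inf_le_left
  have VQ : V ≤ Q := le_inf (VX.trans XT) (elem_cen v1)
  have Qu : ∀ o ∈ Q, Commute o u := fun o ho => (comm_of_mem_Tt ho.1).symm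
  have cV : cen (Tt u) K ≤ centralizer (V : Set G) := inf_le_right.trans (centralizer_anti (VX.trans XK))
  have aC : a ∈ centralizer (cen (Tt u) K : Set G) := le_centralizer_iff.1 inf_le_right dK
  obtain ⟨o, o1, o2⟩ := d.aut_cyc (Q := Q) (le_normalizer_sup (fun o ho => nD (Qu o ho) (cm ho.2 rV))
    (inf_le_right.trans ((centralizer_anti le_sup_right).trans (centralizer_le_normalizer _))))
    (fun o ho => mc1.2 (cm ho.2 xV)) (VQ xV)
  have q1 : ⁅Q, zpowers a⁆ ≤ V ⊔ cen (Tt u) K := odd_triv_of_cyc pQ (sup_le VQ (le_inf inf_le_left cV))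
    (le_normalizer_sup (inf_le_right.trans (centralizer_le_normalizer _))
      (le_normalizer_cen (inf_le_left.trans le_normalizer) fun o ho => nK (Qu o ho) (cm ho.2 rV)))
    od (nQ dK dV) (zpowers_le.1 (le_normalizer_sup (zpowers_le.2 dV)
      (zpowers_le.2 (centralizer_le_normalizer _ aC)))) o1
    (o2.trans (sup_le_sup_left (sup_le (le_sup_right.trans le_sup_left)
      (((inf_le_inf_right _ inf_le_left).trans hQ).trans (sup_le_sup_right le_sup_left _))) _))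
  have ra : pResOf 2 (zpowers a) = zpowers a := le_antisymm (pResOf_le _)
    (zpowers_le.2 (mem_pResOf (mem_zpowers a) (Nat.coprime_two_right.2 od)))
  have q2 : ⁅Q, zpowers a⁆ ≤ V := by
    have := commutator_pResOf_commutator' pQ (zpowers_le.2 (nQ dK dV))
    rw [ra] at this
    refine this.ge.trans ((commutator_mono q1 le_rfl).trans (commutator_sup_le le_normalizer
      (cV.trans (centralizer_le_normalizer _)) (commutator_le_left_of_le_normalizer (zpowers_le.2 dV)) ?_))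
    rw [commutator_eq_bot_iff_le_centralizer.2 (le_centralizer_iff.1 (zpowers_le.2 aC))]
    exact bot_le
  have o3 : Odd (orderOf (a ^ 3)) := od.of_dvd_nat (orderOf_pow_dvd 3)
  have a3 : a ^ 3 ∈ centralizer (Q : Set G) := pResOf_le_centralizer_of_le (R := zpowers (a ^ 3)) pQ
    (zpowers_le.2 (pow_mem (nQ dK dV) 3))
    ((commutator_mono le_rfl ((pResOf_le _).trans (zpowers_le.2 (pow_mem (mem_zpowers a) 3)))).trans q2)
    ((pResOf_le _).trans (zpowers_le.2 d2)) (mem_pResOf (mem_zpowers _) (Nat.coprime_two_right.2 o3))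
  have a4 : orderOf a = 3 := orderOf_eq_prime (hG.odd_eq_one h.cl (X := Q) inf_le_left (cen_anti VQ) o3
    (cm a3 ⟨h.cl.mem, mc fun v hv => comm_of_mem_Tt (XT (VX hv))⟩).symm a3)
    fun b => d1 (b ▸ one_mem _)
  have rE : r ∈ normalizer ((V ⊔ zpowers a : Subgroup G) : Set G) := le_normalizer (mem_sup_left rV)
  have tE : t ∈ normalizer ((V ⊔ zpowers a : Subgroup G) : Set G) := by
    rw [mem_normalizer_iff_conjS, conjS_sup, mem_normalizer_iff_conjS.1 nt, conjS_zp, d3, zpowers_inv]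
  have sX : conjS s V ≤ X := conjS_le_of_le_of_mem VX s1
  obtain ⟨L₁, L₁', p, p1, p2, p3, p4⟩ := isPair_two (V' := conjS s V) (d' := s * a * s⁻¹)
    ((pg_Tt u).to_le ((sup_le VX sX).trans XT)) v1 (elemAb_map v1 _) v2 (by rw [card_conjS, v2]) a4
    (a4 ▸ orderOf_injective (MulAut.conj s).toMonoidHom (MulAut.conj s).injective a) dV
    (by rw [← conjS_normalizer]; exact conj_mem_conjS.2 dV) d1
    (by rw [← conjS_centralizer]; exact fun b => d1 (conj_mem_conjS.1 b))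
    (by rw [sV]; exact sup_le (zpowers_le.2 rE) (zpowers_le.2 tE))
    (by
      rw [← conjS_zp, ← conjS_sup, ← conjS_normalizer, le_conjS_iff, conjS_sup, conjS_zp, conjS_zp,
        conj_eq (cm z1 (inv_mem s1)).symm, inv_inv, s3]
      exact sup_le (zpowers_le.2 rE) (zpowers_le.2 (mul_mem rE tE)))
    (fun b => h.pair.r_ne e (by
      have := conj_eq (cm (b xV) (sV.ge (mem_sup_right (mem_zpowers t)))).symm
      rwa [s2, mul_eq_right] at this))
  have uq : ⁅Q, V ⊔ zpowers a⁆ ≤ V := commutator_sup_le' le_normalizer (zpowers_le.2 dV)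
    (commutator_le_right_of_le_normalizer (inf_le_right.trans (centralizer_le_normalizer _))) q2
  refine ⟨L₁, L₁', ⟨p, h.cl, ?_, ?_, ?_⟩, p3, ?_⟩
  · rw [Ug, p3, p4]; exact (sup_le VX sX).trans (XT.trans (Tt_le u))
  · rw [p1, p3]; exact uq
  · rw [p2, p4, ← conjS_zp, ← conjS_sup, ← conjS_cen (le_normalizer (XT s1)), ← conjS_commutator]
    exact conjS_mono uq
  · obtain ⟨r', hr'⟩ := p.exists_r
    have : r ∈ Rg L₁ L₁' := by rw [Rg, p3, p4, sV]; exact ⟨rV, mem_sup_left (mem_zpowers r)⟩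
    rw [hr', ((p.mem_R hr').1 this).resolve_left (h.pair.r_ne e)]

theorem Ad.noswap (hG : St G) (h : Ad 2 u L L') (e : Rg L L' = zpowers r) (hy : Cl y)
    (hc : Commute u y) : ∃ V, Bk u r V ∧ y ∈ normalizer (V : Set G) := by
  have yr := h.comm_r hG e hy hc
  have r2 := h.pair.r_sq e
  set K := Kr 2 u (zpowers r)
  have rK : r ∈ K := Dr_le_Kr (rD h e)
  have LK : L ≤ K := h.pair.L_le_K.trans (h.le_Kr e)
  have A0 : ∀ k ∈ K, k * r * k⁻¹ ≠ r → Commute r (k * r * k⁻¹) → Commute y (k * r * k⁻¹) →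
      ∃ V, Bk u r V ∧ y ∈ normalizer (V : Set G) := fun k hk a b c =>
    ⟨_, h.cfg hG e hk b a, centralizer_le_normalizer _ (by
      rw [centralizer_sup, Cf.cent_zpowers, Cf.cent_zpowers]; exact ⟨mc1.2 yr.symm, mc1.2 c⟩)⟩
  have A : ∀ g ∈ K ⊔ zpowers y, g * r * g⁻¹ ≠ r → Commute y (g * r * g⁻¹) →
      ∃ V, Bk u r V ∧ y ∈ normalizer (V : Set G) := fun g hg a c => by
    obtain ⟨k, hk, z, hz, rfl⟩ :=
      (mem_sup_iff_of_right_le_normalizer (zpowers_le.2 (nK hc.symm yr.symm))).1 hg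
    have e1 : k * z * r * (k * z)⁻¹ = k * r * k⁻¹ := by
      calc _ = k * (z * r * z⁻¹) * k⁻¹ := by group
        _ = _ := by rw [conj_eq (mc1.1 (zpowers_le.2 (mc1.2 yr.symm) hz))]
    rw [e1] at a c
    by_cases b : Commute r (k * r * k⁻¹)
    · exact A0 k hk a b c
    have x2 : k * r * k⁻¹ * (k * r * k⁻¹) = 1 := by
      rw [show k * r * k⁻¹ * (k * r * k⁻¹) = k * (r * r) * k⁻¹ by group, r2]; group
    obtain ⟨d, d1, d2, d3⟩ := two_step (P := centralizer ({r} : Set G)) r2 x2 ((pg_Tt y).to_le (sup_le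
      (zpowers_le.2 (hy.mem_Tt_of_sq r2 yr.symm)) (zpowers_le.2 (hy.mem_Tt_of_sq x2 c))))
      (mc1.2 rfl) fun f => b (mc1.1 f).symm
    have d4 : Commute d y := mc1.1 (zpowers_le.2 (mc1.2 (yr.mul_left c.symm)) d1)
    exact A0 d (zpowers_le.2 (mul_mem rK (Cf.cjm (le_normalizer hk) rK)) d1)
      (fun f => d2 (mc1.2 (cm_of_conj f))) (mc1.1 d3).symm
      ((d4.symm.mul_right yr.symm).mul_right d4.symm.inv_right)
  obtain ⟨n, n1, n2, n3⟩ := h.pair.exists_invol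
  have n4 : ¬ Commute r n := fun a => n3 ((h.pair.cen_r e n1).1 a)
  obtain ⟨d, d1, d2⟩ := dihedral_fix (P := centralizer ({r} : Set G)) n2 hy.sq (mc1.2 yr.symm)
    fun a => n4 (mc1.1 a).symm
  replace d1 : d ∈ K ⊔ zpowers y := sup_le_sup_right (zpowers_le.2 (LK n1)) _ d1
  have back : ∀ {x : G}, Commute (d⁻¹ * y * d) x → Commute y (d * x * d⁻¹) := fun a => by
    simpa [mul_assoc] using a.map (MulAut.conj d)
  rcases d2 with ⟨a, b⟩ | a
  · exact A d d1 (fun f => a (mc1.2 (cm_of_conj f))) (back (mc1.1 b))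
  have y2 : d⁻¹ * y * d * (d⁻¹ * y * d) = 1 := by
    rw [show d⁻¹ * y * d * (d⁻¹ * y * d) = d⁻¹ * (y * y) * d by group, hy.sq]; group
  have nb : ∀ {W : Subgroup G}, d⁻¹ * y * d ∈ normalizer (W : Set G) →
      y ∈ normalizer (conjS d W : Set G) := fun a => by rwa [← conjS_normalizer, mem_conjS]
  generalize d⁻¹ * y * d = y' at *
  have rW : r ∈ wA L := (h.pair.r_mem e).1
  have xW : n * r * n⁻¹ ∈ wA L := Cf.cjm (h.pair.normW n1) rW
  have x1 : n * r * n⁻¹ ≠ r := fun f => n4 (cm_of_conj f).symm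
  have f1 : y' * (n * r * n⁻¹) * y'⁻¹ = r := by
    calc _ = y' * n * r * (y' * n)⁻¹ := by group
      _ = _ := conj_eq (mc1.1 a)
  have x0 : n * r * n⁻¹ ≠ 1 := fun f => h.pair.r_ne e (by rw [← f1, f]; group)
  generalize n * r * n⁻¹ = x at *
  have f2 : y' * r * y'⁻¹ = x := by
    calc _ = y' * (y' * x * y'⁻¹) * y'⁻¹ := by rw [f1]
      _ = (y' * y') * x * (y' * y')⁻¹ := by group
      _ = _ := by rw [y2]; group
  have f3 : y' ∈ normalizer (wA L : Set G) := by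
    rw [h.pair.W_eq e xW fun f => ((h.pair.mem_R e).1 f).elim x0 x1, mem_normalizer_iff_conjS,
      conjS_sup, conjS_zp, conjS_zp, f1, f2, sup_comm]
  have f4 : Commute y' (r * x) := cm_of_conj (by
    calc _ = y' * r * y'⁻¹ * (y' * x * y'⁻¹) := by group
      _ = _ := by rw [f1, f2, (cm (h.pair.W_cen2 xW) rW).eq])
  obtain ⟨g, g1, g2⟩ := h.pair.conj_r e (mul_mem rW xW) fun f => x1 (by
    rw [eq_inv_of_mul_eq_one_right f, inv_eq_of_mul_eq_one_right r2])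
  have g3 : d * g⁻¹ * r * (d * g⁻¹)⁻¹ = d * (r * x) * d⁻¹ := by
    conv_lhs => rw [← g2]
    group
  have g4 : d * g⁻¹ ∈ K ⊔ zpowers y := mul_mem d1 (mem_sup_left (inv_mem (LK (pResOf_le _ g1))))
  by_cases b : d * g⁻¹ * r * (d * g⁻¹)⁻¹ = r
  · have := (h.bk e).conj (d * g⁻¹)
    rw [b, conj_eq (cu (cm (X := K ⊔ zpowers y) (by
      rw [centralizer_sup, Cf.cent_zpowers]
      exact ⟨mul_r_Kr u r, mc1.2 (hc.mul_left yr)⟩) g4).symm (cm_of_conj b)), conjS_mul,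
      mem_normalizer_iff_conjS.1 (h.pair.normW (inv_mem (pResOf_le _ g1)))] at this
    exact ⟨_, this, nb f3⟩
  · exact A _ g4 b (g3 ▸ back f4)

theorem inn_two (hG : St G) : Inn G 2 := by
  intro u y L L' h hy hc
  obtain ⟨r, e⟩ := h.pair.exists_r
  obtain ⟨V, h1, h2⟩ := h.noswap hG e hy hc
  obtain ⟨L₁, L₁', a, b, g, g1, g2, g3⟩ := h1.pres hG hy hc h2
  rw [e]
  exact ⟨g, a.le_Kr b (mem_sup_left g1), g2, r, mem_zpowers r, g3⟩

end CfsgLib.Baum
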